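import Cfsg.Agent.Lib.DicksonId.Torus
import Cfsg.Agent.Lib.Linear.Simple
import Cfsg.Agent.Lib.SL2Tori.Borel

/-!
Facts used to decide which subgroups of `PSL(2, F)` in Dickson's list are maximal.
-/

set_option autoImplicit false

namespace Cfsg.Agent.Lib.DicksonId

open Matrix Cfsg.Agent.Lib.Linear
open Cfsg.Agent.Lib.DicksonFull (pslExt slExt)

section Group

variable {G : Type*} [Group G] [Finite G]

theorem card_lt_of_ne_top {M : Subgroup G} (h : M ≠ ⊤) : Nat.card M < Nat.card G :=
  lt_of_le_of_ne (Subgroup.card_le_card_group M) fun e => h (Subgroup.eq_top_of_card_eq M e)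

/-- A non-trivial proper maximal subgroup of a simple group is its own normaliser. -/
theorem normalizer_eq_self_of_isCoatom [IsSimpleGroup G] {M : Subgroup G} (hM : IsCoatom M)
    (hM1 : M ≠ ⊥) : Subgroup.normalizer (M : Set G) = M := by
  by_contra hne
  have htop := hM.2 _ (lt_of_le_of_ne Subgroup.le_normalizer (Ne.symm hne))
  rcases (Subgroup.normalizer_eq_top_iff.mp htop).eq_bot_or_eq_top with e | e
  · exact hM1 e
  · exact hM.1 e

/-- In a simple group a maximal subgroup is the normaliser of each of its non-trivial normal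
subgroups. -/
theorem eq_normalizer_of_isCoatom [IsSimpleGroup G] {M X : Subgroup G} (hM : IsCoatom M)
    (hXM : X ≤ M) (hle : M ≤ Subgroup.normalizer (X : Set G)) (hX : X ≠ ⊥) :
    Subgroup.normalizer (X : Set G) = M := by
  by_contra hne
  have htop := hM.2 _ (lt_of_le_of_ne hle (Ne.symm hne))
  rcases (Subgroup.normalizer_eq_top_iff.mp htop).eq_bot_or_eq_top with e | e
  · exact hX e
  · exact hM.1 (top_le_iff.mp (e ▸ hXM))

/-- A maximal subgroup of prime power order is a Sylow subgroup, unless the whole group is one. -/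
theorem not_isCoatom_of_pgroup {r j : ℕ} [Fact r.Prime] (hG : ¬ IsPGroup r G) {M : Subgroup G}
    (hM : Nat.card M = r ^ j) (hd : r ^ (j + 1) ∣ Nat.card G) : ¬ IsCoatom M := by
  intro hc
  obtain ⟨S, hS⟩ := (IsPGroup.of_card hM).exists_le_sylow
  have hlt : Nat.card M < Nat.card (S : Subgroup G) := by
    have h1 := (Fact.out : r.Prime).pow_dvd_iff_le_factorization (Nat.card_pos (α := G)).ne' |>.mp hd
    rw [S.card_eq_multiplicity, hM]
    exact Nat.pow_lt_pow_right (Fact.out : r.Prime).one_lt h1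
  have htop := hc.2 _ (lt_of_le_of_ne hS fun e => hlt.ne (by rw [← e]))
  exact hG ((S.2.of_equiv ((MulEquiv.subgroupCongr htop).trans Subgroup.topEquiv)))

end Group

variable {F : Type*} [Field F] [Fintype F] {p : ℕ} [hp : Fact p.Prime] [CharP F p]

local notation "SL2" => Matrix.SpecialLinearGroup (Fin 2) F
local notation "M2" => Matrix (Fin 2) (Fin 2) F
local notation "PSL2" => Matrix.ProjectiveSpecialLinearGroup (Fin 2) F

omit hp [CharP F p] in
theorem isSimple (h4 : 4 ≤ Fintype.card F) : IsSimpleGroup PSL2 :=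
  isSimpleGroup_PSL le_rfl fun _ => by rwa [Nat.card_eq_fintype_card]

include hp in
omit [CharP F p] in
theorem card_PSL_mul [CharP F p] : Nat.gcd 2 (Fintype.card F - 1) * Nat.card PSL2 =
    Fintype.card F * ((Fintype.card F - 1) * (Fintype.card F + 1)) := by
  rw [gcd_mul_card_PSL_two, mul_assoc]

/-- `(q - 1) / d` and `(q + 1) / d` times `d`. -/
theorem gcd_mul_div {N : ℕ} (hN : N = Fintype.card F - 1 ∨ N = Fintype.card F + 1) :
    Nat.gcd 2 (Fintype.card F - 1) * (N / Nat.gcd 2 (Fintype.card F - 1)) = N := by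
  refine Nat.mul_div_cancel' ?_
  rcases hN with rfl | rfl
  · exact Nat.gcd_dvd_right _ _
  · have h1 := Nat.gcd_dvd_left 2 (Fintype.card F - 1)
    have h2 := Nat.gcd_dvd_right 2 (Fintype.card F - 1)
    have := Fintype.card_pos (α := F)
    rw [show Fintype.card F + 1 = (Fintype.card F - 1) + 2 by omega]
    exact Nat.dvd_add h2 h1

/-- A full torus through an element of order `k` prime to `p`. -/
theorem exists_torus_of_orderOf {x : PSL2} {k : ℕ} (hx : orderOf x = k) (hk : ¬ p ∣ k) (hk1 : 1 < k)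
    {N : ℕ} (hN : N = Fintype.card F - 1 ∨ N = Fintype.card F + 1)
    (hdvd : k ∣ N / Nat.gcd 2 (Fintype.card F - 1)) :
    ∃ y : PSL2, orderOf y = N / Nat.gcd 2 (Fintype.card F - 1) ∧ x ∈ Subgroup.zpowers y := by
  refine exists_torus (p := p) (fun h => ?_) hN (gcd_mul_div hN) ?_
  · rcases (Nat.dvd_prime hp.out).mp (hx ▸ orderOf_dvd_of_pow_eq_one h) with e | e <;> simp_all
  · exact orderOf_dvd_iff_pow_eq_one.mp (hx ▸ hdvd)

omit [Fintype F] hp [CharP F p] in
theorem commute_of_mem_zpowers {x y : PSL2} (h : x ∈ Subgroup.zpowers y) : Commute y x := by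
  obtain ⟨i, rfl⟩ := h
  exact (Commute.refl y).zpow_right i

omit [Fintype F] hp [CharP F p] in
theorem mem_normalizer_zpowers {G : Type*} [Group G] [Finite G] {x w : G}
    (h : w * x * w⁻¹ ∈ Subgroup.zpowers x) :
    w ∈ Subgroup.normalizer (Subgroup.zpowers x : Set G) := by
  refine PSLTwo.Sylow.mem_normalizer_of_conj_mem fun a ha => ?_
  obtain ⟨i, rfl⟩ := Subgroup.mem_zpowers_iff.mp ha
  rw [← conj_zpow]
  exact Subgroup.zpow_mem _ h i

include hp in
omit [CharP F p] in
/-- A maximal subgroup of order two or one is impossible. -/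
theorem two_lt_card_of_isCoatom [CharP F p] (h4 : 4 ≤ Fintype.card F) {M : Subgroup PSL2} (hM : IsCoatom M) :
    2 < Nat.card M := by
  by_contra hle
  have hpos : 0 < Nat.card M := Nat.card_pos
  haveI := isSimple (F := F) h4
  have hc := card_PSL_mul (F := F) (p := p)
  obtain ⟨n, hn⟩ : ∃ n, Fintype.card F = n + 4 := ⟨Fintype.card F - 4, by omega⟩
  have he : Nat.gcd 2 (Fintype.card F - 1) ≤ 2 := Nat.le_of_dvd two_pos (Nat.gcd_dvd_left _ _)
  have h60 : 30 ≤ Nat.card PSL2 := by
    have h1 : 4 * (3 * 5) ≤ Fintype.card F * ((Fintype.card F - 1) * (Fintype.card F + 1)) :=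
      Nat.mul_le_mul h4 (Nat.mul_le_mul (by omega) (by omega))
    have h2 := Nat.mul_le_mul_right (Nat.card PSL2) he
    omega
  have h4d : 4 ∣ Nat.card PSL2 := by
    by_cases hp2 : p = 2
    · subst hp2
      obtain ⟨f, -, hq⟩ := exists_card_eq_pow (F := F) 2
      rw [gcd_two_eq (p := 2), if_pos rfl, one_mul] at hc
      rw [hc]
      refine dvd_mul_of_dvd_left ?_ _
      rw [hq] at h4 ⊢
      have : 2 ≤ f := by
        by_contra hf
        interval_cases f <;> simp at h4
      exact pow_dvd_pow 2 this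
    · rw [gcd_two_eq (p := p), if_neg hp2] at hc
      obtain ⟨f, -, hq⟩ := exists_card_eq_pow (F := F) p
      have hodd : Fintype.card F % 2 = 1 := hq ▸ Nat.odd_iff.mp (hp.out.odd_of_ne_two hp2).pow
      obtain ⟨u, hu⟩ : ∃ u, Fintype.card F = 2 * u + 1 := ⟨Fintype.card F / 2, by omega⟩
      rw [hu, show 2 * u + 1 - 1 = 2 * u by omega] at hc
      obtain ⟨w, hw⟩ := Nat.even_mul_succ_self u
      have h8 : 2 * Nat.card PSL2 = 2 * (4 * (w * (2 * u + 1))) := by
        rw [hc, show (2 * u + 1) * (2 * u * (2 * u + 1 + 1)) = 4 * (u * (u + 1)) * (2 * u + 1) by ring, hw]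
        ring
      exact Dvd.intro _ (Nat.eq_of_mul_eq_mul_left two_pos h8).symm
  rcases (show Nat.card M = 1 ∨ Nat.card M = 2 by omega) with e | e
  · haveI : Fact (Nat.Prime 2) := ⟨Nat.prime_two⟩
    obtain ⟨y, hy⟩ := exists_prime_orderOf_dvd_card' (G := PSL2) 2 (dvd_trans (by norm_num) h4d)
    have hb : M = ⊥ := Subgroup.card_eq_one.mp e
    have := hM.2 (Subgroup.zpowers y) (hb ▸ bot_lt_iff_ne_bot.mpr fun h => by
      rw [Subgroup.zpowers_eq_bot] at h; simp [h] at hy)
    have h2 := congrArg (fun S : Subgroup PSL2 => Nat.card S) this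
    simp only [Nat.card_zpowers, hy, Subgroup.card_top] at h2
    omega
  · haveI : Fact (Nat.Prime 2) := ⟨Nat.prime_two⟩
    refine not_isCoatom_of_pgroup (r := 2) (j := 1) (fun h => ?_) (by rw [e, pow_one]) h4d hM
    -- `PSL(2, q)` is not a `2`-group
    obtain ⟨a, b, hab⟩ := exists_not_commute_PSL (F := F) (ι := Fin 2)
      (commutator_SL_eq_top le_rfl fun _ => by rwa [Nat.card_eq_fintype_card])
    haveI : Nontrivial PSL2 := Finite.one_lt_card_iff_nontrivial.mp (by omega)
    haveI := h.center_nontrivial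
    rcases (inferInstance : (Subgroup.center PSL2).Normal).eq_bot_or_eq_top with e' | e'
    · exact Subgroup.nontrivial_iff_ne_bot _ |>.mp inferInstance e'
    · exact hab (Subgroup.mem_center_iff.mp (e' ▸ Subgroup.mem_top b) a)

/-- A cyclic subgroup of order prime to `p` is not maximal. -/
theorem not_isCoatom_of_isCyclic (h4 : 4 ≤ Fintype.card F) {M : Subgroup PSL2} (hc : IsCyclic M)
    (hpM : ¬ p ∣ Nat.card M) : ¬ IsCoatom M := by
  intro hM
  haveI := isSimple (F := F) h4
  have h2 := two_lt_card_of_isCoatom (p := p) h4 hM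
  obtain ⟨x, hx⟩ := M.isCyclic_iff_exists_zpowers_eq_top.mp hc
  have hord : orderOf x = Nat.card M := by rw [← hx, Nat.card_zpowers]
  have hxp : x ^ p ≠ 1 := fun h => by
    rcases (Nat.dvd_prime hp.out).mp (hord ▸ orderOf_dvd_of_pow_eq_one h) with e | e
    · omega
    · exact hpM e.symm.dvd
  obtain ⟨w, hw⟩ := exists_inverting_psl (p := p) hxp
  have hN := normalizer_eq_self_of_isCoatom hM (fun h => by rw [h, Subgroup.card_bot] at h2; omega)
  have hwM : w ∈ M := by
    rw [← hN, ← hx]
    exact mem_normalizer_zpowers (by rw [hw]; exact Subgroup.inv_mem _ (Subgroup.mem_zpowers x))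
  rw [← hx] at hwM
  rw [(commute_of_mem_zpowers hwM).symm.eq, mul_inv_cancel_right] at hw
  have := orderOf_dvd_of_pow_eq_one (show x ^ 2 = 1 by rw [pow_two]; nth_rewrite 2 [hw]; exact mul_inv_cancel x)
  rw [hord] at this
  have := Nat.le_of_dvd two_pos this
  omega

omit [Fintype F] hp [CharP F p] in
theorem dihedral_not_comm {k : ℕ} (hk : 3 ≤ k) :
    ¬ ∀ a b : DihedralGroup k, a * b = b * a := by
  intro h
  have := h (DihedralGroup.r 1) (DihedralGroup.sr 0)
  rw [DihedralGroup.r_mul_sr, DihedralGroup.sr_mul_r, DihedralGroup.sr.injEq, zero_add, zero_sub] at this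
  have h2 : ((2 : ℕ) : ZMod k) = 0 := by
    push_cast
    linear_combination (-1) * this
  rw [ZMod.natCast_eq_zero_iff] at h2
  have := Nat.le_of_dvd two_pos h2
  omega

/-- A maximal dihedral subgroup contains a full torus through its rotations. -/
theorem torus_of_isCoatom_dihedral (h4 : 4 ≤ Fintype.card F) {M : Subgroup PSL2} (hM : IsCoatom M)
    {k : ℕ} (hk : ¬ p ∣ k) (hk1 : 1 < k) {x : PSL2} (hxM : x ∈ M) (hx : orderOf x = k)
    (he : Nonempty (M ≃* DihedralGroup k)) {N : ℕ}
    (hN : N = Fintype.card F - 1 ∨ N = Fintype.card F + 1)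
    (hdvd : k ∣ N / Nat.gcd 2 (Fintype.card F - 1)) :
    N / Nat.gcd 2 (Fintype.card F - 1) = k := by
  obtain ⟨e⟩ := he
  haveI := isSimple (F := F) h4
  obtain ⟨y, hy, hxy⟩ := exists_torus_of_orderOf (p := p) hx hk hk1 hN hdvd
  have hcard : Nat.card M = 2 * k := by rw [Nat.card_congr e.toEquiv, DihedralGroup.nat_card]
  have hle : Subgroup.zpowers x ≤ M := Subgroup.zpowers_le.mpr hxM
  have hidx : ((Subgroup.zpowers x).subgroupOf M).index = 2 := by
    have h1 := Subgroup.card_mul_index ((Subgroup.zpowers x).subgroupOf M)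
    rw [Nat.card_congr (Subgroup.subgroupOfEquivOfLe hle).toEquiv, Nat.card_zpowers, hx, hcard,
      mul_comm 2 k] at h1
    exact Nat.eq_of_mul_eq_mul_left (by omega) h1
  haveI := Subgroup.normal_of_index_eq_two hidx
  have hMN : M ≤ Subgroup.normalizer (Subgroup.zpowers x : Set PSL2) :=
    Subgroup.normal_subgroupOf_iff_le_normalizer hle |>.mp inferInstance
  have hN' := eq_normalizer_of_isCoatom hM hle hMN (fun h => by
    rw [Subgroup.zpowers_eq_bot] at h; rw [h, orderOf_one] at hx; omega)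
  have hyM : y ∈ M := by
    rw [← hN']
    refine mem_normalizer_zpowers ?_
    rw [(commute_of_mem_zpowers hxy).eq, mul_inv_cancel_right]
    exact Subgroup.mem_zpowers x
  rw [← hy]
  refine Nat.dvd_antisymm ?_ (hx ▸ ?_)
  · have hd : orderOf (e ⟨y, hyM⟩) ∣ k := by
      rcases hq : e ⟨y, hyM⟩ with i | i
      · haveI : NeZero k := ⟨by omega⟩
        rw [DihedralGroup.orderOf_r]
        exact Nat.div_dvd_of_dvd (Nat.gcd_dvd_left _ _)
      · rw [DihedralGroup.orderOf_sr]
        -- an involution of the torus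
        have h1 : orderOf y = 2 := by
          rw [← Subgroup.orderOf_mk y hyM, ← e.orderOf_eq, hq, DihedralGroup.orderOf_sr]
        obtain ⟨j, hj⟩ := hxy
        have hxd : orderOf x ∣ orderOf y := by
          rw [← hj]
          exact orderOf_dvd_of_pow_eq_one (by
            rw [← zpow_natCast, ← _root_.zpow_mul, mul_comm, _root_.zpow_mul, zpow_natCast, pow_orderOf_eq_one, _root_.one_zpow])
        rw [hx, h1] at hxd
        exact ((Nat.dvd_prime Nat.prime_two).mp hxd).resolve_left (by omega) ▸ dvd_rfl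
    rwa [e.orderOf_eq, Subgroup.orderOf_mk] at hd
  · obtain ⟨j, hj⟩ := hxy
    rw [← hj]
    exact orderOf_dvd_of_pow_eq_one (by
      rw [← zpow_natCast, ← _root_.zpow_mul, mul_comm, _root_.zpow_mul, zpow_natCast, pow_orderOf_eq_one, _root_.one_zpow])

/-- The normaliser of a Sylow subgroup in the defining characteristic. -/
theorem card_normalizer_sylow (P : Sylow p PSL2) :
    Nat.gcd 2 (Fintype.card F - 1) *
      Nat.card (Subgroup.normalizer ((P : Subgroup PSL2) : Set PSL2)) =
      Fintype.card F * (Fintype.card F - 1) := by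
  set U : Sylow p PSL2 :=
    (sylowU_SL (F := F) p).mapSurjective (f := QuotientGroup.mk' _) (QuotientGroup.mk'_surjective _)
  have hconj : Nat.card (Subgroup.normalizer ((P : Subgroup PSL2) : Set PSL2)) =
      Nat.card (Subgroup.normalizer ((U : Subgroup PSL2) : Set PSL2)) := by
    have h1 := Subgroup.card_mul_index (Subgroup.normalizer ((P : Subgroup PSL2) : Set PSL2))
    have e : (Subgroup.normalizer ((P : Subgroup PSL2) : Set PSL2)).index =
        (Subgroup.normalizer ((U : Subgroup PSL2) : Set PSL2)).index :=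
      (P.card_eq_index_normalizer).symm.trans U.card_eq_index_normalizer
    rw [e, ← Subgroup.card_mul_index (Subgroup.normalizer ((U : Subgroup PSL2) : Set PSL2))] at h1
    exact Nat.eq_of_mul_eq_mul_right (Nat.pos_of_ne_zero Subgroup.index_ne_zero_of_finite) h1
  have hU : (U : Subgroup PSL2) = (uSL (F := F)).range.map (QuotientGroup.mk' (Subgroup.center SL2)) := rfl
  have hpre : pre (Subgroup.normalizer ((U : Subgroup PSL2) : Set PSL2)) = SL2Tori.Borel.borel := by
    ext M
    rw [SL2Tori.Borel.mem_borel, mem_pre]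
    constructor
    · intro hM
      have hmem : ((uSL (Multiplicative.ofAdd (1 : F)) : SL2) : PSL2) ∈ (U : Subgroup PSL2) :=
        hU ▸ ⟨_, ⟨_, rfl⟩, rfl⟩
      have h2 := (Subgroup.mem_normalizer_iff.mp hM _).mp hmem
      rw [hU] at h2
      obtain ⟨_, ⟨s, rfl⟩, hs⟩ := h2
      have hconj : ((uSL s * M : SL2) : PSL2) = ((M * uSL (Multiplicative.ofAdd (1 : F)) : SL2) : PSL2) := by
        rw [QuotientGroup.mk_mul, QuotientGroup.mk_mul, show ((uSL s : SL2) : PSL2) = _ from hs,
          inv_mul_cancel_right]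
      obtain ⟨c, hc⟩ := (AutPSL.mk_eq_mk_iff _ _).mp hconj
      have e10 := congrFun (congrFun hc 1) 0
      have e11 := congrFun (congrFun hc 1) 1
      simp [Matrix.mul_apply, Fin.sum_univ_two, coe_uSL, Matrix.vecMul, dotProduct] at e10 e11
      by_contra h10
      have hc1 : c = 1 := by
        apply mul_right_cancel₀ h10
        linear_combination (-1) * e10
      rw [hc1] at e11
      exact h10 (by linear_combination e11)
    · intro hM
      refine PSLTwo.Sylow.mem_normalizer_of_conj_mem fun a ha => ?_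
      rw [hU] at ha ⊢
      obtain ⟨u, hu, rfl⟩ := ha
      refine ⟨M * u * M⁻¹, ?_, rfl⟩
      rw [← upper_conj_uSL hM]
      exact Subgroup.smul_mem_pointwise_smul u (MulAut.conj M) _ hu
  have h := card_pre (Subgroup.normalizer ((U : Subgroup PSL2) : Set PSL2))
  rw [hpre, SL2Tori.Borel.card_borel] at h
  rw [hconj, ← h, mul_comm]

omit hp [CharP F p] in
theorem slExt_mem_range {K : Type*} [Field K] (φ : K →+* F) {x : SL2}
    (hx : ∀ i j, (x : M2) i j ∈ Set.range φ) : x ∈ (slExt φ).range := by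
  choose c hc using hx
  refine ⟨⟨Matrix.of c, φ.injective ?_⟩, Subtype.ext (Matrix.ext fun i j => hc i j)⟩
  have hd := sl2_det x
  rw [← hc, ← hc, ← hc, ← hc, ← map_mul, ← map_mul, ← map_sub] at hd
  rw [Matrix.det_fin_two, map_one]
  exact hd

/-- Comparable subfields. -/
theorem range_le_range {k k' : ℕ} (hk : 0 < k') (hdvd : k ∣ k') (φ : GaloisField p k →+* F)
    (φ' : GaloisField p k' →+* F) : Set.range φ ⊆ Set.range φ' := by
  classical
  rcases Nat.eq_zero_or_pos k with rfl | hk0
  · obtain ⟨c, hc⟩ := hdvd; omega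
  letI : Fintype (GaloisField p k) := Fintype.ofFinite _
  letI : Fintype (GaloisField p k') := Fintype.ofFinite _
  have hc : Fintype.card (GaloisField p k) = p ^ k := by rw [← Nat.card_eq_fintype_card, GaloisField.card p k hk0.ne']
  have hc' : Fintype.card (GaloisField p k') = p ^ k' := by rw [← Nat.card_eq_fintype_card, GaloisField.card p k' hk.ne']
  set q' := p ^ k'
  have hq' : 1 < q' := Nat.one_lt_pow hk.ne' hp.out.one_lt
  set P : Polynomial F := Polynomial.X ^ q' - Polynomial.X
  have hne : P ≠ 0 := FiniteField.X_pow_card_sub_X_ne_zero F hq'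
  have hle : P.roots.card ≤ q' :=
    (Polynomial.card_roots' _).trans (FiniteField.X_pow_card_sub_X_natDegree_eq F hq').le
  have hmem : ∀ z : F, z ^ q' = z → z ∈ P.roots := fun z hz => by
    rw [Polynomial.mem_roots hne]; simp [P, hz]
  have hsub : Finset.univ.image φ' ⊆ P.roots.toFinset := by
    intro z hz
    obtain ⟨a, -, rfl⟩ := Finset.mem_image.mp hz
    rw [Multiset.mem_toFinset]
    refine hmem _ ?_
    rw [← map_pow, show q' = Fintype.card (GaloisField p k') from hc'.symm, FiniteField.pow_card]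
  have heq := Finset.eq_of_subset_of_card_le hsub (by
    rw [Finset.card_image_of_injective _ φ'.injective, Finset.card_univ, hc']
    exact (Multiset.toFinset_card_le _).trans hle)
  rintro _ ⟨a, rfl⟩
  have ha : φ a ∈ P.roots.toFinset := by
    rw [Multiset.mem_toFinset]
    refine hmem _ ?_
    obtain ⟨r, rfl⟩ := hdvd
    rw [← map_pow, show q' = (Fintype.card (GaloisField p k)) ^ r by rw [hc, ← pow_mul],
      FiniteField.pow_card_pow]
  rw [← heq, Finset.mem_image] at ha
  obtain ⟨b, -, hb⟩ := ha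
  exact ⟨b, hb⟩

theorem pslExt_range_le_range {k k' : ℕ} (hk : 0 < k') (hdvd : k ∣ k') (φ : GaloisField p k →+* F)
    (φ' : GaloisField p k' →+* F) : (pslExt φ).range ≤ (pslExt φ').range := by
  rintro _ ⟨z, rfl⟩
  obtain ⟨x, rfl⟩ := QuotientGroup.mk_surjective z
  obtain ⟨y, hy⟩ := slExt_mem_range φ' (x := slExt φ x) fun i j => range_le_range hk hdvd φ φ' ⟨_, rfl⟩
  exact ⟨(y : Matrix.ProjectiveSpecialLinearGroup (Fin 2) (GaloisField p k')), by
    rw [DicksonFull.pslExt_mk, DicksonFull.pslExt_mk, hy]⟩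

theorem card_pslExt_range {k : ℕ} (hk : 0 < k) (φ : GaloisField p k →+* F) :
    Nat.gcd 2 (Fintype.card F - 1) * Nat.card (pslExt φ).range = p ^ k * ((p ^ k - 1) * (p ^ k + 1)) := by
  letI : Fintype (GaloisField p k) := Fintype.ofFinite _
  have hc : Fintype.card (GaloisField p k) = p ^ k := by rw [← Nat.card_eq_fintype_card, GaloisField.card p k hk.ne']
  rw [← Nat.card_congr (MonoidHom.ofInjective (DicksonFull.pslExt_injective φ)).toEquiv]
  have := card_PSL_mul (F := GaloisField p k) (p := p)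
  rw [gcd_two_eq (p := p), hc] at this
  rw [gcd_two_eq (p := p), this]

theorem form_strictMono {a b : ℕ} (ha : 1 ≤ a) (hab : a < b) :
    a * ((a - 1) * (a + 1)) < b * ((b - 1) * (b + 1)) :=
  Nat.mul_lt_mul'' hab (Nat.mul_lt_mul'' (by omega) (by omega))

/-- A maximal subfield group of `PSL` type lies over no intermediate field. -/
theorem prime_of_isCoatom_pslExt {M : Subgroup PSL2} (hM : IsCoatom M) {k : ℕ} (hk : 0 < k)
    {g : GL (Fin 2) F} {φ : GaloisField p k →+* F} (h : conjG g M = (pslExt φ).range) :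
    ∃ r, r.Prime ∧ Fintype.card F = p ^ (k * r) ∧
      ∀ f, Fintype.card F = p ^ f → f = k * r := by
  obtain ⟨f, hf, hq⟩ := exists_card_eq_pow (F := F) p
  have huniq : ∀ f', Fintype.card F = p ^ f' → f' = f := fun f' h' =>
    Nat.pow_right_injective hp.out.two_le (h'.symm.trans hq)
  letI : Fintype (GaloisField p k) := Fintype.ofFinite _
  have hkf : k ∣ f := by
    have hpow := FiniteField.pow_finrank_eq_natCard p (GaloisField p k)
    rw [GaloisField.finrank p hk.ne'] at hpow
    letI := φ.toAlgebra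
    have hcard := Module.natCard_eq_pow_finrank (K := GaloisField p k) (V := F)
    rw [GaloisField.card p k hk.ne', Nat.card_eq_fintype_card, hq, ← pow_mul] at hcard
    exact ⟨_, Nat.pow_right_injective hp.out.two_le hcard⟩
  obtain ⟨r, rfl⟩ := hkf
  have hMtop : Nat.card M < Nat.card PSL2 := card_lt_of_ne_top hM.1
  have hr1 : r ≠ 1 := by
    rintro rfl
    rw [mul_one] at hq
    have h1 := card_pslExt_range hk φ
    rw [← hq, ← card_PSL_mul (p := p), ← h, card_conjG] at h1
    exact hMtop.ne (Nat.eq_of_mul_eq_mul_left (Nat.gcd_pos_of_pos_left _ two_pos) h1)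
  have hr0 : r ≠ 0 := by rintro rfl; simp at hf
  refine ⟨r, ?_, hq, huniq⟩
  by_contra hnp
  obtain ⟨s, hs1, hs2, hs3⟩ := Nat.exists_dvd_of_not_prime2 (by omega) hnp
  obtain ⟨t, rfl⟩ := hs1
  letI : Fintype (GaloisField p (k * s)) := Fintype.ofFinite _
  obtain ⟨φ'⟩ := DicksonFull.exists_ringHom (K := GaloisField p (k * s)) (F := F) (p := p) (e := k * s) (r := t)
    (by rw [← Nat.card_eq_fintype_card, GaloisField.card p _ (Nat.mul_ne_zero hk.ne' (by omega))])
    (by rw [hq, mul_assoc])
  have hks : 0 < k * s := Nat.mul_pos hk (by omega)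
  have hle := pslExt_range_le_range hks (dvd_mul_right k s) φ φ'
  have h1 := card_pslExt_range hk φ
  have h2 := card_pslExt_range hks φ'
  have hlt1 : p ^ k < p ^ (k * s) := Nat.pow_lt_pow_right hp.out.one_lt (by nlinarith)
  have hlt2 : p ^ (k * s) < Fintype.card F := by
    rw [hq]
    exact Nat.pow_lt_pow_right hp.out.one_lt (Nat.mul_lt_mul_of_pos_left (by nlinarith) hk)
  have hpk : 1 ≤ p ^ k := Nat.one_le_pow _ _ hp.out.pos
  have he : 0 < Nat.gcd 2 (Fintype.card F - 1) := Nat.gcd_pos_of_pos_left _ two_pos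
  have hne : Nat.card (pslExt φ).range < Nat.card (pslExt φ').range :=
    Nat.lt_of_mul_lt_mul_left (by rw [h1, h2]; exact form_strictMono hpk hlt1)
  have hne' : Nat.card (pslExt φ').range < Nat.card PSL2 :=
    Nat.lt_of_mul_lt_mul_left (by
      rw [h2, card_PSL_mul (p := p)]; exact form_strictMono (Nat.one_le_pow _ _ hp.out.pos) hlt2)
  have hMlt : M < (pslExt φ').range.map (AutPSL.conjAut g⁻¹).toMonoidHom := by
    have hMeq : M = conjG g⁻¹ (pslExt φ).range := by
      rw [← h, ← conjG_mul, inv_mul_cancel, conjG_one]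
    refine lt_of_le_of_ne (hMeq ▸ conjG_mono g⁻¹ hle) fun e => ?_
    have := congrArg (fun S : Subgroup PSL2 => Nat.card S) e
    simp only [card_conjG] at this
    rw [hMeq, card_conjG] at this
    omega
  have htop := congrArg (fun S : Subgroup PSL2 => Nat.card S) (hM.2 _ hMlt)
  simp only [card_conjG, Subgroup.card_top] at htop
  omega

end Cfsg.Agent.Lib.DicksonId
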