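import Cfsg.Agent.Lib.DicksonId.MaxPSL

/-!
Maximal dihedral and subfield subgroups of `PSL(2, q)`, `q` odd.
-/

set_option autoImplicit false

namespace Cfsg.Agent.Lib.DicksonId

open Matrix Cfsg.Agent.Lib.Linear
open Cfsg.Agent.Lib.DicksonFull (pslExt slExt)

variable {F : Type*} [Field F] [Fintype F] {p : ℕ} [hp : Fact p.Prime] [CharP F p]

local notation "SL2" => Matrix.SpecialLinearGroup (Fin 2) F
local notation "M2" => Matrix (Fin 2) (Fin 2) F
local notation "PSL2" => Matrix.ProjectiveSpecialLinearGroup (Fin 2) F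

/-- `S₄` has a copy in `PSL(2, 7)` and `PSL(2, 9)`. -/
theorem exists_octa (h2 : (2 : F) ≠ 0) (h : Fintype.card F % 8 = 1 ∨ Fintype.card F % 8 = 7) :
    ∃ φ : Equiv.Perm (Fin 4) →* PSL2, Function.Injective φ := by
  obtain ⟨r, hr⟩ := exists_sqrt_two h2 h
  exact DicksonFull.exists_perm_four h2 hr

theorem exists_icosa (h2 : (2 : F) ≠ 0) (h : Fintype.card F % 5 = 1 ∨ Fintype.card F % 5 = 4) :
    ∃ φ : alternatingGroup (Fin 5) →* PSL2, Function.Injective φ := by
  obtain ⟨r, hr⟩ := isSquare_five h2 h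
  exact DicksonFull.exists_alt_five h2 hr

/-- An order three element inverted by an involution in `S₄`. -/
theorem octa_pair (φ : Equiv.Perm (Fin 4) →* PSL2) (hφ : Function.Injective φ) :
    ∃ y b : PSL2, y ∈ φ.range ∧ b ∈ φ.range ∧ orderOf y = 3 ∧ orderOf b = 2 ∧ b * y * b⁻¹ = y⁻¹ := by
  haveI : Fact (Nat.Prime 2) := ⟨Nat.prime_two⟩
  haveI : Fact (Nat.Prime 3) := ⟨Nat.prime_three⟩
  refine ⟨φ (Equiv.swap 0 1 * Equiv.swap 1 2), φ (Equiv.swap 0 1), ⟨_, rfl⟩, ⟨_, rfl⟩, ?_, ?_, ?_⟩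
  · rw [orderOf_injective φ hφ]
    exact orderOf_eq_prime (by decide +kernel) (by decide +kernel)
  · rw [orderOf_injective φ hφ]
    exact orderOf_eq_prime (by decide +kernel) (by decide +kernel)
  · rw [← map_inv, ← map_inv, ← map_mul, ← map_mul]
    congr 1
    decide +kernel

/-- An order five element inverted by an involution in `A₅`. -/
theorem icosa_pair (φ : alternatingGroup (Fin 5) →* PSL2) (hφ : Function.Injective φ) :
    ∃ y b : PSL2, y ∈ φ.range ∧ b ∈ φ.range ∧ orderOf y = 5 ∧ orderOf b = 2 ∧ b * y * b⁻¹ = y⁻¹ := by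
  haveI : Fact (Nat.Prime 2) := ⟨Nat.prime_two⟩
  haveI : Fact (Nat.Prime 5) := ⟨by norm_num⟩
  let y : alternatingGroup (Fin 5) :=
    ⟨Equiv.swap 0 1 * Equiv.swap 1 2 * Equiv.swap 2 3 * Equiv.swap 3 4,
      Equiv.Perm.mem_alternatingGroup.mpr (by decide +kernel)⟩
  let b : alternatingGroup (Fin 5) :=
    ⟨Equiv.swap 1 4 * Equiv.swap 2 3, Equiv.Perm.mem_alternatingGroup.mpr (by decide +kernel)⟩
  refine ⟨φ y, φ b, ⟨_, rfl⟩, ⟨_, rfl⟩, ?_, ?_, ?_⟩
  · rw [orderOf_injective φ hφ]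
    exact orderOf_eq_prime (by decide +kernel) (by decide +kernel)
  · rw [orderOf_injective φ hφ]
    exact orderOf_eq_prime (by decide +kernel) (by decide +kernel)
  · rw [← map_inv, ← map_inv, ← map_mul, ← map_mul]
    congr 1
    decide +kernel

/-- The order of `k` for a maximal dihedral subgroup, with the small exceptions. -/
theorem max_dihedral (hp2 : p ≠ 2) (h5 : 5 ≤ Fintype.card F) {M : Subgroup PSL2} (hM : IsCoatom M)
    {k : ℕ} (hk : ¬ p ∣ k) {x : PSL2} (hxM : x ∈ M) (hx : orderOf x = k)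
    (he : Nonempty (M ≃* DihedralGroup k)) :
    (13 ≤ Fintype.card F ∧ 2 * k = Fintype.card F - 1) ∨
      (Fintype.card F ≠ 7 ∧ Fintype.card F ≠ 9 ∧ 2 * k = Fintype.card F + 1) := by
  have h4 : 4 ≤ Fintype.card F := by omega
  haveI := isSimple (F := F) h4
  obtain ⟨f, hf, hq⟩ := exists_card_eq_pow (F := F) p
  have hodd : Fintype.card F % 2 = 1 := hq ▸ Nat.odd_iff.mp (hp.out.odd_of_ne_two hp2).pow
  have h2 : (2 : F) ≠ 0 := two_ne_zero_of_char (p := p) hp2
  have hcard : Nat.card M = 2 * k := by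
    obtain ⟨e⟩ := he
    rw [Nat.card_congr e.toEquiv, DihedralGroup.nat_card]
  have hk1 : 1 < k := by
    have := two_lt_card_of_isCoatom (p := p) h4 hM
    omega
  have hG := two_mul_card_PSL (F := F) hp2
  have hval : 2 * k = Fintype.card F - 1 ∨ 2 * k = Fintype.card F + 1 := by
    rcases orderOf_dvd_of_not_dvd (p := p) (x := x) (hx ▸ hk) with hd | hd <;> rw [hx] at hd
    · right
      rw [← torus_of_isCoatom_dihedral (p := p) h4 hM hk hk1 hxM hx he (Or.inr rfl) hd,
        gcd_two_eq (p := p), if_neg hp2]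
      omega
    · left
      rw [← torus_of_isCoatom_dihedral (p := p) h4 hM hk hk1 hxM hx he (Or.inl rfl) hd,
        gcd_two_eq (p := p), if_neg hp2]
      omega
  haveI : Fact (Nat.Prime 2) := ⟨Nat.prime_two⟩
  haveI : Fact (Nat.Prime 3) := ⟨Nat.prime_three⟩
  haveI : Fact (Nat.Prime 5) := ⟨by norm_num⟩
  have octa8 : Fintype.card F = 7 ∨ Fintype.card F = 9 → k ≠ 4 := by
    intro hq79 hk4
    subst hk4
    obtain ⟨φ, hφ⟩ := exists_octa (F := F) h2 (by omega)
    have hX := card_of_equiv_perm_four (G := φ.range) ⟨(MonoidHom.ofInjective hφ).symm⟩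
    refine false_of_sylow (r := 2) (j := 3) hM (by rw [hcard]; norm_num) ?_ (by rw [hX]; norm_num)
      (by omega : Nat.card M < Nat.card φ.range) ?_
    · rcases hq79 with e | e <;> rw [e] at hG <;> intro hd <;> norm_num at hG hd <;> omega
    · rcases hq79 with e | e <;> rw [e] at hG <;> norm_num at hG <;> omega
  have octa6 : Fintype.card F = 7 → k ≠ 3 := by
    intro e hk3
    subst hk3
    rw [e] at hG
    norm_num at hG
    obtain ⟨φ, hφ⟩ := exists_octa (F := F) h2 (by omega)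
    have hX := card_of_equiv_perm_four (G := φ.range) ⟨(MonoidHom.ofInjective hφ).symm⟩
    obtain ⟨y, b, hy, hb, hyr, hb2, hinv⟩ := octa_pair φ hφ
    refine false_of_normalizer (r := 3) (by norm_num) hM (by rw [hcard]) hxM hx ?_ hy hb hyr hb2 hinv
      (by omega : Nat.card M < Nat.card φ.range) (by omega)
    intro hd; norm_num at hd; omega
  have icosa10 : Fintype.card F = 9 ∨ Fintype.card F = 11 → k ≠ 5 := by
    intro hq hk5
    subst hk5
    obtain ⟨φ, hφ⟩ := exists_icosa (F := F) h2 (by omega)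
    have hX := card_of_equiv_alt_five (G := φ.range) ⟨(MonoidHom.ofInjective hφ).symm⟩
    obtain ⟨y, b, hy, hb, hyr, hb2, hinv⟩ := icosa_pair φ hφ
    refine false_of_normalizer (r := 5) (by norm_num) hM (by rw [hcard]) hxM hx ?_ hy hb hyr hb2 hinv
      (by omega : Nat.card M < Nat.card φ.range) ?_
    · rcases hq with e | e <;> rw [e] at hG <;> intro hd <;> norm_num at hG hd <;> omega
    · rcases hq with e | e <;> rw [e] at hG <;> norm_num at hG <;> omega
  have tetra4 : Fintype.card F = 5 → k ≠ 2 := by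
    intro e hk2
    subst hk2
    rw [e] at hG
    norm_num at hG
    obtain ⟨φ, hφ⟩ := DicksonFull.exists_alt_four (F := F) h2
    have hX := card_of_equiv_alt_four (G := φ.range) ⟨(MonoidHom.ofInjective hφ).symm⟩
    refine false_of_sylow (r := 2) (j := 2) hM (by rw [hcard]; norm_num) ?_ (by rw [hX]; norm_num)
      (by omega : Nat.card M < Nat.card φ.range) (by omega)
    intro hd; norm_num at hd; omega
  rcases hval with hv | hv
  · refine Or.inl ⟨?_, hv⟩
    by_contra hlt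
    rcases (show Fintype.card F = 5 ∨ Fintype.card F = 7 ∨ Fintype.card F = 9 ∨ Fintype.card F = 11 by omega)
      with e | e | e | e
    · exact tetra4 e (by omega)
    · exact octa6 e (by omega)
    · exact octa8 (Or.inr e) (by omega)
    · exact icosa10 (Or.inr e) (by omega)
  · refine Or.inr ⟨fun e => octa8 (Or.inl e) (by omega), fun e => icosa10 (Or.inl e) (by omega), hv⟩

/-- A maximal group of `PSL` type over a subfield. -/
theorem max_pslExt (hp2 : p ≠ 2) {M : Subgroup PSL2} (hM : IsCoatom M) {k : ℕ} (hk : 0 < k)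
    (hk3 : 3 ≤ p ^ k) {g : GL (Fin 2) F} {φ : GaloisField p k →+* F}
    (h : conjG g M = (pslExt φ).range) :
    ∃ r, r.Prime ∧ Odd r ∧ Fintype.card F = p ^ (k * r) := by
  obtain ⟨r, hr, hq, -⟩ := prime_of_isCoatom_pslExt hM hk h
  refine ⟨r, hr, ?_, hq⟩
  by_contra hev
  have hr2 : r = 2 := hr.eq_two_or_odd'.resolve_right hev
  subst hr2
  letI : Fintype (GaloisField p k) := Fintype.ofFinite _
  obtain ⟨ψ, hψ⟩ := exists_isPglHom φ (isSquare_emb hp2 hk hq (by rw [mul_comm]) φ)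
  have hc := card_pgl_range hψ
  rw [card_galois hk] at hc
  have hc' := two_mul_card_range hp2 hk φ
  have hMc : Nat.card M = Nat.card (pslExt φ).range := by rw [← h, card_conjG]
  set Q := p ^ k with hQ
  have hpos : 0 < Q * ((Q - 1) * (Q + 1)) :=
    Nat.mul_pos (by omega) (Nat.mul_pos (by omega) (by omega))
  refine false_of_conj_le hM g (h ▸ pslExt_range_le hψ) (by omega) ?_
  refine lt_card_PSL (b := Q ^ 2) hp2 (by nlinarith) (le_of_eq (by rw [hq, hQ, ← pow_mul])) ?_
  rw [hc]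
  have h1 : (Q - 1) * (Q + 1) = Q ^ 2 - 1 := by
    have := Nat.sq_sub_sq Q 1; rw [one_pow] at this; rw [this, mul_comm]
  rw [h1]
  calc 2 * (Q * (Q ^ 2 - 1)) = (2 * Q) * ((Q ^ 2 - 1) * 1) := by ring
    _ ≤ Q ^ 2 * ((Q ^ 2 - 1) * 1) := Nat.mul_le_mul_right _ (by nlinarith)
    _ < Q ^ 2 * ((Q ^ 2 - 1) * (Q ^ 2 + 1)) := by
        refine Nat.mul_lt_mul_of_pos_left (Nat.mul_lt_mul_of_pos_left (by nlinarith) ?_) (by nlinarith)
        have : 9 ≤ Q ^ 2 := by nlinarith
        omega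

/-- A maximal group of `PGL` type over a subfield. -/
theorem max_pgl (hp2 : p ≠ 2) {M : Subgroup PSL2} (hM : IsCoatom M) {k : ℕ} (hk : 0 < k)
    {g : GL (Fin 2) F} {φ : GaloisField p k →+* F} (hs : ∀ a, IsSquare (φ a))
    {ψ : Matrix.ProjGenLinGroup (Fin 2) (GaloisField p k) →* PSL2} (hψ : IsPglHom φ ψ)
    (h : conjG g M = ψ.range) : Fintype.card F = p ^ (2 * k) := by
  obtain ⟨f, hf, hq⟩ := exists_card_eq_pow (F := F) p
  letI : Fintype (GaloisField p k) := Fintype.ofFinite _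
  letI : Fintype (GaloisField p (2 * k)) := Fintype.ofFinite _
  have hkf : k ∣ f := by
    letI := φ.toAlgebra
    have hcard := Module.natCard_eq_pow_finrank (K := GaloisField p k) (V := F)
    rw [GaloisField.card p k hk.ne', Nat.card_eq_fintype_card, hq, ← pow_mul] at hcard
    exact ⟨_, Nat.pow_right_injective hp.out.two_le hcard⟩
  have h2k := even_of_isSquare_emb hp2 hk hq hkf φ hs
  by_contra hne
  have hlt : 2 * k < f := lt_of_le_of_ne (Nat.le_of_dvd hf h2k) fun e => hne (by rw [hq, e])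
  obtain ⟨φ'⟩ := exists_emb (p := p) (k := 2 * k) (by omega) hq h2k
  have hc := card_pgl_range hψ
  rw [card_galois hk] at hc
  have hMc : Nat.card M = Nat.card ψ.range := by rw [← h, card_conjG]
  have hQ : 2 ≤ p ^ k := hp.out.two_le.trans (Nat.le_self_pow hk.ne' p)
  refine false_of_subfield hp2 hM (by omega) (g := g) (φ := φ') (h ▸ pgl_range_le hp2 hk φ φ' hψ) ?_
    (by rw [hq]; exact Nat.pow_lt_pow_right hp.out.one_lt hlt)
  rw [hMc, hc, show p ^ (2 * k) = (p ^ k) ^ 2 by rw [← pow_mul, mul_comm]]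
  set Q := p ^ k
  have h1 : (Q - 1) * (Q + 1) = Q ^ 2 - 1 := by
    have := Nat.sq_sub_sq Q 1; rw [one_pow] at this; rw [this, mul_comm]
  rw [h1]
  calc 2 * (Q * (Q ^ 2 - 1)) = (2 * Q) * ((Q ^ 2 - 1) * 1) := by ring
    _ ≤ Q ^ 2 * ((Q ^ 2 - 1) * 1) := Nat.mul_le_mul_right _ (by nlinarith)
    _ < Q ^ 2 * ((Q ^ 2 - 1) * (Q ^ 2 + 1)) := by
        refine Nat.mul_lt_mul_of_pos_left (Nat.mul_lt_mul_of_pos_left (by nlinarith) ?_) (by nlinarith)
        have : 4 ≤ Q ^ 2 := by nlinarith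
        omega

end Cfsg.Agent.Lib.DicksonId
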