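import Cfsg.Agent.Lib.DicksonId.Exclude
import Mathlib.LinearAlgebra.Matrix.GeneralLinearGroup.Projective

/-!
Subgroups of `PGL(2, F)` against the image of `SL(2, F)`.
-/

set_option autoImplicit false

namespace Cfsg.Agent.Lib.DicksonId

open Matrix Cfsg.Agent.Lib.Linear
open Matrix.ProjGenLinGroup (mk)

variable {F : Type*} [Field F]

local notation "SL2" => Matrix.SpecialLinearGroup (Fin 2) F
local notation "M2" => Matrix (Fin 2) (Fin 2) F
local notation "PSL2" => Matrix.ProjectiveSpecialLinearGroup (Fin 2) F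
local notation "PGL2" => Matrix.ProjGenLinGroup (Fin 2) F
local notation "ι2" => (Matrix.ProjectiveSpecialLinearGroup.toPGL (n := Fin 2) (R := F))

/-- The image of `SL(2, F)` in `PGL(2, F)`. -/
abbrev imSL (F : Type*) [Field F] : Subgroup (Matrix.ProjGenLinGroup (Fin 2) F) :=
  (Matrix.ProjGenLinGroup.mk.comp Matrix.SpecialLinearGroup.toGL).range

/-- The part of a subgroup of `PGL(2, F)` inside `PSL(2, F)`. -/
abbrev cap (M : Subgroup (Matrix.ProjGenLinGroup (Fin 2) F)) :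
    Subgroup (Matrix.ProjectiveSpecialLinearGroup (Fin 2) F) :=
  M.comap Matrix.ProjectiveSpecialLinearGroup.toPGL

theorem imSL_eq : imSL F = (ι2).range := by
  ext y
  constructor
  · rintro ⟨x, rfl⟩
    exact ⟨(x : PSL2), rfl⟩
  · rintro ⟨z, rfl⟩
    obtain ⟨x, rfl⟩ := QuotientGroup.mk_surjective z
    exact ⟨x, rfl⟩

theorem toPGL_conjAut (g : GL (Fin 2) F) (u : PSL2) :
    ι2 (AutPSL.conjAut g u) = mk g * ι2 u * (mk g)⁻¹ := by
  obtain ⟨x, rfl⟩ := QuotientGroup.mk_surjective u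
  rw [AutPSL.conjAut_mk, Matrix.ProjectiveSpecialLinearGroup.toPGL_mk,
    Matrix.ProjectiveSpecialLinearGroup.toPGL_mk, ← map_inv, ← map_mul, ← map_mul]
  congr 1
  exact Units.ext (by simpa [Matrix.coe_units_inv] using AutPSL.coe_conjSL g x)

theorem mem_imSL_iff (g : GL (Fin 2) F) :
    mk g ∈ imSL F ↔ IsSquare ((g : M2).det) := by
  constructor
  · rintro ⟨x, hx⟩
    obtain ⟨u, hu⟩ := Matrix.ProjGenLinGroup.mk_eq_mk_iff.mp hx
    refine ⟨u, ?_⟩
    have h := congrArg (fun y : GL (Fin 2) F => (y : M2).det) hu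
    simp at h
    rw [← h, pow_two]
  · rintro ⟨d, hd⟩
    have hd0 : d ≠ 0 := fun h => GeneralLinearGroup.det_ne_zero g (by rw [hd, h, mul_zero])
    refine ⟨⟨d⁻¹ • (g : M2), ?_⟩, Matrix.ProjGenLinGroup.mk_eq_mk_iff.mpr ⟨Units.mk0 d hd0, Units.ext ?_⟩⟩
    · rw [Matrix.det_smul, hd, Fintype.card_fin]
      field_simp
    · show (d⁻¹ • (g : M2)) * Matrix.scalar (Fin 2) d = (g : M2)
      ext i j
      fin_cases i <;> fin_cases j <;> simp [Matrix.mul_apply, Fin.sum_univ_two] <;> field_simp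

theorem mem_of_isCoatom_of_sup {G : Type*} [Group G] {M H : Subgroup G} (hM : IsCoatom M)
    (hle : M ≤ H) (hne : H ≠ ⊤) {x : G} (hx : x ∈ H) : x ∈ M := by
  rcases hle.eq_or_lt with e | e
  · exact e ▸ hx
  · exact absurd (hM.2 H e) hne

theorem conj_mem_cap {M : Subgroup PGL2} {g : GL (Fin 2) F} (hg : mk g ∈ M) {u : PSL2}
    (hu : u ∈ cap M) : AutPSL.conjAut g u ∈ cap M := by
  rw [Subgroup.mem_comap, toPGL_conjAut]
  exact M.mul_mem (M.mul_mem hg hu) (M.inv_mem hg)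

variable [Fintype F]

theorem cap_ne_top {M : Subgroup PGL2} (hML : ¬ imSL F ≤ M) : cap M ≠ ⊤ := fun h => hML (by
  rw [imSL_eq]
  rintro _ ⟨z, rfl⟩
  exact (show z ∈ cap M by rw [h]; exact Subgroup.mem_top z))

variable {p : ℕ} [hp : Fact p.Prime] [CharP F p]

theorem card_pgl_eq (hp2 : p ≠ 2) : Nat.card PGL2 = 2 * Nat.card PSL2 := by
  rw [Linear.card_PGL_eq_card_SL, card_SL_two, two_mul_card_PSL (p := p) hp2, mul_assoc]

theorem index_imSL (hp2 : p ≠ 2) : (imSL F).index = 2 := by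
  have h := Subgroup.card_mul_index (imSL F)
  rw [card_pgl_eq (p := p) hp2, imSL_eq, ← Nat.card_congr (MonoidHom.ofInjective
    Matrix.ProjectiveSpecialLinearGroup.toPGL_injective).toEquiv, mul_comm 2] at h
  rw [imSL_eq]
  exact Nat.eq_of_mul_eq_mul_left Nat.card_pos h

/-- A maximal subgroup not containing the `PSL` part meets it in index two. -/
theorem card_cap (hp2 : p ≠ 2) {M : Subgroup PGL2} (hM : IsCoatom M) (hML : ¬ imSL F ≤ M) :
    Nat.card M = 2 * Nat.card (cap M) := by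
  haveI : (imSL F).Normal := Subgroup.normal_of_index_eq_two (index_imSL (p := p) hp2)
  have hsup : M ⊔ imSL F = ⊤ := by
    refine hM.2 _ (lt_of_le_of_ne le_sup_left fun e => hML ?_)
    rw [e]; exact le_sup_right
  have hrel : (imSL F).relIndex M = 2 := by
    have h := Subgroup.relIndex_sup_right M (imSL F)
    rw [hsup, Subgroup.relIndex_top_right, index_imSL (p := p) hp2] at h
    exact h.symm
  have hmap : Nat.card (cap M) = Nat.card ((imSL F).subgroupOf M) := by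
    rw [Nat.card_congr ((cap M).equivMapOfInjective _
      Matrix.ProjectiveSpecialLinearGroup.toPGL_injective).toEquiv, Subgroup.map_comap_eq, ← imSL_eq,
      ← Subgroup.inf_subgroupOf_right, Nat.card_congr (Subgroup.subgroupOfEquivOfLe inf_le_right).toEquiv]
  rw [hmap, ← Subgroup.card_mul_index ((imSL F).subgroupOf M), mul_comm 2]
  exact congrArg _ hrel

/-- An element normalising a non-trivial invariant part of `M ∩ PSL` lies in `M`. -/
theorem mem_of_normalizes (h4 : 4 ≤ Fintype.card F) {M : Subgroup PGL2} (hM : IsCoatom M)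
    (hML : ¬ imSL F ≤ M) {U : Subgroup PSL2} (hU : U ≤ cap M) (hU1 : U ≠ ⊥)
    (hinv : ∀ g : GL (Fin 2) F, mk g ∈ M → ∀ u ∈ U, AutPSL.conjAut g u ∈ U)
    {g : GL (Fin 2) F} (hg : ∀ u ∈ U, AutPSL.conjAut g u ∈ U) : mk g ∈ M := by
  haveI := isSimple (F := F) h4
  haveI : Finite PGL2 := Finite.of_surjective _ Matrix.ProjGenLinGroup.mk_surjective
  set H := Subgroup.normalizer ((U.map ι2 : Subgroup PGL2) : Set PGL2) with hH
  have key : ∀ h : GL (Fin 2) F, (∀ u ∈ U, AutPSL.conjAut h u ∈ U) → mk h ∈ H := by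
    intro h hh
    refine PSLTwo.Sylow.mem_normalizer_of_conj_mem fun a ha => ?_
    obtain ⟨u, hu, rfl⟩ := ha
    exact ⟨_, hh u hu, toPGL_conjAut h u⟩
  have hMH : M ≤ H := fun y hy => by
    obtain ⟨h, rfl⟩ := Matrix.ProjGenLinGroup.mk_surjective y
    exact key h (hinv h hy)
  refine mem_of_isCoatom_of_sup hM hMH (fun htop => ?_) (key g hg)
  have hn : U.Normal := ⟨fun u hu x => by
    have h1 := (Subgroup.mem_normalizer_iff.mp (htop ▸ Subgroup.mem_top (ι2 x) : ι2 x ∈ H) _).mp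
      (Subgroup.mem_map_of_mem ι2 hu)
    rw [← map_inv, ← map_mul, ← map_mul] at h1
    exact (Subgroup.mem_map_iff_mem Matrix.ProjectiveSpecialLinearGroup.toPGL_injective).mp h1⟩
  rcases hn.eq_bot_or_eq_top with e | e
  · exact hU1 e
  · exact cap_ne_top hML (top_le_iff.mp (e ▸ hU))

theorem mem_cap_of_normalizes (h4 : 4 ≤ Fintype.card F) {M : Subgroup PGL2} (hM : IsCoatom M)
    (hML : ¬ imSL F ≤ M) {U : Subgroup PSL2} (hU : U ≤ cap M) (hU1 : U ≠ ⊥)
    (hinv : ∀ g : GL (Fin 2) F, mk g ∈ M → ∀ u ∈ U, AutPSL.conjAut g u ∈ U)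
    {x : PSL2} (hx : ∀ u ∈ U, x * u * x⁻¹ ∈ U) : x ∈ cap M := by
  obtain ⟨a, rfl⟩ := QuotientGroup.mk_surjective x
  refine mem_of_normalizes h4 hM hML hU hU1 hinv (g := Matrix.SpecialLinearGroup.toGL a) fun u hu => ?_
  rw [AutPSL.conjAut_toGL]
  exact hx u hu

omit [Fintype F] in
/-- Conjugates of maximal subgroups. -/
theorem conj_setup {M : Subgroup PGL2} (hM : IsCoatom M) (hML : ¬ imSL F ≤ M)
    (hn : (imSL F).Normal) (g : GL (Fin 2) F) :
    IsCoatom (M.map (MulAut.conj (mk g)).toMonoidHom) ∧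
      ¬ imSL F ≤ M.map (MulAut.conj (mk g)).toMonoidHom ∧
      cap (M.map (MulAut.conj (mk g)).toMonoidHom) = conjG g (cap M) := by
  refine ⟨((MulAut.conj (mk g)).mapSubgroup.isCoatom_iff M).mpr hM, fun h => hML fun x hx => ?_, ?_⟩
  · obtain ⟨y, hy, he⟩ := h (hn.conj_mem x hx (mk g))
    have hyx : y = x := (MulAut.conj (mk g)).injective (show MulAut.conj (mk g) y = MulAut.conj (mk g) x from he)
    exact hyx ▸ hy
  · ext u
    constructor
    · rintro ⟨y, hy, he⟩
      have he' : mk g * y * (mk g)⁻¹ = ι2 u := he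
      refine ⟨AutPSL.conjAut g⁻¹ u, ?_, ?_⟩
      · rw [SetLike.mem_coe, Subgroup.mem_comap, toPGL_conjAut, map_inv, ← he']
        simpa [mul_assoc] using hy
      · show AutPSL.conjAut g (AutPSL.conjAut g⁻¹ u) = u
        rw [← MulAut.mul_apply, ← map_mul, mul_inv_cancel, map_one]
        rfl
    · rintro ⟨v, hv, rfl⟩
      exact ⟨ι2 v, hv, (toPGL_conjAut g v).symm⟩

end Cfsg.Agent.Lib.DicksonId
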