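import Cfsg.Agent.Lib.Spectrum.SL25Recognition
import Mathlib

/-!
Groups of order 12, 24 and 60 without small normal cyclic subgroups.
-/

set_option autoImplicit false

namespace Cfsg.Agent.Lib.DicksonId

variable {G : Type*} [Group G] [Finite G]

theorem card_sylow_eq {p e m : ℕ} [Fact p.Prime] (h : Nat.card G = p ^ e * m) (hm : ¬ p ∣ m)
    (P : Sylow p G) : Nat.card (P : Subgroup G) = p ^ e := by
  have hm0 : m ≠ 0 := by rintro rfl; exact hm (dvd_zero p)
  rw [P.card_eq_multiplicity, h, Nat.factorization_mul (pow_ne_zero e (Fact.out : p.Prime).ne_zero) hm0,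
    Finsupp.add_apply, Nat.factorization_eq_zero_of_not_dvd hm, add_zero,
    Nat.Prime.factorization_pow (Fact.out : p.Prime), Finsupp.single_eq_same]

theorem card_sylow_dvd {p m : ℕ} [Fact p.Prime] (h : Nat.card G = p * m) (hm : ¬ p ∣ m)
    (P : Sylow p G) :
    Nat.card (P : Subgroup G) = p ∧ Nat.card (Sylow p G) ∣ m ∧
      Nat.card (Sylow p G) * Nat.card (Subgroup.normalizer ((P : Subgroup G) : Set G)) = p * m := by
  have hP : Nat.card (P : Subgroup G) = p := by
    rw [card_sylow_eq (e := 1) (by rw [pow_one]; exact h) hm P, pow_one]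
  refine ⟨hP, ?_, ?_⟩
  · have h1 := P.card_dvd_index
    have h2 := Subgroup.card_mul_index (P : Subgroup G)
    rw [hP, h] at h2
    rwa [Nat.eq_of_mul_eq_mul_left (Fact.out : p.Prime).pos h2] at h1
  · rw [show Nat.card (Sylow p G) = (Subgroup.normalizer ((P : Subgroup G) : Set G)).index from
      P.card_eq_index_normalizer, mul_comm, Subgroup.card_mul_index, h]

theorem mem_ker_toPermHom {p : ℕ} {g : G} (hg : g ∈ (MulAction.toPermHom G (Sylow p G)).ker)
    (P : Sylow p G) : g ∈ Subgroup.normalizer ((P : Subgroup G) : Set G) := by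
  exact Sylow.smul_eq_iff_mem_normalizer.mp (congrArg (fun σ : Equiv.Perm (Sylow p G) => σ P) hg)

/-- The permutation representation on four Sylow `3`-subgroups. -/
theorem exists_hom_perm_four {e : ℕ} (h : Nat.card G = 3 * 2 ^ e) (he : e = 2 ∨ e = 3)
    (h3 : ∀ N : Subgroup G, N.Normal → Nat.card N ≠ 3)
    (h2 : ∀ N : Subgroup G, N.Normal → Nat.card N ≠ 2) :
    ∃ φ : G →* Equiv.Perm (Fin 4), Function.Injective φ := by
  haveI : Fact (Nat.Prime 3) := ⟨Nat.prime_three⟩
  have hnd : ¬ 3 ∣ 2 ^ e := by rcases he with rfl | rfl <;> norm_num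
  obtain ⟨P⟩ := (inferInstance : Nonempty (Sylow 3 G))
  obtain ⟨-, hdvd, hN⟩ := card_sylow_dvd h hnd P
  have hmod : Nat.card (Sylow 3 G) % 3 = 1 := card_sylow_modEq_one 3 G
  have hn : Nat.card (Sylow 3 G) = 4 := by
    have hne : Nat.card (Sylow 3 G) ≠ 1 := fun h1 => by
      haveI := (Nat.card_eq_one_iff_unique.mp h1).1
      exact h3 _ P.normal_of_subsingleton (card_sylow_dvd h hnd P).1
    have hle : Nat.card (Sylow 3 G) ≤ 2 ^ e := Nat.le_of_dvd (Nat.pow_pos two_pos) hdvd
    have hle' : Nat.card (Sylow 3 G) ≤ 8 := hle.trans (by rcases he with rfl | rfl <;> norm_num)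
    have hpos : 0 < Nat.card (Sylow 3 G) := Nat.card_pos
    generalize Nat.card (Sylow 3 G) = n at *
    rcases he with rfl | rfl <;> interval_cases n <;> omega
  obtain ⟨eqv⟩ : Nonempty (Sylow 3 G ≃ Fin 4) := Finite.card_eq.mp (by rw [hn, Nat.card_fin])
  set f := MulAction.toPermHom G (Sylow 3 G)
  suffices hker : f.ker = ⊥ from
    ⟨eqv.permCongrHom.toMonoidHom.comp f, eqv.permCongrHom.injective.comp ((MonoidHom.ker_eq_bot_iff f).mp hker)⟩
  have hK : Nat.card f.ker ∣ 3 * 2 ^ e / 4 := by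
    have hle : f.ker ≤ Subgroup.normalizer ((P : Subgroup G) : Set G) := fun g hg => mem_ker_toPermHom hg P
    refine (Subgroup.card_dvd_of_le hle).trans (dvd_of_eq ?_)
    rw [hn] at hN
    omega
  have h3K : ¬ 3 ∣ Nat.card f.ker := fun hd => by
    obtain ⟨Q⟩ := (inferInstance : Nonempty (Sylow 3 f.ker))
    obtain ⟨m, hm⟩ := hd
    have hm3 : ¬ 3 ∣ m := fun ⟨t, ht⟩ => by
      apply hnd
      have := (hm ▸ Subgroup.card_subgroup_dvd_card f.ker : 3 * m ∣ Nat.card G)
      rw [h] at this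
      exact (Dvd.intro t ht.symm).trans (Nat.dvd_of_mul_dvd_mul_left (by norm_num : 0 < 3) this)
    obtain ⟨hQ, hdQ, -⟩ := card_sylow_dvd hm hm3 Q
    -- every Sylow subgroup of `G` lies in the kernel
    have hQG : Nat.card ((Q : Subgroup f.ker).map f.ker.subtype) = 3 := by
      rw [Subgroup.card_map_of_injective (Subgroup.subtype_injective _), hQ]
    obtain ⟨Q', hQ'⟩ := (Q.2.map f.ker.subtype).exists_le_sylow
    have hQ'eq : (Q' : Subgroup G) ≤ f.ker := by
      rw [← Subgroup.eq_of_le_of_card_ge hQ' (by rw [hQG, (card_sylow_dvd h hnd Q').1])]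
      exact Subgroup.map_subtype_le _
    have hall : ∀ R : Sylow 3 G, (R : Subgroup G) ≤ f.ker := by
      intro R x hx
      obtain ⟨g, rfl⟩ := MulAction.exists_smul_eq G Q' R
      rw [Sylow.coe_subgroup_smul, Subgroup.mem_pointwise_smul_iff_inv_smul_mem] at hx
      have h4 := MonoidHom.normal_ker f |>.conj_mem _ (hQ'eq hx) g
      simpa [MulAut.smul_def, mul_assoc] using h4
    have hcard : Nat.card (Sylow 3 G) ≤ Nat.card (Sylow 3 f.ker) :=
      Nat.card_le_card_of_injective (fun R : Sylow 3 G => R.subtype (hall R))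
        fun R R' hRR => Sylow.subtype_injective hRR
    have hmle : Nat.card (Sylow 3 f.ker) ≤ m := Nat.le_of_dvd (by
      rcases Nat.eq_zero_or_pos m with rfl | hp
      · exact absurd (dvd_zero 3) hm3
      · exact hp) hdQ
    have := Nat.le_of_dvd (by rcases he with rfl | rfl <;> norm_num) hK
    rcases he with rfl | rfl <;> omega
  have hK2 : Nat.card f.ker ≤ 2 := by
    have hpos : 0 < Nat.card f.ker := Nat.card_pos
    have hle := Nat.le_of_dvd (by rcases he with rfl | rfl <;> norm_num) hK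
    have h6 : Nat.card f.ker ∣ 3 * 2 := hK.trans (by rcases he with rfl | rfl <;> norm_num)
    exact Nat.le_of_dvd two_pos
      (Nat.Coprime.dvd_of_dvd_mul_left ((Nat.Prime.coprime_iff_not_dvd Fact.out).mpr h3K).symm h6)
  have := h2 f.ker inferInstance
  apply Subgroup.eq_bot_of_card_eq
  have : 0 < Nat.card f.ker := Nat.card_pos
  omega

/-- Order 12. -/
theorem nonempty_alt_four (h : Nat.card G = 12) (h3 : ∀ N : Subgroup G, N.Normal → Nat.card N ≠ 3)
    (h2 : ∀ N : Subgroup G, N.Normal → Nat.card N ≠ 2) :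
    Nonempty (G ≃* alternatingGroup (Fin 4)) := by
  obtain ⟨φ, hφ⟩ := exists_hom_perm_four (e := 2) (by rw [h]; norm_num) (Or.inl rfl) h3 h2
  have hr : φ.range = alternatingGroup (Fin 4) := by
    apply Equiv.Perm.eq_alternatingGroup_of_index_eq_two
    have h1 := φ.range.card_mul_index
    rw [← Nat.card_congr (MonoidHom.ofInjective hφ).toEquiv, h, Nat.card_perm, Nat.card_fin] at h1
    norm_num [Nat.factorial] at h1
    omega
  exact ⟨(MonoidHom.ofInjective hφ).trans (MulEquiv.subgroupCongr hr)⟩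

/-- Order 24. -/
theorem nonempty_perm_four (h : Nat.card G = 24) (h3 : ∀ N : Subgroup G, N.Normal → Nat.card N ≠ 3)
    (h2 : ∀ N : Subgroup G, N.Normal → Nat.card N ≠ 2) :
    Nonempty (G ≃* Equiv.Perm (Fin 4)) := by
  obtain ⟨φ, hφ⟩ := exists_hom_perm_four (e := 3) (by rw [h]; norm_num) (Or.inr rfl) h3 h2
  exact ⟨MulEquiv.ofBijective φ ((Nat.bijective_iff_injective_and_card φ).mpr
    ⟨hφ, by rw [h, Nat.card_perm, Nat.card_fin]; rfl⟩)⟩

/-- Order 60. -/
theorem nonempty_alt_five (h : Nat.card G = 60) (h5 : ∀ N : Subgroup G, N.Normal → Nat.card N ≠ 5)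
    (h2 : ∀ N : Subgroup G, N.Normal → Nat.card N ≠ 2) :
    Nonempty (G ≃* alternatingGroup (Fin 5)) := by
  haveI : Fact (Nat.Prime 5) := ⟨by norm_num⟩
  haveI : Fact (Nat.Prime 3) := ⟨Nat.prime_three⟩
  haveI : Nontrivial G := Finite.one_lt_card_iff_nontrivial.1 (by omega)
  obtain ⟨P⟩ := (inferInstance : Nonempty (Sylow 5 G))
  have h60 : Nat.card G = 5 * 12 := h
  have hnd : ¬ 5 ∣ 12 := by norm_num
  obtain ⟨hP, hdvd, -⟩ := card_sylow_dvd h60 hnd P
  have hn : Nat.card (Sylow 5 G) = 6 := by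
    have hmod : Nat.card (Sylow 5 G) % 5 = 1 := card_sylow_modEq_one 5 G
    have hne : Nat.card (Sylow 5 G) ≠ 1 := fun h1 => by
      haveI := (Nat.card_eq_one_iff_unique.mp h1).1
      exact h5 _ P.normal_of_subsingleton hP
    have hle : Nat.card (Sylow 5 G) ≤ 12 := Nat.le_of_dvd (by norm_num) hdvd
    generalize Nat.card (Sylow 5 G) = n at *
    interval_cases n <;> omega
  have hN10 : ∀ R : Sylow 5 G, Nat.card (Subgroup.normalizer ((R : Subgroup G) : Set G)) = 10 := by
    intro R
    obtain ⟨-, -, hR⟩ := card_sylow_dvd h60 hnd R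
    rw [hn] at hR
    omega
  obtain ⟨R₀, x, hx, hxR⟩ : ∃ (R : Sylow 5 G) (x : G), orderOf x = 5 ∧ Subgroup.zpowers x = (R : Subgroup G) := by
    obtain ⟨x, hx⟩ := exists_prime_orderOf_dvd_card' (G := (P : Subgroup G)) 5 (by rw [hP])
    refine ⟨P, x, by rw [Subgroup.orderOf_coe, hx], ?_⟩
    exact Subgroup.eq_of_le_of_card_ge (Subgroup.zpowers_le.mpr x.2)
      (by rw [Nat.card_zpowers, Subgroup.orderOf_coe, hx, hP])
  -- no subgroup of order `3` or `4` is normalised by `x`
  have hinv : ∀ M : Subgroup G, x ∈ Subgroup.normalizer (M : Set G) →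
      Nat.card M = 3 ∨ Nat.card M = 4 → False := by
    intro M hxM hM
    set X := Subgroup.zpowers x
    have hXM : ∀ a ∈ X, ∀ y ∈ M, a * y * a⁻¹ ∈ M := fun a ha y hy =>
      (Subgroup.mem_normalizer_iff.mp ((Subgroup.zpowers_le.mpr hxM) ha) y).mp hy
    letI : MulAction X M :=
      { smul := fun a y => ⟨a * y * (a : G)⁻¹, hXM a a.2 y y.2⟩
        one_smul := fun y => Subtype.ext (show (1 : G) * y * (1 : G)⁻¹ = y by group)
        mul_smul := fun a b y => Subtype.ext (show ((a : G) * b) * y * ((a : G) * b)⁻¹ = _ by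
          show _ = (a : G) * ((b : G) * y * (b : G)⁻¹) * (a : G)⁻¹; group) }
    have hp5 : IsPGroup 5 X := IsPGroup.of_card (n := 1) (by rw [Nat.card_zpowers, hx, pow_one])
    have hcong := hp5.card_modEq_card_fixedPoints M
    have hdvd : Nat.card (MulAction.fixedPoints X M) ∣ Nat.gcd (Nat.card M) 10 := by
      have e : Nat.card (MulAction.fixedPoints X M) =
          Nat.card (M ⊓ Subgroup.centralizer (X : Set G) : Subgroup G) :=
        Nat.card_congr
          { toFun := fun y => ⟨((y : M) : G), (y : M).2, fun a ha => by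
              have h' := congrArg Subtype.val (y.2 ⟨a, ha⟩)
              exact mul_inv_eq_iff_eq_mul.mp h'⟩
            invFun := fun y => ⟨⟨y, y.2.1⟩, fun a => Subtype.ext (mul_inv_eq_iff_eq_mul.mpr (y.2.2 a a.2))⟩
            left_inv := fun y => rfl
            right_inv := fun y => rfl }
      rw [e]
      refine Nat.dvd_gcd (Subgroup.card_dvd_of_le inf_le_left) ?_
      rw [← hN10 R₀, ← hxR]
      exact Subgroup.card_dvd_of_le (inf_le_right.trans (Subgroup.centralizer_le_normalizer _))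
    have hpos : 0 < Nat.card (MulAction.fixedPoints X M) :=
      haveI : Nonempty (MulAction.fixedPoints X M) := ⟨⟨1, fun a => Subtype.ext (show (a : G) * (1 : G) * (a : G)⁻¹ = 1 by group)⟩⟩
      Nat.card_pos
    unfold Nat.ModEq at hcong
    generalize Nat.card (MulAction.fixedPoints X M) = c at *
    rcases hM with e | e <;> rw [e] at hdvd hcong
    · have hle := Nat.le_of_dvd Nat.one_pos (show c ∣ 1 from hdvd)
      omega
    · have hle := Nat.le_of_dvd two_pos (show c ∣ 2 from hdvd)
      omega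
  -- a solvable group would have a small normal subgroup of prime power order
  refine Cfsg.Agent.Lib.Spectrum.nonempty_equiv_a5_of_card_sixty h fun hsol => ?_
  classical
  haveI := hsol
  obtain ⟨n, hn'⟩ := Group.IsSolvable.solvable (G := G)
  have hex : ∃ n, derivedSeries G n = ⊥ := ⟨n, hn'⟩
  obtain ⟨j, hj⟩ : ∃ j, Nat.find hex = j + 1 := by
    refine Nat.exists_eq_succ_of_ne_zero fun h0 => ?_
    have := Nat.find_spec hex
    rw [h0, derivedSeries_zero] at this
    exact top_ne_bot this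
  set A := derivedSeries G j
  have hA : A ≠ ⊥ := Nat.find_min hex (by omega)
  have hAc : ∀ a ∈ A, ∀ b ∈ A, a * b = b * a := by
    intro a ha b hb
    have := Nat.find_spec hex
    rw [hj, derivedSeries_succ, Subgroup.commutator_eq_bot_iff_le_centralizer] at this
    exact (Subgroup.mem_centralizer_iff.mp (this ha) b hb).symm
  haveI hAn : A.Normal := derivedSeries_normal G j
  obtain ⟨r, hr, hrA⟩ := Nat.exists_prime_and_dvd (n := Nat.card A) (by
    have := (Subgroup.one_lt_card_iff_ne_bot A).2 hA; omega)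
  haveI : Fact r.Prime := ⟨hr⟩
  obtain ⟨Q⟩ := (inferInstance : Nonempty (Sylow r A))
  haveI : (Q : Subgroup A).Normal := ⟨fun y hy a => by
    have hc : a * y = y * a := Subtype.ext (hAc a a.2 y y.2)
    rw [hc, mul_inv_cancel_right]
    exact hy⟩
  haveI : (Q : Subgroup A).Characteristic := Q.characteristic_of_normal ‹_›
  have hM : ((Q : Subgroup A).map A.subtype).Normal := inferInstance
  have hrd : r ∣ Nat.card (Q : Subgroup A) := Q.dvd_card_of_dvd_card hrA
  have hQd : Nat.card (Q : Subgroup A) ∣ 60 :=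
    h ▸ (Subgroup.card_subgroup_dvd_card _).trans (Subgroup.card_subgroup_dvd_card A)
  obtain ⟨i, hi⟩ := IsPGroup.iff_card.mp Q.2
  have hcardM : Nat.card ((Q : Subgroup A).map A.subtype) = r ^ i := by
    rw [Subgroup.card_map_of_injective (Subgroup.subtype_injective _), hi]
  rw [hi] at hrd hQd
  have hr60 : r ∣ 60 := hrd.trans hQd
  have hi0 : i ≠ 0 := by rintro rfl; exact hr.not_dvd_one hrd
  have hxn : x ∈ Subgroup.normalizer (((Q : Subgroup A).map A.subtype : Subgroup G) : Set G) := by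
    rw [Subgroup.normalizer_eq_top _]; exact Subgroup.mem_top _
  have hval : r ^ i = 2 ∨ r ^ i = 3 ∨ r ^ i = 4 ∨ r ^ i = 5 := by
    have hrmem : r ∈ Nat.primeFactors 60 := Nat.mem_primeFactors.mpr ⟨hr, hr60, by norm_num⟩
    have hile : i ≤ 5 := by
      by_contra hlt
      have h1 := Nat.le_of_dvd (by norm_num) hQd
      have h2 := (Nat.pow_le_pow_right (by norm_num : 0 < 2) (show 6 ≤ i by omega)).trans
        (Nat.pow_le_pow_left hr.two_le i)
      omega
    have hrle := Nat.le_of_dvd (by norm_num) hr60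
    have hr235 : r = 2 ∨ r = 3 ∨ r = 5 := by
      rcases hr.dvd_mul.mp (show r ∣ 4 * 15 from hr60) with e | e
      · exact Or.inl ((Nat.prime_dvd_prime_iff_eq hr Nat.prime_two).mp
          (hr.dvd_of_dvd_pow (show r ∣ 2 ^ 2 from e)))
      · rcases hr.dvd_mul.mp (show r ∣ 3 * 5 from e) with e | e
        · exact Or.inr (Or.inl ((Nat.prime_dvd_prime_iff_eq hr Nat.prime_three).mp e))
        · exact Or.inr (Or.inr ((Nat.prime_dvd_prime_iff_eq hr (by norm_num)).mp e))
    rcases hr235 with rfl | rfl | rfl <;> interval_cases i <;> revert hi0 hQd <;> norm_num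
  rcases hval with e | e | e | e <;> rw [← hcardM] at e
  · exact h2 _ hM e
  · exact hinv _ hxn (Or.inl e)
  · exact hinv _ hxn (Or.inr e)
  · exact h5 _ hM e

end Cfsg.Agent.Lib.DicksonId
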