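import Cfsg.Agent.Lib.AutPSL.Basic
import Cfsg.Agent.Lib.DicksonFull.Subfield
import Cfsg.Agent.Lib.Dickson.Borel

/-!
Preimages in `SL(2, F)` of subgroups of `PSL(2, F)` and the effect of conjugation by `GL(2, F)`.
-/

set_option autoImplicit false

namespace Cfsg.Agent.Lib.DicksonId

open Matrix Cfsg.Agent.Lib.Linear
open Cfsg.Agent.Lib.DicksonFull (mem_center_iff_smul)

variable {F : Type*} [Field F]

local notation "SL2" => Matrix.SpecialLinearGroup (Fin 2) F
local notation "M2" => Matrix (Fin 2) (Fin 2) F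
local notation "PSL2" => Matrix.ProjectiveSpecialLinearGroup (Fin 2) F

/-- The preimage in `SL(2, F)`. -/
def pre (G : Subgroup (Matrix.ProjectiveSpecialLinearGroup (Fin 2) F)) :
    Subgroup (Matrix.SpecialLinearGroup (Fin 2) F) :=
  G.comap (QuotientGroup.mk' _)

theorem mem_pre {G : Subgroup PSL2} {x : SL2} : x ∈ pre G ↔ (x : PSL2) ∈ G := Iff.rfl

theorem map_pre (G : Subgroup PSL2) : (pre G).map (QuotientGroup.mk' _) = G :=
  Subgroup.map_comap_eq_self_of_surjective (QuotientGroup.mk'_surjective _) G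

theorem mk_negI : ((Dickson.negI : SL2) : PSL2) = 1 :=
  DicksonFull.mk_eq_one_of_smul (a := -1) (by rw [Dickson.coe_negI]; simp)

theorem negI_mem_pre (G : Subgroup PSL2) : Dickson.negI ∈ pre G := by
  rw [mem_pre, mk_negI]; exact G.one_mem

theorem center_cases {z : SL2} (hz : z ∈ Subgroup.center SL2) : z = 1 ∨ z = Dickson.negI := by
  obtain ⟨a, ha⟩ := (mem_center_iff_smul z).mp hz
  exact Dickson.eq_one_or_negI_of_smul ha

theorem card_pre [Fintype F] (G : Subgroup PSL2) :
    Nat.card (pre G) = Nat.gcd 2 (Fintype.card F - 1) * Nat.card G := by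
  have h := Subgroup.card_mul_index (pre G)
  rw [pre, Subgroup.index_comap_of_surjective _ (QuotientGroup.mk'_surjective _)] at h
  have h2 := gcd_mul_card_PSL_two (F := F)
  rw [← card_SL_two, ← h, ← Subgroup.card_mul_index G, ← mul_assoc] at h2
  exact (Nat.eq_of_mul_eq_mul_right
    (Nat.pos_of_ne_zero Subgroup.index_ne_zero_of_finite) h2).symm

/-- Conjugates in `PGL(2, F)`. -/
noncomputable abbrev conjG (g : GL (Fin 2) F) (G : Subgroup (Matrix.ProjectiveSpecialLinearGroup (Fin 2) F)) :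
    Subgroup (Matrix.ProjectiveSpecialLinearGroup (Fin 2) F) :=
  G.map (AutPSL.conjAut g).toMonoidHom

theorem card_conjG (g : GL (Fin 2) F) (G : Subgroup PSL2) : Nat.card (conjG g G) = Nat.card G :=
  (Nat.card_congr (G.equivMapOfInjective _ (MulEquiv.injective _)).toEquiv).symm

theorem conjG_mul (g h : GL (Fin 2) F) (G : Subgroup PSL2) :
    conjG (g * h) G = conjG g (conjG h G) := by
  rw [conjG, conjG, conjG, Subgroup.map_map, map_mul]
  rfl

theorem conjG_one (G : Subgroup PSL2) : conjG 1 G = G := by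
  rw [conjG, map_one]
  exact Subgroup.map_id G

theorem conjG_mono (g : GL (Fin 2) F) {G H : Subgroup PSL2} (h : G ≤ H) : conjG g G ≤ conjG g H :=
  Subgroup.map_mono h

/-- Conjugate subgroups are isomorphic. -/
noncomputable def conjGEquiv (g : GL (Fin 2) F) (G : Subgroup (Matrix.ProjectiveSpecialLinearGroup (Fin 2) F)) :
    G ≃* conjG g G :=
  G.equivMapOfInjective _ (MulEquiv.injective _)

theorem conjSL_eq_of_mul {g : GL (Fin 2) F} {x y : SL2}
    (h : (g : M2) * (x : M2) = (y : M2) * (g : M2)) : AutPSL.conjSL g x = y := by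
  apply Subtype.ext
  rw [AutPSL.coe_conjSL, h, Matrix.mul_assoc, Units.mul_inv, Matrix.mul_one]

theorem mem_pre_conjG {g : GL (Fin 2) F} {G : Subgroup PSL2} {y : SL2} :
    y ∈ pre (conjG g G) ↔ ∃ x ∈ pre G, AutPSL.conjSL g x = y := by
  constructor
  · rintro ⟨z, hz, hzy⟩
    refine ⟨AutPSL.conjSL g⁻¹ y, ?_, ?_⟩
    · rw [mem_pre, ← AutPSL.conjAut_mk]
      have h' : AutPSL.conjAut g z = (y : PSL2) := hzy
      rw [← h', ← MulAut.mul_apply, ← map_mul, inv_mul_cancel, map_one]
      exact hz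
    · rw [← MulAut.mul_apply, ← map_mul, mul_inv_cancel, map_one]
      rfl
  · rintro ⟨x, hx, rfl⟩
    exact ⟨(x : PSL2), hx, AutPSL.conjAut_mk g x⟩

end Cfsg.Agent.Lib.DicksonId
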