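import Cfsg.Agent.Lib.DicksonId.Normal
import Cfsg.Agent.Lib.DicksonFull.Exist
import Mathlib.FieldTheory.Finite.GaloisField

/-!
Identification of the subgroups of `PSL(2, F)` of order `q (q² - 1) / c` as subfield groups.
-/

set_option autoImplicit false

namespace Cfsg.Agent.Lib.DicksonId

open Matrix Cfsg.Agent.Lib.Linear
open Cfsg.Agent.Lib.DicksonFull (slExt pslExt mem_center_iff_smul mk_eq_one_of_smul)
open Cfsg.Agent.Lib.PLocal.SLTwo (up lo up_add lo_add)
open Cfsg.Agent.Lib.Dickson (transl mem_transl borel mem_borel diagHom coe_diagHom coe_up coe_lo negI)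

section Hom

variable {K F : Type*} [Field K] [Field F]

/-- Scalar multiples give the same element of `PSL`. -/
theorem mk_eq_of_smul {x y : Matrix.SpecialLinearGroup (Fin 2) F} {c : F}
    (h : (y : Matrix (Fin 2) (Fin 2) F) = c • (x : Matrix (Fin 2) (Fin 2) F)) :
    (x : Matrix.ProjectiveSpecialLinearGroup (Fin 2) F) = y :=
  (AutPSL.mk_eq_mk_iff x y).mpr ⟨c, h⟩

/-- `PGL(2, K) → PSL(2, F)` on scalar multiples. -/
structure IsPglHom (f : K →+* F)
    (φ : Matrix.ProjGenLinGroup (Fin 2) K →* Matrix.ProjectiveSpecialLinearGroup (Fin 2) F) : Prop where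
  injective : Function.Injective φ
  spec : ∀ (x : Matrix.SpecialLinearGroup (Fin 2) F) (g : GL (Fin 2) K) (c : F),
    (x : Matrix (Fin 2) (Fin 2) F) = c • (g : Matrix (Fin 2) (Fin 2) K).map f →
    φ (Matrix.ProjGenLinGroup.mk g) = x
  surj : ∀ y, y ∈ φ.range → ∃ (x : Matrix.SpecialLinearGroup (Fin 2) F) (g : GL (Fin 2) K) (c : F),
    (x : Matrix (Fin 2) (Fin 2) F) = c • (g : Matrix (Fin 2) (Fin 2) K).map f ∧
      y = x

theorem exists_isPglHom (f : K →+* F) (hs : ∀ a : K, IsSquare (f a)) :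
    ∃ φ, IsPglHom f φ := by
  obtain ⟨φ, hφ, hsl⟩ := DicksonFull.exists_pgl_hom f hs
  choose s hs' using fun g : GL (Fin 2) K => hs (g : Matrix (Fin 2) (Fin 2) K).det
  have hs0 : ∀ g, s g ≠ 0 := fun g h => by
    have := hs' g
    rw [h, mul_zero, map_eq_zero] at this
    exact GeneralLinearGroup.det_ne_zero g this
  let σ : GL (Fin 2) K → Matrix.SpecialLinearGroup (Fin 2) F := fun g =>
    ⟨(s g)⁻¹ • (g : Matrix (Fin 2) (Fin 2) K).map f, by
      rw [Matrix.det_smul, Fintype.card_fin, ← RingHom.mapMatrix_apply, ← RingHom.map_det, hs' g]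
      field_simp [hs0 g]⟩
  have key : ∀ (x : Matrix.SpecialLinearGroup (Fin 2) F) (g : GL (Fin 2) K) (c : F),
      (x : Matrix (Fin 2) (Fin 2) F) = c • (g : Matrix (Fin 2) (Fin 2) K).map f →
      (x : Matrix.ProjectiveSpecialLinearGroup (Fin 2) F) = (σ g : Matrix.SpecialLinearGroup (Fin 2) F) := by
    intro x g c hx
    refine (mk_eq_of_smul (c := c * s g) ?_).symm
    show (x : Matrix (Fin 2) (Fin 2) F) = (c * s g) • ((s g)⁻¹ • (g : Matrix (Fin 2) (Fin 2) K).map f)
    rw [hx, smul_smul, mul_assoc, mul_inv_cancel₀ (hs0 g), mul_one]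
  let ψ : GL (Fin 2) K →* Matrix.ProjectiveSpecialLinearGroup (Fin 2) F :=
    MonoidHom.mk' (fun g => (σ g : Matrix.SpecialLinearGroup (Fin 2) F)) fun g h => by
      rw [← QuotientGroup.mk_mul]
      refine (key (σ g * σ h) (g * h) ((s g)⁻¹ * (s h)⁻¹) ?_).symm
      rw [Matrix.SpecialLinearGroup.coe_mul]
      show ((s g)⁻¹ • (g : Matrix (Fin 2) (Fin 2) K).map f) * ((s h)⁻¹ • (h : Matrix (Fin 2) (Fin 2) K).map f) = _
      rw [Units.val_mul, Matrix.map_mul, Matrix.smul_mul, Matrix.mul_smul, smul_smul]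
  have hker : ∀ g, ψ g = 1 ↔ g ∈ Subgroup.center (GL (Fin 2) K) := by
    intro g
    rw [GeneralLinearGroup.center_eq_range_scalar]
    constructor
    · intro hg
      obtain ⟨a, ha⟩ := (mem_center_iff_smul _).mp ((QuotientGroup.eq_one_iff _).mp hg)
      have h : ∀ i j, f ((g : Matrix (Fin 2) (Fin 2) K) i j) = if i = j then s g * a else 0 := by
        intro i j
        have h' := congrFun (congrFun ha i) j
        replace h' : (s g)⁻¹ * f ((g : Matrix (Fin 2) (Fin 2) K) i j) =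
            (a • (1 : Matrix (Fin 2) (Fin 2) F)) i j := h'
        rw [← mul_inv_cancel_left₀ (hs0 g) (f _), h']
        fin_cases i <;> fin_cases j <;> simp
      have h01 : (g : Matrix (Fin 2) (Fin 2) K) 0 1 = 0 := f.injective (by simp [h])
      have h10 : (g : Matrix (Fin 2) (Fin 2) K) 1 0 = 0 := f.injective (by simp [h])
      have h11 : (g : Matrix (Fin 2) (Fin 2) K) 1 1 = (g : Matrix (Fin 2) (Fin 2) K) 0 0 :=
        f.injective (by simp [h])
      refine ⟨Units.mk0 ((g : Matrix (Fin 2) (Fin 2) K) 0 0) ?_, ?_⟩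
      · intro h0
        have := GeneralLinearGroup.det_ne_zero g
        rw [Matrix.det_fin_two, h0, h01] at this
        simp at this
      · ext i j
        fin_cases i <;> fin_cases j <;> simp [h01, h10, h11]
    · rintro ⟨u, rfl⟩
      refine mk_eq_one_of_smul (a := (s (GeneralLinearGroup.scalar (Fin 2) u))⁻¹ * f u) ?_
      show (_ : F)⁻¹ • Matrix.map _ f = _
      ext i j
      fin_cases i <;> fin_cases j <;> simp
  refine ⟨QuotientGroup.lift (Subgroup.center (GL (Fin 2) K)) ψ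
    (fun g hg => MonoidHom.mem_ker.mpr ((hker g).mpr hg)), ?_, fun x g c h => ?_, ?_⟩
  · refine (injective_iff_map_eq_one _).mpr fun g hg => ?_
    obtain ⟨g, rfl⟩ := Matrix.ProjGenLinGroup.mk_surjective g
    exact Matrix.ProjGenLinGroup.mk_eq_one.mpr ((hker g).mp hg)
  · exact (key x g c h).symm
  · rintro y ⟨z, rfl⟩
    obtain ⟨g, rfl⟩ := Matrix.ProjGenLinGroup.mk_surjective z
    exact ⟨σ g, g, (s g)⁻¹, rfl, rfl⟩

theorem IsPglHom.comp_toGL {f : K →+* F}
    {φ : Matrix.ProjGenLinGroup (Fin 2) K →* Matrix.ProjectiveSpecialLinearGroup (Fin 2) F}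
    (h : IsPglHom f φ) (x : Matrix.SpecialLinearGroup (Fin 2) K) :
    φ (Matrix.ProjGenLinGroup.mk x.toGL) = pslExt f x :=
  h.spec (slExt f x) x.toGL 1 (by rw [one_smul]; rfl)

theorem pslExt_range_le {f : K →+* F}
    {φ : Matrix.ProjGenLinGroup (Fin 2) K →* Matrix.ProjectiveSpecialLinearGroup (Fin 2) F}
    (h : IsPglHom f φ) : (pslExt f).range ≤ φ.range := by
  rintro _ ⟨z, rfl⟩
  obtain ⟨x, rfl⟩ := QuotientGroup.mk_surjective z
  exact ⟨_, h.comp_toGL x⟩

end Hom

section Main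

variable {F : Type*} [Field F] [Fintype F] {p : ℕ} [hp : Fact p.Prime] [CharP F p]

local notation "SL2" => Matrix.SpecialLinearGroup (Fin 2) F
local notation "M2" => Matrix (Fin 2) (Fin 2) F
local notation "PSL2" => Matrix.ProjectiveSpecialLinearGroup (Fin 2) F

theorem gcd_two_eq {K : Type*} [Field K] [Fintype K] [CharP K p] :
    Nat.gcd 2 (Fintype.card K - 1) = if p = 2 then 1 else 2 := by
  obtain ⟨f, hf, hq⟩ := exists_card_eq_pow (F := K) p
  rw [hq]
  split_ifs with h
  · subst h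
    have : 2 ^ f % 2 = 0 := by rw [Nat.pow_mod, Nat.mod_self, Nat.zero_pow hf]
    have := Nat.pow_pos (n := f) (show 0 < 2 by norm_num)
    exact Nat.coprime_two_left.mpr ⟨(2 ^ f - 2) / 2, by omega⟩
  · refine Nat.gcd_eq_left ?_
    have : p ^ f % 2 = 1 := Nat.odd_iff.mp (hp.out.odd_of_ne_two h).pow
    omega

/-- Subgroups of order `q (q² - 1) / c` are subfield groups up to conjugacy. -/
theorem subfield_ident (G : Subgroup PSL2) {k : ℕ} (hk : 0 < k) (hk1 : p ^ k ∣ Nat.card G)
    (hk2 : ¬ p ^ (k + 1) ∣ Nat.card G)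
    (hG : 2 * Nat.card G + p ^ k = (p ^ k) ^ 3 ∨ Nat.card G + p ^ k = (p ^ k) ^ 3) :
    (∀ f, Fintype.card F = p ^ f → k ∣ f) ∧
    ∃ (g : GL (Fin 2) F) (φ : GaloisField p k →+* F),
      conjG g G = (pslExt φ).range ∨
        (p ≠ 2 ∧ (∀ a, IsSquare (φ a)) ∧ ∃ ψ, IsPglHom φ ψ ∧ conjG g G = ψ.range) := by
  obtain ⟨c, hc, hG⟩ : ∃ c, (c = 1 ∨ c = 2) ∧ c * Nat.card G + p ^ k = (p ^ k) ^ 3 := by
    rcases hG with h | h
    · exact ⟨2, Or.inr rfl, h⟩
    · exact ⟨1, Or.inl rfl, by rwa [one_mul]⟩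
  set q := p ^ k with hqdef
  have hq2 : 2 ≤ q := hp.out.two_le.trans (Nat.le_self_pow hk.ne' p)
  have hform : c * Nat.card G = q * ((q - 1) * (q + 1)) := by
    obtain ⟨m, hm⟩ : ∃ m, q = m + 1 := ⟨q - 1, by omega⟩
    rw [hm] at hG ⊢
    rw [Nat.add_sub_cancel]
    nlinarith
  have hkf : ∀ f, Fintype.card F = p ^ f → k ∣ f := by
    intro f hf
    refine DicksonFull.dvd_of_sq_sub_one_dvd hp.out.two_le hk ?_
    refine (DicksonFull.coprime_pow_sub_one (a := f) hp.out (by omega)).dvd_of_dvd_mul_left ?_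
    have e : ∀ j, p ^ (2 * j) - 1 = (p ^ j - 1) * (p ^ j + 1) := fun j => by
      rw [mul_comm 2 j, pow_mul, mul_comm (p ^ j - 1)]
      exact Nat.sq_sub_sq (p ^ j) 1 |>.trans rfl
    have h1 : p ^ (2 * k) - 1 ∣ c * Nat.card G := by
      rw [hform, e]; exact dvd_mul_left _ _
    refine h1.trans ((mul_dvd_mul (show c ∣ 2 from ?_) (Subgroup.card_subgroup_dvd_card G)).trans ?_)
    · rcases hc with rfl | rfl <;> norm_num
    · rw [e, show p ^ f * (2 * ((p ^ f - 1) * (p ^ f + 1))) =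
        2 * (p ^ f * (p ^ f - 1) * (p ^ f + 1)) by ring, ← hf, ← gcd_mul_card_PSL_two]
      exact Nat.mul_dvd_mul_left 2 (dvd_mul_left _ _)
  refine ⟨hkf, ?_⟩
  letI : Fintype (GaloisField p k) := Fintype.ofFinite _
  have hK : Fintype.card (GaloisField p k) = q := by
    rw [← Nat.card_eq_fintype_card, GaloisField.card p k hk.ne']
  obtain ⟨f, hf, hF⟩ := exists_card_eq_pow (F := F) p
  obtain ⟨r, rfl⟩ := hkf f hF
  obtain ⟨φ⟩ := DicksonFull.exists_ringHom (K := GaloisField p k) (F := F) hK hF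
  obtain ⟨g, hA, h1A, hlam⟩ := exists_normal_form (p := p) G hk hk1 hk2 hc hG
  refine ⟨g, φ, ?_⟩
  set H := pre (conjG g G) with hHdef
  obtain ⟨-, hd⟩ := count (p := p) (conjG g G) hq2 hc hA (by rw [card_conjG]; exact hG)
  set d := Nat.card (torusSq H) with hddef
  -- the torus consists of all `d`-th roots of unity
  have hroot : ∀ u : Fˣ, u ^ d = 1 → u ∈ torusSq H := by
    classical
    intro u hu
    have hsub : (Finset.univ.filter fun x : Fˣ => x ∈ torusSq H) ⊆
        Finset.univ.filter fun x : Fˣ => x ^ d = 1 := by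
      intro x hx
      rw [Finset.mem_filter] at hx ⊢
      exact ⟨Finset.mem_univ _, congrArg Subtype.val (pow_card_eq_one' (x := (⟨x, hx.2⟩ : torusSq H)))⟩
    have hle := IsCyclic.card_pow_eq_one_le (α := Fˣ) (n := d) Nat.card_pos
    have heq := Finset.eq_of_subset_of_card_le hsub (hle.trans (le_of_eq (by
      rw [hddef, Nat.card_eq_fintype_card, Fintype.card_subtype])))
    have hmem : u ∈ Finset.univ.filter fun x : Fˣ => x ^ d = 1 := by simp [hu]
    rw [← heq, Finset.mem_filter] at hmem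
    exact hmem.2
  have hsqd : ∀ a : GaloisField p k, a ≠ 0 → ∀ u : Fˣ, (u : F) = φ a ^ 2 → u ∈ torusSq H := by
    intro a ha u hu
    refine hroot u (Units.ext ?_)
    rw [Units.val_pow_eq_pow_val, hu, Units.val_one, ← pow_mul, ← map_pow]
    have h1 : (2 * d) = (2 / c) * (q - 1) := by
      rw [← hd, Nat.add_sub_cancel]
      rcases hc with rfl | rfl <;> simp
    rw [h1, mul_comm (2 / c), pow_mul, ← hK, FiniteField.pow_card_sub_one_eq_one a ha, one_pow, map_one]
  have hKA : ∀ a : GaloisField p k, φ a ∈ transl H := by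
    have hsq : ∀ a : GaloisField p k, φ (a ^ 2) ∈ transl H := by
      intro a
      rcases eq_or_ne a 0 with rfl | ha
      · rw [zero_pow two_ne_zero, map_zero]; exact (transl H).zero_mem
      obtain ⟨s, hs, hs'⟩ := hsqd a ha (Units.mk0 (φ a ^ 2) (pow_ne_zero 2 ((map_ne_zero φ).mpr ha))) rfl
      have := sq_mul_mem_transl hs h1A
      rw [mul_one] at this
      rw [map_pow]
      have h2 : ((s : F)) ^ 2 = φ a ^ 2 := by simpa using congrArg (fun u : Fˣ => (u : F)) hs'
      rwa [h2] at this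
    intro a
    by_cases h2 : (2 : GaloisField p k) = 0
    · have h2' : ringChar (GaloisField p k) = 2 := by
        by_contra hcne
        exact Ring.two_ne_zero hcne h2
      obtain ⟨b, hb⟩ := FiniteField.isSquare_of_char_two h2' a
      rw [hb, ← pow_two]
      exact hsq b
    · obtain ⟨u, v, huv⟩ := DicksonFull.exists_sum_sq h2 a
      rw [← huv, map_add]
      exact (transl H).add_mem (hsq u) (hsq v)
  have hAK : ∀ z, z ∈ transl H → ∃ a, φ a = z := by
    have heq := Set.eq_of_subset_of_ncard_le (s := Set.range φ) (t := (transl H : Set F))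
      (by rintro _ ⟨a, rfl⟩; exact hKA a) (by
        rw [← Nat.card_coe_set_eq, ← Nat.card_coe_set_eq, Nat.card_range_of_injective φ.injective,
          Nat.card_eq_fintype_card (α := GaloisField p k), hK]
        exact hA.le) (Set.toFinite _)
    intro z hz
    exact (Set.ext_iff.mp heq z).mpr hz
  -- the opposite root group
  obtain ⟨g₀, hg₀, hg₀1, hg₀0⟩ := (hlam 0).mpr (transl H).zero_mem
  set γ := (g₀ : M2) 1 0
  have hg00 : (g₀ : M2) 0 0 = 0 := by
    rcases div_eq_zero_iff.mp hg₀0.symm with h | h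
    · exact h
    · exact absurd h hg₀1
  have hlo : ∀ a ∈ transl H, lo (-(γ ^ 2) * a) ∈ H := by
    intro a ha
    have key : g₀ * up a * g₀⁻¹ = lo (-(γ ^ 2) * a) := by
      rw [mul_inv_eq_iff_eq_mul]
      apply Subtype.ext
      have hd0 := sl2_det g₀
      rw [hg00] at hd0
      ext i j
      fin_cases i <;> fin_cases j <;> simp [coe_up, coe_lo, Matrix.mul_apply, Fin.sum_univ_two, hg00, γ]
      linear_combination (-(g₀ : M2) 1 0 * a) * hd0
    rw [← key]
    exact H.mul_mem (H.mul_mem hg₀ ha) (H.inv_mem hg₀)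
  obtain ⟨m, hm, hm0⟩ : ∃ m, φ m = -(γ ^ 2) ∧ m ≠ 0 := by
    have hne : (-(γ ^ 2) : F) ≠ 0 := neg_ne_zero.mpr (pow_ne_zero 2 hg₀1)
    suffices h : ∃ m, φ m = -(γ ^ 2) by
      obtain ⟨m, hm⟩ := h
      exact ⟨m, hm, fun h0 => hne (by rw [← hm, h0, map_zero])⟩
    by_cases h0 : -(γ ^ 2) + 1 = 0
    · exact ⟨-1, by rw [map_neg, map_one]; linear_combination (-1) * h0⟩
    obtain ⟨h, hh, hh10, hh1⟩ := (hlam 1).mpr h1A
    rw [eq_div_iff hh10, one_mul] at hh1
    have hmem : (-(γ ^ 2) + 1)⁻¹ ∈ lam H := by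
      refine ⟨lo (-(γ ^ 2) * 1) * h, H.mul_mem (hlo 1 h1A) hh, ?_, ?_⟩
      · simp [coe_lo, Matrix.mul_apply, Fin.sum_univ_two, ← hh1]
        intro e
        rcases mul_eq_zero.mp (show (-(γ ^ 2) + 1) * (h : M2) 1 0 = 0 by linear_combination e) with e' | e'
        · exact h0 e'
        · exact hh10 e'
      · simp [coe_lo, Matrix.mul_apply, Fin.sum_univ_two, ← hh1]
        rw [inv_eq_one_div, div_eq_div_iff h0]
        · ring
        · intro e
          rcases mul_eq_zero.mp (show (-(γ ^ 2) + 1) * (h : M2) 1 0 = 0 by linear_combination e) with e' | e'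
          · exact h0 e'
          · exact hh10 e'
    obtain ⟨a, ha⟩ := hAK _ ((hlam _).mp hmem)
    exact ⟨a⁻¹ - 1, by rw [map_sub, map_inv₀, ha, inv_inv, map_one, add_sub_cancel_right]⟩
  have hloK : ∀ a : GaloisField p k, lo (φ a) ∈ H := fun a => by
    have := hlo _ (hKA (a / m))
    rwa [← hm, ← map_mul, mul_div_cancel₀ a hm0] at this
  have hrange : (pslExt φ).range ≤ conjG g G := by
    rintro _ ⟨z, rfl⟩
    obtain ⟨x, rfl⟩ := QuotientGroup.mk_surjective z
    rw [DicksonFull.pslExt_mk, ← mem_pre]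
    have hx : x ∈ H.comap (slExt φ) := by
      have htop := PLocal.SLTwo.closure_eq_top (F := GaloisField p k)
      refine (Subgroup.closure_le _).mpr ?_ (htop ▸ Subgroup.mem_top x)
      rintro _ (⟨a, rfl⟩ | ⟨a, rfl⟩)
      · have e : slExt φ (up a) = up (φ a) := Subtype.ext (Matrix.ext fun i j => by
          fin_cases i <;> fin_cases j <;> simp [DicksonFull.slExt_apply, coe_up])
        show slExt φ (up a) ∈ H
        rw [e]; exact hKA a
      · have e : slExt φ (lo a) = lo (φ a) := Subtype.ext (Matrix.ext fun i j => by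
          fin_cases i <;> fin_cases j <;> simp [DicksonFull.slExt_apply, coe_lo])
        show slExt φ (lo a) ∈ H
        rw [e]; exact hloK a
    exact hx
  have hcardK := gcd_mul_card_PSL_two (F := GaloisField p k)
  have hcr : Nat.card (pslExt φ).range =
      Nat.card (Matrix.ProjectiveSpecialLinearGroup (Fin 2) (GaloisField p k)) :=
    (Nat.card_congr (MonoidHom.ofInjective (DicksonFull.pslExt_injective φ)).toEquiv).symm
  rw [← hcr, gcd_two_eq (p := p), hK, mul_assoc q, ← hform, ← card_conjG g G] at hcardK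
  by_cases hcase : c = if p = 2 then 1 else 2
  · left
    rw [← hcase] at hcardK
    exact (Subgroup.eq_of_le_of_card_ge hrange
      (Nat.eq_of_mul_eq_mul_left (by omega) hcardK).ge).symm
  obtain ⟨hc1, hp2⟩ : c = 1 ∧ p ≠ 2 := by
    by_cases h : p = 2
    · -- `c = 2` is impossible in characteristic two
      rw [if_pos h] at hcase
      exfalso
      have h1 : 2 ∣ q := by rw [hqdef, h]; exact dvd_pow_self 2 hk.ne'
      rcases hc with e | e
      · exact hcase e
      · subst e; omega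
    · rw [if_neg h] at hcase
      exact ⟨hc.resolve_right hcase, h⟩
  subst hc1
  right
  rw [one_mul] at hd
  -- every element of `K` is a square
  have hKd : ∀ a : GaloisField p k, a ≠ 0 → ∀ u : Fˣ, (u : F) = φ a → u ∈ torusSq H := by
    intro a ha u hu
    refine hroot u (Units.ext ?_)
    rw [Units.val_pow_eq_pow_val, hu, Units.val_one, ← map_pow, show d = q - 1 by omega, ← hK,
      FiniteField.pow_card_sub_one_eq_one a ha, map_one]
  have hroot2 : ∀ a : GaloisField p k, a ≠ 0 → ∃ r ∈ (diagHom H).range, φ a = (r : F) * r := by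
    intro a ha
    obtain ⟨r, hr, hru⟩ := hKd a ha (Units.mk0 (φ a) ((map_ne_zero φ).mpr ha)) rfl
    exact ⟨r, hr, by simpa [pow_two] using (congrArg (fun u : Fˣ => (u : F)) hru).symm⟩
  have hsquare : ∀ a : GaloisField p k, IsSquare (φ a) := fun a => by
    rcases eq_or_ne a 0 with rfl | ha
    · exact ⟨0, by simp⟩
    · obtain ⟨r, -, hr⟩ := hroot2 a ha
      exact ⟨r, hr⟩
  refine ⟨hp2, hsquare, ?_⟩
  obtain ⟨ψ, hψ⟩ := exists_isPglHom φ hsquare
  refine ⟨ψ, hψ, ?_⟩
  have hle : ψ.range ≤ conjG g G := by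
    rintro _ ⟨z, rfl⟩
    obtain ⟨M, rfl⟩ := Matrix.ProjGenLinGroup.mk_surjective z
    set δ := (M : Matrix (Fin 2) (Fin 2) (GaloisField p k)).det with hδdef
    have hδ : δ ≠ 0 := GeneralLinearGroup.det_ne_zero M
    obtain ⟨r, hrR, hr⟩ := hroot2 δ hδ
    let D : GL (Fin 2) (GaloisField p k) :=
      GeneralLinearGroup.mkOfDetNeZero !![δ, 0; 0, 1] (by simp [Matrix.det_fin_two_of, hδ])
    let s : Matrix.SpecialLinearGroup (Fin 2) (GaloisField p k) :=
      ⟨((D⁻¹ * M : GL (Fin 2) (GaloisField p k)) : Matrix (Fin 2) (Fin 2) (GaloisField p k)), by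
        rw [Units.val_mul, Matrix.det_mul, ← hδdef, Matrix.coe_units_inv, Matrix.det_nonsing_inv]
        simp [D, GeneralLinearGroup.val_mkOfDetNeZero, Matrix.det_fin_two_of, hδ]⟩
    have hM : M = D * s.toGL := by
      have : s.toGL = D⁻¹ * M := Units.ext rfl
      rw [this, mul_inv_cancel_left]
    rw [hM, map_mul, map_mul]
    refine Subgroup.mul_mem _ ?_ (hrange ⟨s, (hψ.comp_toGL s).symm⟩)
    -- the diagonal element
    obtain ⟨⟨h, hh⟩, rfl⟩ := hrR
    have h10 : ((h : SL2) : M2) 1 0 = 0 := (mem_borel H).mp hh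
    have h11 := Dickson.borel_diag hh
    rw [coe_diagHom] at hr
    change φ δ = ((h : SL2) : M2) 0 0 * ((h : SL2) : M2) 0 0 at hr
    set t := ((h : SL2) : M2) 0 0 with htdef
    set b := ((h : SL2) : M2) 0 1 with hbdef
    have ht : t ≠ 0 := left_ne_zero_of_mul_eq_one h11
    have hbr : b * t ∈ transl H := by
      refine (hlam _).mp ⟨(h : SL2) * g₀, H.mul_mem h.2 hg₀, ?_, ?_⟩
      · simp [Matrix.mul_apply, Fin.sum_univ_two, h10, hg00]
        exact ⟨right_ne_zero_of_mul_eq_one h11, hg₀1⟩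
      · simp [Matrix.mul_apply, Fin.sum_univ_two, h10, hg00, ← htdef, ← hbdef]
        rw [eq_div_iff (mul_ne_zero (right_ne_zero_of_mul_eq_one h11) hg₀1)]
        linear_combination (b * (g₀ : M2) 1 0) * h11
    have hmem : up (-(b * t)) * (h : SL2) ∈ H := H.mul_mem ((transl H).neg_mem hbr) h.2
    have h11' : ((h : SL2) : M2) 1 1 = t⁻¹ := eq_inv_of_mul_eq_one_right h11
    rw [hψ.spec (up (-(b * t)) * (h : SL2)) D t⁻¹ ?_]
    · exact hmem
    · ext i j
      fin_cases i <;> fin_cases j <;>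
        simp [coe_up, D, Matrix.mul_apply, Fin.sum_univ_two, GeneralLinearGroup.val_mkOfDetNeZero,
          h10, h11', ← htdef, ← hbdef]
      · rw [hr]; field_simp
      · field_simp; ring
  refine (Subgroup.eq_of_le_of_card_ge hle ?_).symm
  rw [← Nat.card_congr (MonoidHom.ofInjective hψ.injective).toEquiv, Linear.card_PGL_eq_card_SL,
    card_SL_two, hK, card_conjG, mul_assoc, ← hform, one_mul]

end Main

end Cfsg.Agent.Lib.DicksonId
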