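import Cfsg.Agent.Lib.DicksonId.Basic
import Cfsg.Agent.Lib.DicksonFull.Exist

/-!
Tetrahedral, octahedral and icosahedral subgroups of `PSL(2, F)` are determined up to conjugation in
`PGL(2, F)` by the traces of a generating pair.
-/

set_option autoImplicit false

namespace Cfsg.Agent.Lib.DicksonId

open Matrix Cfsg.Agent.Lib.Linear
open Cfsg.Agent.Lib.DicksonFull (mem_center_iff_smul slExt pslExt)

variable {F : Type*} [Field F]

local notation "SL2" => Matrix.SpecialLinearGroup (Fin 2) F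
local notation "M2" => Matrix (Fin 2) (Fin 2) F
local notation "PSL2" => Matrix.ProjectiveSpecialLinearGroup (Fin 2) F

/-- A trace-zero matrix in the form `(0 -1; 1 0)`. -/
theorem exists_conj_J (h2 : (2 : F) ≠ 0) {W : SL2} (hW : Matrix.trace (W : M2) = 0) :
    ∃ g : GL (Fin 2) F, ((AutPSL.conjSL g W : SL2) : M2) = !![0, -1; 1, 0] := by
  rw [Matrix.trace_fin_two] at hW
  have hd := sl2_det W
  obtain ⟨v, w, hne⟩ : ∃ v w : F,
      v * ((W : M2) 1 0 * v + (W : M2) 1 1 * w) - ((W : M2) 0 0 * v + (W : M2) 0 1 * w) * w ≠ 0 := by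
    by_contra hcon
    push Not at hcon
    have h10 := hcon 1 0
    have h01 := hcon 0 1
    have h11 := hcon 1 1
    simp at h10 h01
    have he : (W : M2) 1 1 = (W : M2) 0 0 := by linear_combination h11 - h10 + h01
    rw [he] at hW
    have h00 : (W : M2) 0 0 = 0 := by
      rcases mul_eq_zero.mp (show (2 : F) * (W : M2) 0 0 = 0 by linear_combination hW) with e | e
      · exact absurd e h2
      · exact e
    simp [h00, he, h10] at hd
  set P : M2 := !![v, (W : M2) 0 0 * v + (W : M2) 0 1 * w; w, (W : M2) 1 0 * v + (W : M2) 1 1 * w]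
  have hP : P.det ≠ 0 := by rw [Matrix.det_fin_two_of]; exact hne
  refine ⟨(GeneralLinearGroup.mkOfDetNeZero P hP)⁻¹, ?_⟩
  set g := GeneralLinearGroup.mkOfDetNeZero P hP
  rw [AutPSL.coe_conjSL, inv_inv, Matrix.mul_assoc]
  have key : (W : M2) * P = P * !![0, -1; 1, 0] := by
    ext i j
    fin_cases i <;> fin_cases j <;> simp [P, Matrix.mul_apply, Fin.sum_univ_two]
    · linear_combination ((W : M2) 0 0 * v + (W : M2) 0 1 * w) * hW - v * hd
    · linear_combination ((W : M2) 1 0 * v + (W : M2) 1 1 * w) * hW - w * hd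
  rw [show ((g : GL (Fin 2) F) : M2) = P from rfl, key, ← Matrix.mul_assoc,
    show P = ((g : GL (Fin 2) F) : M2) from rfl, Units.inv_mul, Matrix.one_mul]

/-- Pairs with the standard first member. -/
theorem exists_rot (h2 : (2 : F) ≠ 0) {W X Y : SL2} (hW : (W : M2) = !![0, -1; 1, 0]) {t τ : F}
    (hne : t ^ 2 + τ ^ 2 ≠ 4) (hX : Matrix.trace (X : M2) = t) (hY : Matrix.trace (Y : M2) = t)
    (hWX : Matrix.trace ((W * X : SL2) : M2) = τ) (hWY : Matrix.trace ((W * Y : SL2) : M2) = τ) :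
    ∃ g : GL (Fin 2) F, AutPSL.conjSL g W = W ∧ AutPSL.conjSL g X = Y := by
  rw [DicksonFull.trace_mul] at hWX hWY
  rw [Matrix.trace_fin_two] at hX hY
  simp [hW] at hWX hWY
  have dX := sl2_det X
  have dY := sl2_det Y
  set a := (X : M2) 0 0
  set b := (X : M2) 0 1
  set c := (X : M2) 1 0
  set d := (X : M2) 1 1
  set a' := (Y : M2) 0 0
  set b' := (Y : M2) 0 1
  set c' := (Y : M2) 1 0
  set d' := (Y : M2) 1 1
  have hR : (a - d) ^ 2 + (b + c) ^ 2 = t ^ 2 + τ ^ 2 - 4 := by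
    linear_combination (a + d + t) * hX + (-c + b + τ) * hWX - 4 * dX
  have hR' : (a' - d') ^ 2 + (b' + c') ^ 2 = t ^ 2 + τ ^ 2 - 4 := by
    linear_combination (a' + d' + t) * hY + (-c' + b' + τ) * hWY - 4 * dY
  suffices h : ∃ α β : F, α ^ 2 + β ^ 2 ≠ 0 ∧ α * ((a - d) - (a' - d')) = β * ((b + c) + (b' + c')) ∧
      α * ((b + c) - (b' + c')) = -β * ((a - d) + (a' - d')) by
    obtain ⟨α, β, hdet, e1, e2⟩ := h
    have hg : (!![α, -β; β, α] : M2).det ≠ 0 := by
      rw [Matrix.det_fin_two_of]; intro h0; exact hdet (by linear_combination h0)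
    refine ⟨GeneralLinearGroup.mkOfDetNeZero _ hg, conjSL_eq_of_mul ?_, conjSL_eq_of_mul ?_⟩
    · rw [hW]
      ext i j
      fin_cases i <;> fin_cases j <;>
        simp [Matrix.mul_apply, Fin.sum_univ_two, GeneralLinearGroup.val_mkOfDetNeZero]
    · ext i j
      fin_cases i <;> fin_cases j <;>
        simp [Matrix.mul_apply, Fin.sum_univ_two, GeneralLinearGroup.val_mkOfDetNeZero] <;>
        apply mul_left_cancel₀ h2
      · linear_combination e1 + α * (hX - hY) + β * (hWX - hWY)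
      · linear_combination e2 + α * (hWX - hWY) + β * (hY - hX)
      · linear_combination e2 - α * (hWX - hWY) - β * (hY - hX)
      · linear_combination (-1) * e1 + α * (hX - hY) + β * (hWX - hWY)
  set u := a - d
  set s := b + c
  set u' := a' - d'
  set s' := b' + c'
  by_cases h0 : (s + s') ^ 2 + (u - u') ^ 2 = 0
  · refine ⟨u + u', -(s - s'), ?_, ?_, by ring⟩
    · intro h1
      apply hne
      have h4 : (4 : F) * (t ^ 2 + τ ^ 2 - 4) = 0 := by linear_combination h0 + h1 - 2 * hR - 2 * hR'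
      rcases mul_eq_zero.mp h4 with e | e
      · exact absurd (mul_self_eq_zero.mp (show (2 : F) * 2 = 0 by linear_combination e)) h2
      · linear_combination e
    · linear_combination hR - hR'
  · refine ⟨s + s', u - u', h0, by ring, ?_⟩
    linear_combination hR - hR'

/-- Pairs with equal traces are conjugate. -/
theorem pair_conj (h2 : (2 : F) ≠ 0) {W X W' X' : SL2} {t τ : F} (hne : t ^ 2 + τ ^ 2 ≠ 4)
    (hW : Matrix.trace (W : M2) = 0) (hW' : Matrix.trace (W' : M2) = 0)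
    (hX : Matrix.trace (X : M2) = t) (hX' : Matrix.trace (X' : M2) = t)
    (hWX : Matrix.trace ((W * X : SL2) : M2) = τ) (hWX' : Matrix.trace ((W' * X' : SL2) : M2) = τ) :
    ∃ g : GL (Fin 2) F, AutPSL.conjSL g W = W' ∧ AutPSL.conjSL g X = X' := by
  have htr : ∀ (g : GL (Fin 2) F) (Z : SL2), Matrix.trace ((AutPSL.conjSL g Z : SL2) : M2) =
      Matrix.trace (Z : M2) := fun g Z => by
    rw [AutPSL.coe_conjSL, Matrix.trace_mul_comm, ← Matrix.mul_assoc, Units.inv_mul, Matrix.one_mul]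
  obtain ⟨g₁, h1⟩ := exists_conj_J h2 hW
  obtain ⟨g₂, h2'⟩ := exists_conj_J h2 hW'
  have heq : AutPSL.conjSL g₂ W' = AutPSL.conjSL g₁ W := Subtype.ext (h2'.trans h1.symm)
  obtain ⟨g, hgW, hgX⟩ := exists_rot h2 h1 hne (X := AutPSL.conjSL g₁ X) (Y := AutPSL.conjSL g₂ X')
    (by rw [htr, hX]) (by rw [htr, hX']) (by rw [← map_mul, htr, hWX])
    (by rw [← heq, ← map_mul, htr, hWX'])
  refine ⟨g₂⁻¹ * (g * g₁), ?_, ?_⟩ <;> rw [map_mul, map_mul, MulAut.mul_apply, MulAut.mul_apply]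
  · rw [hgW, ← heq, ← MulAut.mul_apply, ← map_mul, inv_mul_cancel, map_one]; rfl
  · rw [hgX, ← MulAut.mul_apply, ← map_mul, inv_mul_cancel, map_one]; rfl

/-- Generated by a pair with traces `0`, `1`, `τ`. -/
def HasPair (G : Subgroup (Matrix.ProjectiveSpecialLinearGroup (Fin 2) F)) (τ : F) : Prop :=
  ∃ W X : Matrix.SpecialLinearGroup (Fin 2) F, Matrix.trace (W : Matrix (Fin 2) (Fin 2) F) = 0 ∧
    Matrix.trace (X : Matrix (Fin 2) (Fin 2) F) = 1 ∧
    Matrix.trace ((W * X : Matrix.SpecialLinearGroup (Fin 2) F) : Matrix (Fin 2) (Fin 2) F) = τ ∧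
    G = Subgroup.closure {(W : Matrix.ProjectiveSpecialLinearGroup (Fin 2) F),
      (X : Matrix.ProjectiveSpecialLinearGroup (Fin 2) F)}

theorem mk_negI_mul (W : SL2) : ((Dickson.negI * W : SL2) : PSL2) = (W : PSL2) := by
  rw [QuotientGroup.mk_mul, mk_negI, one_mul]

theorem trace_negI_mul (W : SL2) :
    Matrix.trace ((Dickson.negI * W : SL2) : M2) = -Matrix.trace (W : M2) := by
  rw [Matrix.SpecialLinearGroup.coe_mul, Dickson.coe_negI, neg_one_mul, Matrix.trace_neg]

theorem HasPair.neg {G : Subgroup PSL2} {τ : F} (h : HasPair G τ) : HasPair G (-τ) := by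
  obtain ⟨W, X, hW, hX, hWX, hG⟩ := h
  exact ⟨Dickson.negI * W, X, by rw [trace_negI_mul, hW, neg_zero], hX,
    by rw [mul_assoc, trace_negI_mul, hWX], by rw [mk_negI_mul, hG]⟩

theorem HasPair.exists_conj (h2 : (2 : F) ≠ 0) {G G' : Subgroup PSL2} {τ : F} (hτ : τ ^ 2 ≠ 3)
    (h : HasPair G τ) (h' : HasPair G' τ) : ∃ g : GL (Fin 2) F, conjG g G = G' := by
  obtain ⟨W, X, hW, hX, hWX, rfl⟩ := h
  obtain ⟨W', X', hW', hX', hWX', rfl⟩ := h'
  obtain ⟨g, hgW, hgX⟩ := pair_conj h2 (t := 1) (τ := τ)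
    (fun e => hτ (by linear_combination e)) hW hW' hX hX' hWX hWX'
  refine ⟨g, ?_⟩
  rw [conjG, MonoidHom.map_closure, Set.image_pair, MulEquiv.coe_toMonoidHom, AutPSL.conjAut_mk,
    AutPSL.conjAut_mk, hgW, hgX]

/-- A pair over a subfield. -/
theorem HasPair.exists_conj_le {K : Type*} [Field K] [Fintype K] (h2 : (2 : F) ≠ 0) (φ : K →+* F)
    {G : Subgroup PSL2} {τ : K} (hτ : (φ τ) ^ 2 ≠ 3) (h : HasPair G (φ τ)) :
    ∃ g : GL (Fin 2) F, conjG g G ≤ (pslExt φ).range := by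
  have h2K : (2 : K) ≠ 0 := fun e => h2 (by rw [← map_ofNat φ 2, e, map_zero])
  obtain ⟨W, X, hW, hX, hWX⟩ := DicksonFull.exists_pair h2K τ
  have htr : ∀ Z : Matrix.SpecialLinearGroup (Fin 2) K,
      Matrix.trace ((slExt φ Z : SL2) : M2) = φ (Matrix.trace (Z : Matrix (Fin 2) (Fin 2) K)) := fun Z => by
    simp [Matrix.trace_fin_two, DicksonFull.slExt_apply]
  obtain ⟨g, hg⟩ := h.exists_conj h2 hτ (G' := Subgroup.closure {((slExt φ W : SL2) : PSL2),
    ((slExt φ X : SL2) : PSL2)}) ⟨slExt φ W, slExt φ X, by rw [htr, hW, map_zero],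
      by rw [htr, hX, map_one], by rw [← map_mul, htr, hWX], rfl⟩
  refine ⟨g, hg ▸ (Subgroup.closure_le _).mpr ?_⟩
  rintro _ (rfl | rfl)
  · exact ⟨(W : Matrix.ProjectiveSpecialLinearGroup (Fin 2) K), rfl⟩
  · exact ⟨(X : Matrix.ProjectiveSpecialLinearGroup (Fin 2) K), rfl⟩

theorem nonScalar_of_ne {Z : SL2} (h : (Z : PSL2) ≠ 1) : NonScalar Z := fun _ ha =>
  h (DicksonFull.mk_eq_one_of_smul ha)

theorem coeff_eq_zero {Z : SL2} (h : (Z : PSL2) ≠ 1) {a b : F} {Y : SL2}
    (hY : (Y : M2) = a • (Z : M2) + b • 1) (h1 : (Y : PSL2) = 1) : a = 0 := by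
  by_contra ha
  obtain ⟨c, hc⟩ := (mem_center_iff_smul Y).mp ((QuotientGroup.eq_one_iff Y).mp h1)
  refine nonScalar_of_ne h ((c - b) / a) ?_
  rw [hc] at hY
  calc (Z : M2) = a⁻¹ • (a • (Z : M2)) := by rw [smul_smul, inv_mul_cancel₀ ha, one_smul]
    _ = a⁻¹ • (c • (1 : M2) - b • 1) := by rw [eq_sub_of_add_eq hY.symm]
    _ = ((c - b) / a) • 1 := by rw [smul_sub, smul_smul, smul_smul, ← sub_smul, div_eq_inv_mul, mul_sub]

theorem trace_of_orderOf_two {Z : SL2} (h : orderOf (Z : PSL2) = 2) :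
    Matrix.trace (Z : M2) = 0 := by
  have h1 : (Z : PSL2) ≠ 1 := fun e => by rw [e, orderOf_one] at h; omega
  refine coeff_eq_zero h1 (Y := Z ^ 2) (b := -1) ?_ ?_
  · rw [Matrix.SpecialLinearGroup.coe_pow, pow_two, sl2_mul_self, neg_one_smul, ← sub_eq_add_neg]
  · rw [QuotientGroup.mk_pow]; exact orderOf_dvd_iff_pow_eq_one.mp h.dvd

theorem trace_of_orderOf_three {Z : SL2} (h : orderOf (Z : PSL2) = 3) :
    Matrix.trace (Z : M2) ^ 2 = 1 := by
  have h1 : (Z : PSL2) ≠ 1 := fun e => by rw [e, orderOf_one] at h; omega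
  have := coeff_eq_zero h1 (Y := Z ^ 3) (a := Matrix.trace (Z : M2) ^ 2 - 1)
    (b := -Matrix.trace (Z : M2)) ?_ (by rw [QuotientGroup.mk_pow]; exact orderOf_dvd_iff_pow_eq_one.mp h.dvd)
  · exact sub_eq_zero.mp this
  · rw [Matrix.SpecialLinearGroup.coe_pow, DicksonFull.pow_three_val, neg_smul, ← sub_eq_add_neg]

theorem trace_sq (Z : SL2) :
    Matrix.trace ((Z ^ 2 : SL2) : M2) = Matrix.trace (Z : M2) ^ 2 - 2 := by
  rw [Matrix.SpecialLinearGroup.coe_pow, pow_two, sl2_mul_self, Matrix.trace_sub, Matrix.trace_smul,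
    Matrix.trace_one, smul_eq_mul, Fintype.card_fin, pow_two, Nat.cast_ofNat]

theorem trace_of_orderOf_four {Z : SL2} (h : orderOf (Z : PSL2) = 4) :
    Matrix.trace (Z : M2) ^ 2 = 2 := by
  have h2 : orderOf ((Z ^ 2 : SL2) : PSL2) = 2 := by
    rw [QuotientGroup.mk_pow, orderOf_pow_of_dvd two_ne_zero (by rw [h]; norm_num), h]
  have := trace_of_orderOf_two h2
  rw [trace_sq] at this
  exact sub_eq_zero.mp this

theorem trace_of_orderOf_five {Z : SL2} (h : orderOf (Z : PSL2) = 5) :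
    Matrix.trace (Z : M2) ^ 2 = Matrix.trace (Z : M2) + 1 ∨
      (-Matrix.trace (Z : M2)) ^ 2 = -Matrix.trace (Z : M2) + 1 := by
  have h1 : (Z : PSL2) ≠ 1 := fun e => by rw [e, orderOf_one] at h; omega
  set t := Matrix.trace (Z : M2)
  have := coeff_eq_zero h1 (Y := Z ^ 5) (a := t ^ 4 - 3 * t ^ 2 + 1)
    (b := -(t ^ 3) + 2 * t) ?_ (by rw [QuotientGroup.mk_pow]; exact orderOf_dvd_iff_pow_eq_one.mp h.dvd)
  · rcases mul_eq_zero.mp (show (t ^ 2 - t - 1) * (t ^ 2 + t - 1) = 0 by linear_combination this) with e | e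
    · exact Or.inl (by linear_combination e)
    · exact Or.inr (by linear_combination e)
  · have h2 : (Z : M2) * Z = t • (Z : M2) - 1 := sl2_mul_self Z
    rw [Matrix.SpecialLinearGroup.coe_pow, show (Z : M2) ^ 5 = (Z : M2) ^ 3 * ((Z : M2) * Z) by
      rw [pow_succ, pow_succ, mul_assoc], DicksonFull.pow_three_val, h2]
    simp only [Matrix.sub_mul, Matrix.mul_sub, smul_mul_assoc, mul_smul_comm, one_mul, mul_one, h2, smul_smul]
    match_scalars <;> ring

/-- Lifts with traces `0` and `1`. -/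
theorem exists_lifts {w x : PSL2} (hw : orderOf w = 2) (hx : orderOf x = 3) :
    ∃ W X : SL2, (W : PSL2) = w ∧ (X : PSL2) = x ∧ Matrix.trace (W : M2) = 0 ∧
      Matrix.trace (X : M2) = 1 := by
  obtain ⟨W, rfl⟩ := QuotientGroup.mk_surjective w
  obtain ⟨X, rfl⟩ := QuotientGroup.mk_surjective x
  rcases sq_eq_one_iff.mp (trace_of_orderOf_three hx) with e | e
  · exact ⟨W, X, rfl, rfl, trace_of_orderOf_two hw, e⟩
  · exact ⟨W, Dickson.negI * X, rfl, mk_negI_mul X, trace_of_orderOf_two hw, by rw [trace_negI_mul, e, neg_neg]⟩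

/-- A generating pair of an isomorphic group. -/
theorem exists_gen_image {H : Type*} [Group H] {G : Subgroup PSL2} (e : H ≃* G) {a b : H}
    (hgen : Subgroup.closure {a, b} = ⊤) :
    G = Subgroup.closure {((e a : G) : PSL2), ((e b : G) : PSL2)} := by
  have := congrArg (Subgroup.map (G.subtype.comp e.toMonoidHom)) hgen
  rw [MonoidHom.map_closure, ← MonoidHom.range_eq_map, MonoidHom.range_comp,
    MonoidHom.range_eq_top.mpr e.surjective, ← MonoidHom.range_eq_map, Subgroup.range_subtype,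
    Set.image_pair] at this
  exact this.symm

theorem orderOf_coe_equiv {H : Type*} [Group H] {G : Subgroup PSL2} (e : H ≃* G) (a : H) :
    orderOf ((e a : G) : PSL2) = orderOf a := by
  rw [Subgroup.orderOf_coe, e.orderOf_eq]

theorem hasPair_of_gen {H : Type*} [Group H] {G : Subgroup PSL2} (e : H ≃* G) {a b : H}
    (hgen : Subgroup.closure {a, b} = ⊤) (ha : orderOf a = 2) (hb : orderOf b = 3) :
    ∃ W X : SL2, Matrix.trace (W : M2) = 0 ∧ Matrix.trace (X : M2) = 1 ∧
      orderOf ((W * X : SL2) : PSL2) = orderOf (a * b) ∧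
      G = Subgroup.closure {(W : PSL2), (X : PSL2)} := by
  obtain ⟨W, X, hw, hx, tW, tX⟩ := exists_lifts (w := ((e a : G) : PSL2)) (x := ((e b : G) : PSL2))
    (by rw [orderOf_coe_equiv, ha]) (by rw [orderOf_coe_equiv, hb])
  refine ⟨W, X, tW, tX, ?_, by rw [hw, hx]; exact exists_gen_image e hgen⟩
  rw [QuotientGroup.mk_mul, hw, hx, ← Subgroup.coe_mul, ← map_mul, orderOf_coe_equiv]

theorem hasPair_alt_four {G : Subgroup PSL2} (h : Nonempty (G ≃* alternatingGroup (Fin 4))) :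
    HasPair G 1 := by
  obtain ⟨e⟩ := h
  let a : alternatingGroup (Fin 4) := ⟨Equiv.swap 0 1 * Equiv.swap 2 3, Equiv.Perm.mem_alternatingGroup.mpr (by decide)⟩
  let b : alternatingGroup (Fin 4) := ⟨Equiv.swap 0 1 * Equiv.swap 1 2, Equiv.Perm.mem_alternatingGroup.mpr (by decide)⟩
  have hgen : Subgroup.closure {a, b} = ⊤ := by
    have key : ∀ σ : alternatingGroup (Fin 4), ∃ i j : Fin 2, ∃ k : Fin 3,
        σ = a ^ (i : ℕ) * (b * a * b * b) ^ (j : ℕ) * b ^ (k : ℕ) := by decide +kernel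
    refine eq_top_iff.mpr fun σ _ => ?_
    obtain ⟨i, j, k, rfl⟩ := key σ
    have ha : a ∈ Subgroup.closure {a, b} := Subgroup.subset_closure (Or.inl rfl)
    have hb : b ∈ Subgroup.closure {a, b} := Subgroup.subset_closure (Or.inr rfl)
    exact mul_mem (mul_mem (pow_mem ha _) (pow_mem (mul_mem (mul_mem (mul_mem hb ha) hb) hb) _)) (pow_mem hb _)
  haveI : Fact (Nat.Prime 2) := ⟨Nat.prime_two⟩
  haveI : Fact (Nat.Prime 3) := ⟨Nat.prime_three⟩
  obtain ⟨W, X, tW, tX, hord, hG⟩ := hasPair_of_gen e.symm hgen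
    (orderOf_eq_prime (by decide +kernel) (by decide +kernel))
    (orderOf_eq_prime (by decide +kernel) (by decide +kernel))
  rw [show orderOf (a * b) = 3 from orderOf_eq_prime (by decide +kernel) (by decide +kernel)] at hord
  rcases sq_eq_one_iff.mp (trace_of_orderOf_three hord) with e' | e'
  · exact ⟨W, X, tW, tX, e', hG⟩
  · exact neg_neg (1 : F) ▸ HasPair.neg ⟨W, X, tW, tX, e', hG⟩

theorem hasPair_perm_four {G : Subgroup PSL2} (h : Nonempty (G ≃* Equiv.Perm (Fin 4))) :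
    ∃ r : F, r ^ 2 = 2 ∧ HasPair G r := by
  obtain ⟨e⟩ := h
  let a : Equiv.Perm (Fin 4) := Equiv.swap 0 1
  let b : Equiv.Perm (Fin 4) := Equiv.swap 1 2 * Equiv.swap 2 3
  haveI : Fact (Nat.Prime 2) := ⟨Nat.prime_two⟩
  haveI : Fact (Nat.Prime 3) := ⟨Nat.prime_three⟩
  have ha : orderOf a = 2 := orderOf_eq_prime (by decide +kernel) (by decide +kernel)
  have hb : orderOf b = 3 := orderOf_eq_prime (by decide +kernel) (by decide +kernel)
  have hab : orderOf (a * b) = 4 :=
    orderOf_eq_prime_pow (p := 2) (n := 1) (by decide +kernel) (by decide +kernel)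
  have hgen : Subgroup.closure {a, b} = ⊤ := by
    set K := Subgroup.closure {a, b}
    have haK : a ∈ K := Subgroup.subset_closure (Or.inl rfl)
    have hbK : b ∈ K := Subgroup.subset_closure (Or.inr rfl)
    have h12 : 12 ∣ Nat.card K := Nat.Coprime.mul_dvd_of_dvd_of_dvd (by norm_num : Nat.Coprime 4 3)
      (hab.symm.dvd.trans (Subgroup.orderOf_dvd_natCard K (mul_mem haK hbK))) (hb.symm.dvd.trans (Subgroup.orderOf_dvd_natCard K hbK))
    have hi := Subgroup.card_mul_index K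
    rw [Nat.card_perm, Nat.card_fin, show Nat.factorial 4 = 24 from rfl] at hi
    obtain ⟨m, hm⟩ := h12
    rw [hm] at hi
    have hmi : m * K.index = 2 := by
      rw [mul_assoc] at hi; omega
    rcases (Nat.dvd_prime Nat.prime_two).mp (Dvd.intro_left m hmi) with e' | e'
    · exact Subgroup.index_eq_one.mp e'
    · exfalso
      have hsign := Equiv.Perm.eq_alternatingGroup_of_index_eq_two e'
      rw [hsign] at haK
      rw [Equiv.Perm.mem_alternatingGroup] at haK
      revert haK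
      decide +kernel
  obtain ⟨W, X, tW, tX, hord, hG⟩ := hasPair_of_gen e.symm hgen ha hb
  rw [hab] at hord
  exact ⟨_, trace_of_orderOf_four hord, W, X, tW, tX, rfl, hG⟩

theorem hasPair_alt_five {G : Subgroup PSL2} (h : Nonempty (G ≃* alternatingGroup (Fin 5))) :
    ∃ τ : F, τ ^ 2 = τ + 1 ∧ HasPair G τ := by
  obtain ⟨e⟩ := h
  let a : alternatingGroup (Fin 5) := ⟨Equiv.swap 0 1 * Equiv.swap 3 4, Equiv.Perm.mem_alternatingGroup.mpr (by decide)⟩
  let b : alternatingGroup (Fin 5) := ⟨Equiv.swap 0 2 * Equiv.swap 2 3, Equiv.Perm.mem_alternatingGroup.mpr (by decide)⟩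
  haveI : Fact (Nat.Prime 2) := ⟨Nat.prime_two⟩
  haveI : Fact (Nat.Prime 3) := ⟨Nat.prime_three⟩
  haveI : Fact (Nat.Prime 5) := ⟨by norm_num⟩
  have ha : orderOf a = 2 := orderOf_eq_prime (by decide +kernel) (by decide +kernel)
  have hb : orderOf b = 3 := orderOf_eq_prime (by decide +kernel) (by decide +kernel)
  have hab : orderOf (a * b) = 5 := orderOf_eq_prime (by decide +kernel) (by decide +kernel)
  have hgen : Subgroup.closure {a, b} = ⊤ := by
    set K := Subgroup.closure {a, b}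
    have haK : a ∈ K := Subgroup.subset_closure (Or.inl rfl)
    have hbK : b ∈ K := Subgroup.subset_closure (Or.inr rfl)
    have h30 : 30 ∣ Nat.card K := Nat.Coprime.mul_dvd_of_dvd_of_dvd (by norm_num : Nat.Coprime 6 5)
      (Nat.Coprime.mul_dvd_of_dvd_of_dvd (by norm_num : Nat.Coprime 2 3)
        (ha.symm.dvd.trans (Subgroup.orderOf_dvd_natCard K haK)) (hb.symm.dvd.trans (Subgroup.orderOf_dvd_natCard K hbK)))
      (hab.symm.dvd.trans (Subgroup.orderOf_dvd_natCard K (mul_mem haK hbK)))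
    have hcard : Nat.card (alternatingGroup (Fin 5)) = 60 := by
      rw [nat_card_alternatingGroup, Nat.card_fin]; rfl
    have hi := Subgroup.card_mul_index K
    rw [hcard] at hi
    obtain ⟨m, hm⟩ := h30
    rw [hm] at hi
    have hmi : m * K.index = 2 := by rw [mul_assoc] at hi; omega
    rcases (Nat.dvd_prime Nat.prime_two).mp (Dvd.intro_left m hmi) with e' | e'
    · exact Subgroup.index_eq_one.mp e'
    · haveI := Subgroup.normal_of_index_eq_two e'
      rcases (alternatingGroup.isSimpleGroup_five).eq_bot_or_eq_top_of_normal K inferInstance with hk | hk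
      · rw [hk, Subgroup.index_bot, hcard] at e'; omega
      · exact hk
  obtain ⟨W, X, tW, tX, hord, hG⟩ := hasPair_of_gen e.symm hgen ha hb
  rw [hab] at hord
  rcases trace_of_orderOf_five hord with e' | e'
  · exact ⟨_, e', W, X, tW, tX, rfl, hG⟩
  · exact ⟨_, e', HasPair.neg ⟨W, X, tW, tX, rfl, hG⟩⟩

end Cfsg.Agent.Lib.DicksonId
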