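import Cfsg.Agent.Lib.DicksonId.OddArith
import Cfsg.Agent.Lib.DicksonId.Pairs

/-!
Which tetrahedral, octahedral, icosahedral and small dihedral subgroups of `PSL(2, q)`, `q` odd, are
not maximal.
-/

set_option autoImplicit false

namespace Cfsg.Agent.Lib.DicksonId

open Matrix Cfsg.Agent.Lib.Linear
open Cfsg.Agent.Lib.DicksonFull (pslExt slExt)
open scoped Pointwise

section Group

variable {G : Type*} [Group G] [Finite G]

/-- An automorphism moves a maximal subgroup into no larger proper subgroup. -/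
theorem false_of_map_le {M X : Subgroup G} (hM : IsCoatom M) (e : G ≃* G)
    (hle : M.map e.toMonoidHom ≤ X) (h1 : Nat.card M < Nat.card X) (h2 : Nat.card X < Nat.card G) : False := by
  have hMX : M ≤ X.comap e.toMonoidHom := Subgroup.map_le_iff_le_comap.mp hle
  have hc : Nat.card (X.comap e.toMonoidHom) = Nat.card X := by
    rw [Subgroup.comap_equiv_eq_map_symm' e X, Subgroup.card_map_of_injective e.symm.injective]
  have htop := hM.2 _ (lt_of_le_of_ne hMX fun h => by rw [← h] at hc; omega)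
  rw [htop, Subgroup.card_top] at hc
  omega

/-- A maximal Sylow subgroup lies in no proper larger subgroup of full `r`-part. -/
theorem false_of_sylow {r j : ℕ} [Fact r.Prime] {M X : Subgroup G} (hM : IsCoatom M)
    (hcard : Nat.card M = r ^ j) (hd : ¬ r ^ (j + 1) ∣ Nat.card G) (hX : r ^ j ∣ Nat.card X)
    (h1 : Nat.card M < Nat.card X) (h2 : Nat.card X < Nat.card G) : False := by
  obtain ⟨Q, hQ⟩ := Sylow.exists_subgroup_card_pow_prime r hX
  have key : ∀ K : Subgroup G, Nat.card K = r ^ j → ∃ S : Sylow r G, (S : Subgroup G) = K := by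
    intro K hK
    obtain ⟨S, hS⟩ := (IsPGroup.of_card hK).exists_le_sylow
    refine ⟨S, (Subgroup.eq_of_le_of_card_ge hS ?_).symm⟩
    obtain ⟨i, hi⟩ := IsPGroup.iff_card.mp S.2
    rw [hK, hi]
    refine Nat.pow_le_pow_right (Fact.out : r.Prime).pos ?_
    by_contra hlt
    exact hd ((pow_dvd_pow r (show j + 1 ≤ i by omega)).trans (hi ▸ Subgroup.card_subgroup_dvd_card _))
  obtain ⟨S, hS⟩ := key M hcard
  obtain ⟨T, hT⟩ := key (Q.map X.subtype)
    (by rw [Subgroup.card_map_of_injective (Subgroup.subtype_injective _), hQ])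
  obtain ⟨g, hg⟩ := MulAction.exists_smul_eq G S T
  refine false_of_map_le hM (MulAut.conj g) ?_ h1 h2
  show MulAut.conj g • M ≤ X
  rw [← hS, ← Sylow.coe_subgroup_smul, hg, hT]
  exact Subgroup.map_subtype_le Q

/-- A maximal dihedral subgroup of order `2 r` lies in no larger proper subgroup containing a dihedral
group of that order, `r` an odd prime occurring once in the order. -/
theorem false_of_normalizer {r : ℕ} [Fact r.Prime] [IsSimpleGroup G] (hr : r ≠ 2) {M X : Subgroup G}
    (hM : IsCoatom M) (hcard : Nat.card M = 2 * r) {x : G} (hxM : x ∈ M) (hx : orderOf x = r)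
    (hd : ¬ r ^ 2 ∣ Nat.card G) {y b : G} (hy : y ∈ X) (hb : b ∈ X) (hyr : orderOf y = r)
    (hb2 : orderOf b = 2) (hinv : b * y * b⁻¹ = y⁻¹)
    (h1 : Nat.card M < Nat.card X) (h2 : Nat.card X < Nat.card G) : False := by
  have hrp : r.Prime := Fact.out
  have hsyl : ∀ z : G, orderOf z = r → ∃ S : Sylow r G, (S : Subgroup G) = Subgroup.zpowers z := by
    intro z hz
    have hc : Nat.card (Subgroup.zpowers z) = r ^ 1 := by rw [Nat.card_zpowers, hz, pow_one]
    obtain ⟨S, hS⟩ := (IsPGroup.of_card hc).exists_le_sylow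
    refine ⟨S, (Subgroup.eq_of_le_of_card_ge hS ?_).symm⟩
    obtain ⟨i, hi⟩ := IsPGroup.iff_card.mp S.2
    rw [hc, hi]
    refine Nat.pow_le_pow_right hrp.pos ?_
    by_contra hlt
    exact hd ((pow_dvd_pow r (show 2 ≤ i by omega)).trans (hi ▸ Subgroup.card_subgroup_dvd_card _))
  have hidx : ((Subgroup.zpowers x).subgroupOf M).index = 2 := by
    have h := Subgroup.card_mul_index ((Subgroup.zpowers x).subgroupOf M)
    rw [Nat.card_congr (Subgroup.subgroupOfEquivOfLe (Subgroup.zpowers_le.mpr hxM)).toEquiv,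
      Nat.card_zpowers, hx, hcard, mul_comm 2 r] at h
    exact Nat.eq_of_mul_eq_mul_left hrp.pos h
  haveI := Subgroup.normal_of_index_eq_two hidx
  have hN : Subgroup.normalizer (Subgroup.zpowers x : Set G) = M :=
    eq_normalizer_of_isCoatom hM (Subgroup.zpowers_le.mpr hxM)
      ((Subgroup.normal_subgroupOf_iff_le_normalizer (Subgroup.zpowers_le.mpr hxM)).mp inferInstance)
      (fun h => by rw [Subgroup.zpowers_eq_bot] at h; rw [h, orderOf_one] at hx; exact hrp.ne_one hx.symm)
  obtain ⟨S, hS⟩ := hsyl x hx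
  obtain ⟨T, hT⟩ := hsyl y hyr
  obtain ⟨g, hg⟩ := MulAction.exists_smul_eq G S T
  -- the conjugate of `M` is generated by `y` and `b`
  have hNy : Nat.card (Subgroup.normalizer (Subgroup.zpowers y : Set G)) = 2 * r := by
    rw [← hcard, ← hN, ← hS, ← hT]
    have h3 := Subgroup.card_mul_index (Subgroup.normalizer ((T : Subgroup G) : Set G))
    have e : (Subgroup.normalizer ((T : Subgroup G) : Set G)).index =
        (Subgroup.normalizer ((S : Subgroup G) : Set G)).index :=
      T.card_eq_index_normalizer.symm.trans S.card_eq_index_normalizer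
    rw [e, ← Subgroup.card_mul_index (Subgroup.normalizer ((S : Subgroup G) : Set G))] at h3
    exact Nat.eq_of_mul_eq_mul_right (Nat.pos_of_ne_zero Subgroup.index_ne_zero_of_finite) h3
  have hbN : b ∈ Subgroup.normalizer (Subgroup.zpowers y : Set G) :=
    mem_normalizer_zpowers (by rw [hinv]; exact Subgroup.inv_mem _ (Subgroup.mem_zpowers y))
  have hle : Subgroup.normalizer (Subgroup.zpowers y : Set G) ≤ X := by
    have hlt : r < Nat.card (Subgroup.normalizer (Subgroup.zpowers y : Set G) ⊓ X : Subgroup G) := by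
      have hle : Subgroup.zpowers y ≤ Subgroup.normalizer (Subgroup.zpowers y : Set G) ⊓ X :=
        le_inf Subgroup.le_normalizer (Subgroup.zpowers_le.mpr hy)
      have h4 := Subgroup.card_le_of_le hle
      rw [Nat.card_zpowers, hyr] at h4
      refine lt_of_le_of_ne h4 fun e => ?_
      have heq := Subgroup.eq_of_le_of_card_ge hle (by rw [Nat.card_zpowers, hyr, e])
      have hbmem : b ∈ Subgroup.zpowers y := heq ▸ Subgroup.mem_inf.mpr ⟨hbN, hb⟩
      have := Subgroup.orderOf_dvd_natCard (Subgroup.zpowers y) hbmem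
      rw [Nat.card_zpowers, hyr, hb2] at this
      exact hr ((Nat.prime_dvd_prime_iff_eq Nat.prime_two hrp).mp this).symm
    have hdvd := Subgroup.card_dvd_of_le (inf_le_left :
      Subgroup.normalizer (Subgroup.zpowers y : Set G) ⊓ X ≤ Subgroup.normalizer (Subgroup.zpowers y : Set G))
    rw [hNy] at hdvd
    obtain ⟨c, hc⟩ := hdvd
    have hc1 : c = 1 := by
      rcases Nat.lt_or_ge c 2 with hc2 | hc2
      · have := hrp.pos
        interval_cases c <;> omega
      · have := Nat.mul_le_mul_left (Nat.card (Subgroup.normalizer (Subgroup.zpowers y : Set G) ⊓ X : Subgroup G)) hc2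
        omega
    rw [hc1, mul_one] at hc
    have := Subgroup.eq_of_le_of_card_ge (inf_le_left :
      Subgroup.normalizer (Subgroup.zpowers y : Set G) ⊓ X ≤ _) (by omega)
    exact this ▸ inf_le_right
  refine false_of_map_le hM (MulAut.conj g) ?_ h1 h2
  refine le_trans (le_of_eq ?_) hle
  rw [← hN, ← hS, ← hT, ← hg, Subgroup.map_equiv_normalizer_eq]
  rfl

end Group

variable {F : Type*} [Field F] [Fintype F] {p : ℕ} [hp : Fact p.Prime] [CharP F p]

local notation "SL2" => Matrix.SpecialLinearGroup (Fin 2) F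
local notation "M2" => Matrix (Fin 2) (Fin 2) F
local notation "PSL2" => Matrix.ProjectiveSpecialLinearGroup (Fin 2) F

omit hp [CharP F p] in
theorem false_of_conj_le {M X : Subgroup PSL2} (hM : IsCoatom M) (g : GL (Fin 2) F)
    (hle : conjG g M ≤ X) (h1 : Nat.card M < Nat.card X) (h2 : Nat.card X < Nat.card PSL2) : False :=
  false_of_map_le hM _ hle h1 h2


include hp in
omit [CharP F p] in
theorem two_ne_zero_of_char [CharP F p] (hp2 : p ≠ 2) : (2 : F) ≠ 0 := fun h =>
  hp2 ((Nat.prime_dvd_prime_iff_eq hp.out Nat.prime_two).mp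
    ((CharP.cast_eq_zero_iff F p 2).mp (by exact_mod_cast h)))

theorem natCast_ne_zero_of_lt {n : ℕ} (hn : 0 < n) (hlt : n < p) : ((n : ℕ) : F) ≠ 0 := fun h =>
  absurd (Nat.le_of_dvd hn ((CharP.cast_eq_zero_iff F p n).mp h)) (by omega)

theorem two_mul_card_PSL (hp2 : p ≠ 2) :
    2 * Nat.card PSL2 = Fintype.card F * ((Fintype.card F - 1) * (Fintype.card F + 1)) := by
  rw [← card_PSL_mul (p := p), gcd_two_eq (p := p), if_neg hp2]

theorem two_mul_card_range (hp2 : p ≠ 2) {k : ℕ} (hk : 0 < k) (φ : GaloisField p k →+* F) :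
    2 * Nat.card (pslExt φ).range = p ^ k * ((p ^ k - 1) * (p ^ k + 1)) := by
  rw [← card_pslExt_range hk φ, gcd_two_eq (p := p), if_neg hp2]

omit [Fintype F] hp [CharP F p] in
/-- An octahedral group contains a tetrahedral one. -/
theorem exists_tetra_of_perm (φ : Equiv.Perm (Fin 4) →* PSL2) (hφ : Function.Injective φ) :
    ∃ A : Subgroup PSL2, A ≤ φ.range ∧ HasPair A 1 :=
  ⟨(alternatingGroup (Fin 4)).map φ, Subgroup.map_le_range φ _,
    hasPair_alt_four ⟨((alternatingGroup (Fin 4)).equivMapOfInjective φ hφ).symm⟩⟩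

/-- Permutations of `Fin 4` acting on `1, 2, 3, 4` in `Fin 5`. -/
def shiftHom : Equiv.Perm (Fin 4) →* Equiv.Perm (Fin 5) where
  toFun σ := Equiv.Perm.decomposeFin.symm (0, σ)
  map_one' := by decide +kernel
  map_mul' := by decide +kernel

omit [Fintype F] hp [CharP F p] in
/-- An icosahedral group contains a tetrahedral one. -/
theorem exists_tetra_of_alt (φ : alternatingGroup (Fin 5) →* PSL2) (hφ : Function.Injective φ) :
    ∃ A : Subgroup PSL2, A ≤ φ.range ∧ HasPair A 1 := by
  have hmem : ∀ σ : Equiv.Perm (Fin 4), Equiv.Perm.sign σ = 1 → Equiv.Perm.sign (shiftHom σ) = 1 := by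
    decide +kernel
  let ι : alternatingGroup (Fin 4) →* alternatingGroup (Fin 5) :=
    (shiftHom.comp (alternatingGroup (Fin 4)).subtype).codRestrict _ fun σ =>
      Equiv.Perm.mem_alternatingGroup.mpr (hmem σ (Equiv.Perm.mem_alternatingGroup.mp σ.2))
  have hι : Function.Injective (φ.comp ι) := by
    refine hφ.comp fun a b h => Subtype.ext ?_
    have h' : shiftHom (a : Equiv.Perm (Fin 4)) = shiftHom (b : Equiv.Perm (Fin 4)) :=
      congrArg Subtype.val h
    exact (Prod.mk.injEq _ _ _ _ ▸ Equiv.Perm.decomposeFin.symm.injective h').2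
  exact ⟨(φ.comp ι).range, by rintro _ ⟨x, rfl⟩; exact ⟨ι x, rfl⟩,
    hasPair_alt_four ⟨(MonoidHom.ofInjective hι).symm⟩⟩

/-- An octahedral pair inside `PGL` over the prime field. -/
theorem exists_octa_in_pgl (h2 : (2 : F) ≠ 0) {K : Type*} [Field K] [Fintype K] {φ : K →+* F}
    {ψ : Matrix.ProjGenLinGroup (Fin 2) K →* PSL2} (hψ : IsPglHom φ ψ) {r : F} (hr : r ^ 2 = 2) :
    ∃ A : Subgroup PSL2, A ≤ ψ.range ∧ HasPair A r := by
  classical
  have h2K : (2 : K) ≠ 0 := fun e => h2 (by rw [← map_ofNat φ 2, e, map_zero])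
  have hr0 : r ≠ 0 := fun h => h2 (by rw [← hr, h]; ring)
  have h4 : (4 : K) ≠ 0 := by rw [show (4 : K) = 2 * 2 by norm_num]; exact mul_ne_zero h2K h2K
  obtain ⟨u, v, huv⟩ := FiniteField.exists_root_sum_quadratic (R := K)
    (f := (Polynomial.X ^ 2 : Polynomial K)) (g := Polynomial.C 2 * Polynomial.X ^ 2 + Polynomial.C (1 / 4))
    (Polynomial.degree_X_pow 2) (by
      rw [Polynomial.degree_add_eq_left_of_degree_lt]
      · exact Polynomial.degree_C_mul_X_pow 2 h2K
      · rw [Polynomial.degree_C_mul_X_pow 2 h2K]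
        exact lt_of_le_of_lt Polynomial.degree_C_le (by exact_mod_cast (show (0 : ℕ) < 2 by norm_num)))
    (FiniteField.odd_card_of_char_ne_two (ringChar_ne_two h2K))
  simp at huv
  set a : K := u + 1 / 2
  set c : K := v - 1 / 2
  have hdet : a * (1 - a) - (2 + 2 * c) * c = 1 := by
    simp only [a, c]
    field_simp at huv ⊢
    linear_combination (-1) * huv
  let X₀ : GL (Fin 2) K := GeneralLinearGroup.mkOfDetNeZero !![a, 2 + 2 * c; c, 1 - a]
    (by rw [Matrix.det_fin_two_of, hdet]; exact one_ne_zero)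
  let W₀ : GL (Fin 2) K := GeneralLinearGroup.mkOfDetNeZero !![0, -2; 1, 0]
    (by rw [Matrix.det_fin_two_of]; simpa using h2K)
  let X : SL2 := ⟨!![φ a, φ (2 + 2 * c); φ c, φ (1 - a)], by
    rw [Matrix.det_fin_two_of, ← map_mul, ← map_mul, ← map_sub, hdet, map_one]⟩
  let W : SL2 := ⟨!![0, -r; r⁻¹, 0], by rw [Matrix.det_fin_two_of]; field_simp; ring⟩
  refine ⟨Subgroup.closure {(W : PSL2), (X : PSL2)}, (Subgroup.closure_le _).mpr ?_, W, X, ?_, ?_, ?_, rfl⟩
  · rintro _ (rfl | rfl)
    · refine ⟨_, hψ.spec W W₀ r⁻¹ ?_⟩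
      ext i j
      fin_cases i <;> fin_cases j <;>
        simp [W, W₀, GeneralLinearGroup.val_mkOfDetNeZero, map_ofNat]
      field_simp
      rw [hr]
    · refine ⟨_, hψ.spec X X₀ 1 ?_⟩
      ext i j
      fin_cases i <;> fin_cases j <;> simp [X, X₀, GeneralLinearGroup.val_mkOfDetNeZero]
  · simp [W, Matrix.trace_fin_two]
  · simp [X, Matrix.trace_fin_two]
  · rw [DicksonFull.trace_mul]
    simp [W, X, map_ofNat]
    field_simp
    linear_combination (-φ c - 1) * hr


end Cfsg.Agent.Lib.DicksonId
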