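import Cfsg.Agent.Lib.DicksonId.Pairs
import Cfsg.Agent.Lib.RecogThree.PSL2Orders

/-!
Commuting involutions of `PSL(2, F)` and their normalisers.
-/

set_option autoImplicit false

namespace Cfsg.Agent.Lib.DicksonId

open Matrix Cfsg.Agent.Lib.Linear

variable {F : Type*} [Field F]

local notation "SL2" => Matrix.SpecialLinearGroup (Fin 2) F
local notation "M2" => Matrix (Fin 2) (Fin 2) F
local notation "PSL2" => Matrix.ProjectiveSpecialLinearGroup (Fin 2) F

theorem mul_self_of_orderOf_two {X : SL2} (h : orderOf (X : PSL2) = 2) : (X : M2) * (X : M2) = -1 := by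
  rw [sl2_mul_self, trace_of_orderOf_two h, zero_smul, zero_sub]

/-- Anticommuting lifts. -/
theorem exists_lifts_four [Fintype F] (h2 : (2 : F) ≠ 0) {x y : PSL2} (hx : orderOf x = 2) (hy : orderOf y = 2) (hxy : Commute x y)
    (hne : x ≠ y) : ∃ X Y : SL2, (X : PSL2) = x ∧ (Y : PSL2) = y ∧ (X : M2) * (X : M2) = -1 ∧
      (Y : M2) * (Y : M2) = -1 ∧ (Y : M2) * (X : M2) = -((X : M2) * (Y : M2)) := by
  obtain ⟨X, rfl⟩ := QuotientGroup.mk_surjective x
  obtain ⟨Y, rfl⟩ := QuotientGroup.mk_surjective y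
  have hXX := mul_self_of_orderOf_two hx
  have hYY := mul_self_of_orderOf_two hy
  refine ⟨X, Y, rfl, rfl, hXX, hYY, ?_⟩
  have h : ((X * Y : SL2) : PSL2) = ((Y * X : SL2) : PSL2) := by
    rw [QuotientGroup.mk_mul, QuotientGroup.mk_mul]; exact hxy.eq
  obtain ⟨c, hc⟩ := (AutPSL.mk_eq_mk_iff _ _).mp h
  rw [Matrix.SpecialLinearGroup.coe_mul, Matrix.SpecialLinearGroup.coe_mul] at hc
  have hd := congrArg Matrix.det hc
  rw [Matrix.det_smul, Matrix.det_mul, Matrix.det_mul, X.2, Y.2, Fintype.card_fin] at hd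
  rcases sq_eq_one_iff.mp (show c ^ 2 = 1 by simpa using hd.symm) with rfl | rfl
  · exfalso
    rw [one_smul] at hc
    have hsq : (X * Y) * (X * Y) = (1 : SL2) := Subtype.ext (by
      show ((X : M2) * (Y : M2)) * ((X : M2) * (Y : M2)) = 1
      rw [← mul_assoc, mul_assoc (X : M2) (Y : M2) (X : M2), hc, ← mul_assoc (X : M2) (X : M2) (Y : M2), hXX,
        neg_one_mul, neg_mul, hYY, neg_neg])
    have hone : ((X * Y : SL2) : PSL2) = 1 := RecogThree.PSL2Orders.toP_of_sq (X * Y) hsq h2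
    rw [QuotientGroup.mk_mul, mul_eq_one_iff_eq_inv] at hone
    have hy2 : ((Y : SL2) : PSL2)⁻¹ = Y :=
      inv_eq_of_mul_eq_one_right (by rw [← pow_two]; exact orderOf_dvd_iff_pow_eq_one.mp hy.dvd)
    exact hne (hone.trans hy2)
  · rw [hc, neg_one_smul]

/-- The trace of an anticommuting product vanishes. -/
theorem trace_mul_eq_zero (h2 : (2 : F) ≠ 0) {X Y : M2} (h : Y * X = -(X * Y)) : Matrix.trace (X * Y) = 0 := by
  have := congrArg Matrix.trace h
  rw [Matrix.trace_neg, Matrix.trace_mul_comm] at this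
  exact (mul_eq_zero.mp (show (2 : F) * Matrix.trace (X * Y) = 0 by linear_combination this)).resolve_left h2

/-- The quaternion unit of order three normalises a four group, the four group's inner element too. -/
theorem exists_quaternion (h2 : (2 : F) ≠ 0) {X Y : SL2} (hX : (X : M2) * (X : M2) = -1)
    (hY : (Y : M2) * (Y : M2) = -1) (hYX : (Y : M2) * (X : M2) = -((X : M2) * (Y : M2)))
    (hXt : Matrix.trace (X : M2) = 0) (hYt : Matrix.trace (Y : M2) = 0) :
    ∃ Z : SL2, Z * Y = X * Z ∧ Z * (X * Y) = Y * Z := by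
  set N : M2 := (X : M2) + (Y : M2) + (X : M2) * (Y : M2) with hN
  have hXY' : ∀ Q : M2, (Y : M2) * ((X : M2) * Q) = -((X : M2) * ((Y : M2) * Q)) := fun Q => by
    rw [← mul_assoc, hYX, neg_mul, mul_assoc]
  have hX' : ∀ Q : M2, (X : M2) * ((X : M2) * Q) = -Q := fun Q => by rw [← mul_assoc, hX, neg_one_mul]
  have hY' : ∀ Q : M2, (Y : M2) * ((Y : M2) * Q) = -Q := fun Q => by rw [← mul_assoc, hY, neg_one_mul]
  have hNN : N * N = -((3 : F) • (1 : M2)) := by
    simp only [hN, mul_add, add_mul, mul_assoc, hX, hY, hYX, hXY', hX', hY', mul_neg, neg_neg, mul_one]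
    module
  have hNt : N 0 0 + N 1 1 = 0 := by
    rw [← Matrix.trace_fin_two, hN, Matrix.trace_add, Matrix.trace_add, hXt, hYt, trace_mul_eq_zero h2 hYX]
    simp
  have h00 := congrFun (congrFun hNN 0) 0
  simp [Matrix.mul_apply, Fin.sum_univ_two] at h00
  have hdet : ((2 : F)⁻¹ • (-1 + N)).det = 1 := by
    rw [Matrix.det_smul, Fintype.card_fin, Matrix.det_fin_two]
    simp
    field_simp
    linear_combination (-1) * h00 + (N 0 0 - 1) * hNt
  refine ⟨⟨_, hdet⟩, Subtype.ext ?_, Subtype.ext ?_⟩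
  · show ((2 : F)⁻¹ • (-1 + N)) * (Y : M2) = (X : M2) * ((2 : F)⁻¹ • (-1 + N))
    simp only [smul_mul_assoc, mul_smul_comm, hN, mul_add, add_mul,
      mul_assoc, hX, hY, hYX, hXY', hX', hY', mul_neg, neg_neg, mul_one, one_mul, neg_mul]
    congr 1
    abel
  · show ((2 : F)⁻¹ • (-1 + N)) * ((X : M2) * (Y : M2)) = (Y : M2) * ((2 : F)⁻¹ • (-1 + N))
    simp only [Matrix.SpecialLinearGroup.coe_mul, smul_mul_assoc, mul_smul_comm, hN, mul_add, add_mul,
      mul_assoc, hX, hY, hYX, hXY', hX', hY', mul_neg, neg_neg, mul_one, one_mul, neg_mul]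
    congr 1
    abel

end Cfsg.Agent.Lib.DicksonId
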