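import Cfsg.Agent.Lib.DicksonFull.Action
import Cfsg.Agent.Lib.TwoGroups.Recognition

/-!
Structure of the subgroups with a normal cyclic subgroup prime to `p`, from the fixed points on the
projective line of the quadratic extension.
-/

set_option autoImplicit false

namespace Cfsg.Agent.Lib.DicksonId

open MulAction
open Cfsg.Agent.Lib.DicksonFull (IsDicksonAction)

section Abstract

variable {G Ω : Type*} [Group G] [MulAction G Ω] [Finite Ω] {p : ℕ}

/-- A non-identity element fixes at most two points. -/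
theorem eq_one_of_three (hA : IsDicksonAction p G Ω) {g : G} {a b c : Ω} (hab : a ≠ b) (hac : a ≠ c)
    (hbc : b ≠ c) (ha : g • a = a) (hb : g • b = b) (hc : g • c = c) : g = 1 := by
  by_contra hg
  have hle : ({a, b, c} : Set Ω).ncard ≤ (fixedBy Ω g).ncard :=
    Set.ncard_le_ncard (by rintro x (rfl | rfl | rfl) <;> assumption) (Set.toFinite _)
  have h3 : ({a, b, c} : Set Ω).ncard = 3 :=
    Set.ncard_eq_three.mpr ⟨a, b, c, hab, hac, hbc, rfl⟩
  rw [h3, ← Nat.card_coe_set_eq] at hle
  rcases hA.card_fixed g hg with e | e <;> omega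

/-- An element not of order `p` fixes exactly two points. -/
theorem exists_fixed_pair (hA : IsDicksonAction p G Ω) {g : G} (hg : g ^ p ≠ 1) :
    ∃ a b : Ω, a ≠ b ∧ g • a = a ∧ g • b = b ∧ ∀ x : Ω, g • x = x → x = a ∨ x = b := by
  have hg1 : g ≠ 1 := fun h => hg (by rw [h, one_pow])
  have h2 : Nat.card (fixedBy Ω g) = 2 :=
    (hA.card_fixed g hg1).resolve_left fun h => hg ((hA.pow_eq_one g hg1).mp h)
  rw [Nat.card_coe_set_eq, Set.ncard_eq_two] at h2
  obtain ⟨a, b, hab, heq⟩ := h2
  have hmem : ∀ x, g • x = x ↔ x = a ∨ x = b := fun x => by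
    rw [← mem_fixedBy, heq]; simp
  exact ⟨a, b, hab, (hmem a).mpr (Or.inl rfl), (hmem b).mpr (Or.inr rfl), fun x hx => (hmem x).mp hx⟩

/-- The fixed points of an element generating a normal subgroup are permuted. -/
theorem smul_mem_pair {n g : G} (hN : (Subgroup.zpowers n).Normal) {a b : Ω}
    (hall : ∀ x : Ω, n • x = x → x = a ∨ x = b) {x : Ω} (hx : n • x = x) :
    g • x = a ∨ g • x = b := by
  refine hall _ ?_
  have hmem : g⁻¹ * n * g ∈ Subgroup.zpowers n := by
    simpa using hN.conj_mem n (Subgroup.mem_zpowers n) g⁻¹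
  have hfix : (g⁻¹ * n * g) • x = x := by
    have hle : Subgroup.zpowers n ≤ stabilizer G x := Subgroup.zpowers_le.mpr hx
    exact hle hmem
  calc n • g • x = g • (g⁻¹ * n * g) • x := by rw [smul_smul, smul_smul]; group
    _ = g • x := by rw [hfix]

/-- A group of order prime to `p` with a normal cyclic subgroup has a cyclic subgroup of index at
most two. -/
theorem exists_cyclic_of_normal [Finite G] [hpp : Fact p.Prime] (hA : IsDicksonAction p G Ω)
    (hcyc : ∀ (ω : Ω) (K : Subgroup G), K ≤ stabilizer G ω → ¬ p ∣ Nat.card K → IsCyclic K)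
    (hp : ¬ p ∣ Nat.card G) (N : Subgroup G) [hN : N.Normal] (hNc : IsCyclic N) (hN1 : N ≠ ⊥) :
    ∃ C : Subgroup G, IsCyclic C ∧ C.index ≤ 2 := by
  obtain ⟨n, hn⟩ := N.isCyclic_iff_exists_zpowers_eq_top.mp hNc
  have hn' : (Subgroup.zpowers n).Normal := hn ▸ hN
  have hn1 : n ≠ 1 := fun h => hN1 (by rw [← hn, h, Subgroup.zpowers_one_eq_bot])
  have hnp : n ^ p ≠ 1 := fun h => by
    rcases (Nat.dvd_prime hpp.out).mp (orderOf_dvd_of_pow_eq_one h) with e | e
    · exact hn1 (orderOf_eq_one_iff.mp e)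
    · exact hp (e ▸ orderOf_dvd_natCard n)
  obtain ⟨a, b, hab, ha, hb, hall⟩ := exists_fixed_pair hA hnp
  refine ⟨stabilizer G a, hcyc a _ le_rfl fun h => hp (h.trans (Subgroup.card_subgroup_dvd_card _)), ?_⟩
  rw [index_stabilizer]
  refine (Set.ncard_le_ncard (t := ({a, b} : Set Ω)) ?_ (Set.toFinite _)).trans (Set.ncard_pair hab).le
  rintro _ ⟨g, rfl⟩
  exact smul_mem_pair hn' hall ha

/-- A group with a cyclic subgroup of order prime to `p` and index at most two is cyclic or dihedral. -/
theorem cyclic_or_dihedral [Finite G] [hpp : Fact p.Prime] (hA : IsDicksonAction p G Ω)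
    (hcyc : ∀ (ω : Ω) (K : Subgroup G), K ≤ stabilizer G ω → ¬ p ∣ Nat.card K → IsCyclic K)
    (C : Subgroup G) (hC : IsCyclic C) (hi : C.index ≤ 2) (hp : ¬ p ∣ Nat.card C) :
    (IsCyclic G ∧ ¬ p ∣ Nat.card G) ∨ Nonempty (G ≃* DihedralGroup (Nat.card C)) := by
  have hi0 : C.index = 1 ∨ C.index = 2 := by
    have := C.index_ne_zero_of_finite; omega
  rcases hi0 with h1 | h2
  · left
    rw [Subgroup.index_eq_one] at h1
    subst h1
    exact ⟨Subgroup.topEquiv.isCyclic.mp hC, by rwa [Subgroup.card_top] at hp⟩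
  have hG : Nat.card G = 2 * Nat.card C := by
    rw [← Subgroup.card_mul_index C, h2, mul_comm]
  obtain ⟨c, hc⟩ := C.isCyclic_iff_exists_zpowers_eq_top.mp hC
  have hord : orderOf c = Nat.card C := by rw [← hc, Nat.card_zpowers]
  rcases eq_or_ne c 1 with rfl | hc1
  · -- order two
    rw [orderOf_one] at hord
    rw [← hord] at hG ⊢
    by_cases hp2 : p = 2
    · refine Or.inr ⟨mulEquivOfPrimeCardEq (p := 2) hG ?_⟩
      rw [DihedralGroup.nat_card]
    · haveI : Fact (Nat.Prime 2) := ⟨Nat.prime_two⟩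
      exact Or.inl ⟨isCyclic_of_prime_card hG, fun hd =>
        hp2 ((Nat.prime_dvd_prime_iff_eq hpp.out Nat.prime_two).mp (by rwa [hG, mul_one] at hd))⟩
  haveI hCn : C.Normal := Subgroup.normal_of_index_eq_two h2
  have hcp : c ^ p ≠ 1 := fun h => by
    rcases (Nat.dvd_prime hpp.out).mp (orderOf_dvd_of_pow_eq_one h) with e | e
    · exact hc1 (orderOf_eq_one_iff.mp e)
    · exact hp (by rw [← hord, e])
  obtain ⟨a, b, hab, ha, hb, hall⟩ := exists_fixed_pair hA hcp
  have hnorm : (Subgroup.zpowers c).Normal := hc.symm ▸ hCn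
  have hmove : ∀ g : G, g • a = a ∨ g • a = b := fun g => smul_mem_pair hnorm hall ha
  have hCa : ∀ g ∈ C, g • a = a := by
    rw [← hc]
    exact fun g hg => (Subgroup.zpowers_le.mpr ha : Subgroup.zpowers c ≤ stabilizer G a) hg
  by_cases hfix : ∀ g : G, g • a = a
  · left
    have hpG : ¬ p ∣ Nat.card G := fun hd => by
      have hp2 : p = 2 := by
        rw [hG] at hd
        rcases hpp.out.dvd_mul.mp hd with e | e
        · exact (Nat.prime_dvd_prime_iff_eq hpp.out Nat.prime_two).mp e
        · exact absurd e hp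
      subst hp2
      obtain ⟨y, hy⟩ := exists_prime_orderOf_dvd_card' 2 hd
      have hy1 : y ≠ 1 := fun h => by simp [h] at hy
      have hyb : y • b = b := by
        rcases smul_mem_pair (g := y) hnorm hall hb with e | e
        · exact absurd (MulAction.injective y (e.trans (hfix y).symm)) hab.symm
        · exact e
      have h1 := (hA.pow_eq_one y hy1).mpr (by rw [← hy, pow_orderOf_eq_one])
      haveI := (Nat.card_eq_one_iff_unique.mp h1).1
      exact hab (congrArg Subtype.val
        (Subsingleton.elim (⟨a, hfix y⟩ : fixedBy Ω y) ⟨b, hyb⟩))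
    haveI := hcyc a ⊤ (fun g _ => hfix g) (by rwa [Subgroup.card_top])
    exact ⟨Subgroup.topEquiv.isCyclic.mp inferInstance, hpG⟩
  right
  push Not at hfix
  obtain ⟨w, hw⟩ := hfix
  have hwb : w • a = b := (hmove w).resolve_left hw
  have hwa : w • b = a := by
    rcases smul_mem_pair (g := w) hnorm hall hb with e | e
    · exact e
    · exact absurd (MulAction.injective w (e.trans hwb.symm)) hab.symm
  have hwC : w ∉ C := fun h => hw (hCa w h)
  have hinv : ∀ g : G, g ∉ C → g * g = 1 := by
    intro g hg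
    have hg2 : g * g ∈ C := Subgroup.mul_self_mem_of_index_two h2 g
    have hga : g • a ≠ a := by
      intro e
      have hgw : w * g ∈ C := by
        rw [Subgroup.mul_mem_iff_of_index_two h2]
        simp [hwC, hg]
      have := hCa _ hgw
      rw [mul_smul, e] at this
      exact hw this
    have hgab : g • a = b := (hmove g).resolve_left hga
    have hg1 : g ≠ 1 := fun h => hg (h ▸ C.one_mem)
    obtain ⟨⟨z, hz⟩⟩ : Nonempty (fixedBy Ω g) := by
      apply (Nat.card_pos_iff.mp _).1
      rcases hA.card_fixed g hg1 with e | e <;> omega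
    have hza : z ≠ a := by rintro rfl; exact hga hz
    have hzb : z ≠ b := by
      rintro rfl
      exact hab (MulAction.injective g (hgab.trans hz.symm))
    refine eq_one_of_three hA hab hza.symm hzb.symm (hCa _ hg2) ?_ (by rw [mul_smul, hz, hz])
    rw [← hc] at hg2
    exact (Subgroup.zpowers_le.mpr hb : Subgroup.zpowers c ≤ stabilizer G b) hg2
  haveI : NeZero (Nat.card C) := ⟨Nat.card_pos.ne'⟩
  have hwc : w * c ∉ C := fun h => hwC (by
    have := C.mul_mem h (C.inv_mem (hc ▸ Subgroup.mem_zpowers c))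
    rwa [mul_inv_cancel_right] at this)
  refine Cfsg.Agent.Lib.TwoGroups.Recognition.nonempty_dihedral hord (hinv w hwC) ?_ (by rwa [hc]) hG
  rw [inv_eq_of_mul_eq_one_right (hinv w hwC)]
  exact eq_inv_of_mul_eq_one_left (by rw [← hinv _ hwc]; simp [mul_assoc])

end Abstract

end Cfsg.Agent.Lib.DicksonId
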