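import Cfsg.Agent.Lib.DicksonId.Ident
import Cfsg.Agent.Lib.DicksonId.Struct
import Cfsg.Agent.Lib.DicksonId.Small

/-!
Dickson's list of the subgroups of `PSL(2, F)`.
-/

set_option autoImplicit false

namespace Cfsg.Agent.Lib.DicksonId

open Matrix Cfsg.Agent.Lib.Linear
open Cfsg.Agent.Lib.DicksonFull (pslExt actionExt isDicksonAction stabilizer_props)
open scoped Pointwise

variable {F : Type*} [Field F] [Fintype F] {p : ℕ} [hp : Fact p.Prime] [CharP F p]

local notation "SL2" => Matrix.SpecialLinearGroup (Fin 2) F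
local notation "M2" => Matrix (Fin 2) (Fin 2) F
local notation "PSL2" => Matrix.ProjectiveSpecialLinearGroup (Fin 2) F

/-- A subfield group `PSL(2, p^k)` or `PGL(2, p^k)`, up to conjugacy in `PGL(2, F)`. -/
def IsSubfieldGroup (p : ℕ) [Fact p.Prime] {F : Type*} [Field F] [Fintype F]
    (G : Subgroup (Matrix.ProjectiveSpecialLinearGroup (Fin 2) F)) (k : ℕ) : Prop :=
  0 < k ∧ 3 ≤ p ^ k ∧ (∀ f, Fintype.card F = p ^ f → k ∣ f) ∧
    ∃ (g : GL (Fin 2) F) (φ : GaloisField p k →+* F),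
      conjG g G = (pslExt φ).range ∨
        (p ≠ 2 ∧ (∀ a, IsSquare (φ a)) ∧ ∃ ψ, IsPglHom φ ψ ∧ conjG g G = ψ.range)

omit [CharP F p] in
theorem orderOf_eq_card_of_generator {G : Subgroup PSL2} (C : Subgroup G) (hC : IsCyclic C) :
    ∃ x ∈ G, orderOf x = Nat.card C := by
  obtain ⟨c, hc⟩ := C.isCyclic_iff_exists_zpowers_eq_top.mp hC
  exact ⟨c, c.2, by rw [Subgroup.orderOf_coe, ← Nat.card_zpowers, hc]⟩

/-- A cyclic subgroup of index at most two. -/
theorem psl_cyclic_or_dihedral (G : Subgroup PSL2) (C : Subgroup G) (hC : IsCyclic C)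
    (hi : C.index ≤ 2) (hpC : ¬ p ∣ Nat.card C) :
    (IsCyclic G ∧ ¬ p ∣ Nat.card G) ∨
      ∃ k, ¬ p ∣ k ∧ (∃ x ∈ G, orderOf x = k) ∧ Nonempty (G ≃* DihedralGroup k) := by
  classical
  let E := FiniteField.Extension F p 2
  letI : Fintype E := Fintype.ofFinite E
  letI := actionExt E (algebraMap F E) G
  exact (cyclic_or_dihedral (p := p) (isDicksonAction E (FiniteField.finrank_extension F p 2) G)
    (fun ω K hK hKp => (stabilizer_props (p := p) E _ G ω).2 K hK hKp) C hC hi hpC).imp_right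
      fun h => ⟨_, hpC, orderOf_eq_card_of_generator C hC, h⟩

/-- A normal cyclic subgroup of a `p'`-group gives a cyclic subgroup of index at most two. -/
theorem psl_cyclic_of_normal (G : Subgroup PSL2) (hpG : ¬ p ∣ Nat.card G) (N : Subgroup G)
    [N.Normal] (hNc : IsCyclic N) (hN1 : N ≠ ⊥) : ∃ C : Subgroup G, IsCyclic C ∧ C.index ≤ 2 := by
  classical
  let E := FiniteField.Extension F p 2
  letI : Fintype E := Fintype.ofFinite E
  letI := actionExt E (algebraMap F E) G
  exact exists_cyclic_of_normal (p := p) (isDicksonAction E (FiniteField.finrank_extension F p 2) G)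
    (fun ω K hK hKp => (stabilizer_props (p := p) E _ G ω).2 K hK hKp) hpG N hNc hN1

/-- For odd `p` an element of order `p` normalises no non-trivial cyclic `p'`-subgroup. -/
theorem psl_no_normal_cyclic (hp2 : p ≠ 2) (G : Subgroup PSL2) (hpG : p ∣ Nat.card G) (N : Subgroup G)
    [hN : N.Normal] (hNc : IsCyclic N) (hpN : ¬ p ∣ Nat.card N) : N = ⊥ := by
  classical
  let E := FiniteField.Extension F p 2
  letI : Fintype E := Fintype.ofFinite E
  letI := actionExt E (algebraMap F E) G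
  have hA := isDicksonAction (p := p) E (FiniteField.finrank_extension F p 2) G
  obtain ⟨n, hn⟩ := N.isCyclic_iff_exists_zpowers_eq_top.mp hNc
  by_contra hN1
  have hn' : (Subgroup.zpowers n).Normal := hn ▸ hN
  have hnp : n ^ p ≠ 1 := fun h => by
    rcases (Nat.dvd_prime hp.out).mp (orderOf_dvd_of_pow_eq_one h) with e | e
    · exact hN1 (by rw [← hn, orderOf_eq_one_iff.mp e, Subgroup.zpowers_one_eq_bot])
    · exact hpN (by rw [← hn, Nat.card_zpowers, e])
  obtain ⟨a, b, hab, ha, hb, hall⟩ := exists_fixed_pair hA hnp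
  obtain ⟨y, hy⟩ := exists_prime_orderOf_dvd_card' p hpG
  have hy1 : y ≠ 1 := fun h => hp.out.ne_one (by rw [← hy, h, orderOf_one])
  have hfix : ∀ x, x = a ∨ x = b → y • x = x := by
    intro x hx
    have hxn : n • x = x := by rcases hx with rfl | rfl <;> assumption
    have hperiod : MulAction.period y x ∣ p := hy ▸ MulAction.period_dvd_orderOf y x
    rcases (Nat.dvd_prime hp.out).mp hperiod with e | e
    · simpa [e] using MulAction.pow_period_smul y x
    -- a period `p` is more than two points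
    exfalso
    have hinj : Function.Injective fun i : Fin p => y ^ (i : ℕ) • x := fun i j h => by
      wlog hij : (i : ℕ) ≤ j generalizing i j
      · exact (this j i h.symm (le_of_not_ge hij)).symm
      have h' : y ^ ((j : ℕ) - i) • x = x := by
        apply MulAction.injective (y ^ (i : ℕ))
        show y ^ (i : ℕ) • y ^ ((j : ℕ) - i) • x = y ^ (i : ℕ) • x
        rw [smul_smul, ← pow_add, Nat.add_sub_cancel' hij]
        exact h.symm
      rw [MulAction.pow_smul_eq_iff_period_dvd, e] at h'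
      have hj := j.2
      exact Fin.ext (by
        rcases Nat.eq_zero_or_pos ((j : ℕ) - i) with h0 | h0
        · omega
        · have := Nat.le_of_dvd h0 h'; omega)
    have hsub : Set.range (fun i : Fin p => y ^ (i : ℕ) • x) ⊆ {a, b} := by
      rintro _ ⟨i, rfl⟩
      exact smul_mem_pair hn' hall hxn
    have hle := Set.ncard_le_ncard hsub (Set.toFinite _)
    rw [← Nat.card_coe_set_eq, Nat.card_range_of_injective hinj, Nat.card_fin, Set.ncard_pair hab] at hle
    have := hp.out.two_le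
    omega
  have h1 := (hA.pow_eq_one y hy1).mpr (by rw [← hy, pow_orderOf_eq_one])
  haveI := (Nat.card_eq_one_iff_unique.mp h1).1
  exact hab (congrArg Subtype.val (Subsingleton.elim
    (⟨a, hfix a (Or.inl rfl)⟩ : MulAction.fixedBy _ y) ⟨b, hfix b (Or.inr rfl)⟩))

omit hp [CharP F p] in
theorem exists_upper_lift (h : SL2) {x : PSL2}
    (hx : x ∈ MulAut.conj (h : PSL2) • (uSL (F := F)).range.map (QuotientGroup.mk' _)) :
    ∃ t : Multiplicative F, x = (h : PSL2) * ((uSL t : SL2) : PSL2) * (h : PSL2)⁻¹ := by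
  rw [Subgroup.mem_pointwise_smul_iff_inv_smul_mem] at hx
  obtain ⟨_, ⟨t, rfl⟩, ht⟩ := hx
  refine ⟨t, ?_⟩
  have ht' : ((uSL t : SL2) : PSL2) = (h : PSL2)⁻¹ * x * (h : PSL2) := by
    simpa [MulAut.smul_def] using ht
  rw [ht']; group

/-- The Borel case. -/
theorem exists_normalizer (G : Subgroup PSL2) (hG : p ∣ Nat.card G)
    (h1 : ∀ a b : G, (a * b * a⁻¹ * b⁻¹) ^ p = 1)
    (h2 : ∀ a b : G, a ^ p = 1 → b ^ p = 1 → Commute a b) :
    ∃ P : Sylow p PSL2, G ≤ Subgroup.normalizer ((P : Subgroup PSL2) : Set PSL2) := by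
  let P₀ : Subgroup G :=
    { carrier := {a | a ^ p = 1}
      one_mem' := one_pow _
      mul_mem' := fun {a b} ha hb => by
        show (a * b) ^ p = 1
        rw [(h2 a b ha hb).mul_pow, ha, hb, one_mul]
      inv_mem' := fun {a} ha => by
        show a⁻¹ ^ p = 1
        rw [inv_pow, ha, inv_one] }
  have hP0 : IsPGroup p (P₀.map G.subtype) :=
    (show IsPGroup p P₀ from fun a => ⟨1, Subtype.ext (by rw [pow_one]; exact a.2)⟩).map _
  obtain ⟨S, hS⟩ := hP0.exists_le_sylow
  refine ⟨S, fun g hg => ?_⟩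
  set U : Sylow p PSL2 :=
    (sylowU_SL (F := F) p).mapSurjective (f := QuotientGroup.mk' _) (QuotientGroup.mk'_surjective _)
  obtain ⟨h₀, rfl⟩ := MulAction.exists_smul_eq PSL2 U S
  obtain ⟨h, rfl⟩ := QuotientGroup.mk_surjective h₀
  have hSeq : ((((h : PSL2) • U : Sylow p PSL2)) : Subgroup PSL2) =
      MulAut.conj (h : PSL2) • (uSL (F := F)).range.map (QuotientGroup.mk' _) := rfl
  obtain ⟨x, hx⟩ := exists_prime_orderOf_dvd_card' p hG
  have hx1 : x ≠ 1 := fun h => hp.out.ne_one (by rw [← hx, h, orderOf_one])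
  have hxp : x ^ p = 1 := by rw [← hx, pow_orderOf_eq_one]
  have hmem : ∀ a : G, a ^ p = 1 → ∃ t, (a : PSL2) = (h : PSL2) * ((uSL t : SL2) : PSL2) * (h : PSL2)⁻¹ :=
    fun a ha => exists_upper_lift h (hSeq ▸ hS ⟨a, ha, rfl⟩)
  obtain ⟨t, ht⟩ := hmem x hxp
  obtain ⟨s, hs⟩ := hmem (⟨g, hg⟩ * x * ⟨g, hg⟩⁻¹) (by rw [conj_pow, hxp, mul_one, mul_inv_cancel])
  obtain ⟨M, hM⟩ := QuotientGroup.mk_surjective ((h : PSL2)⁻¹ * g * (h : PSL2))
  have hconj : ((M * uSL t : SL2) : PSL2) = ((uSL s * M : SL2) : PSL2) := by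
    rw [QuotientGroup.mk_mul, QuotientGroup.mk_mul, hM]
    have hs' : g * (x : PSL2) * g⁻¹ = (h : PSL2) * ((uSL s : SL2) : PSL2) * (h : PSL2)⁻¹ := hs
    rw [ht] at hs'
    calc (h : PSL2)⁻¹ * g * (h : PSL2) * ((uSL t : SL2) : PSL2)
        = (h : PSL2)⁻¹ * (g * ((h : PSL2) * ((uSL t : SL2) : PSL2) * (h : PSL2)⁻¹) * g⁻¹) * g * (h : PSL2) := by
          group
      _ = _ := by rw [hs']; group
  obtain ⟨c, hc⟩ := (AutPSL.mk_eq_mk_iff _ _).mp hconj
  have ht0 : Multiplicative.toAdd t ≠ 0 := fun h0 => hx1 (Subtype.ext (by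
    rw [ht, show t = 1 from Multiplicative.toAdd.injective (by rw [h0, toAdd_one]), map_one,
      QuotientGroup.mk_one, mul_one, mul_inv_cancel]
    rfl))
  have hM10 : (M : M2) 1 0 = 0 := by
    have e10 := congrFun (congrFun hc 1) 0
    have e11 := congrFun (congrFun hc 1) 1
    simp [Matrix.mul_apply, Fin.sum_univ_two, coe_uSL] at e10 e11
    by_contra h10
    have hc1 : c = 1 := by
      apply mul_right_cancel₀ h10
      linear_combination (-1) * e10
    rw [hc1] at e11
    exact mul_ne_zero h10 ht0 (by linear_combination (-1) * e11)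
  refine Sylow.smul_eq_iff_mem_normalizer.mp (Sylow.ext ?_)
  have hfix : MulAut.conj (M : PSL2) • (uSL (F := F)).range.map (QuotientGroup.mk' (Subgroup.center SL2)) =
      (uSL (F := F)).range.map (QuotientGroup.mk' (Subgroup.center SL2)) := by
    have key : ∀ L : SL2, (L : M2) 1 0 = 0 → ∀ z ∈ (uSL (F := F)).range.map (QuotientGroup.mk' (Subgroup.center SL2)),
        (L : PSL2) * z * (L : PSL2)⁻¹ ∈ (uSL (F := F)).range.map (QuotientGroup.mk' (Subgroup.center SL2)) := by
      rintro L hL _ ⟨u, hu, rfl⟩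
      refine ⟨L * u * L⁻¹, ?_, rfl⟩
      rw [← upper_conj_uSL hL]
      exact Subgroup.smul_mem_pointwise_smul u (MulAut.conj L) _ hu
    ext z
    rw [Subgroup.mem_pointwise_smul_iff_inv_smul_mem, MulAut.smul_def, MulAut.inv_apply, MulAut.conj_symm_apply]
    constructor
    · intro hz
      simpa [mul_assoc] using key M hM10 _ hz
    · intro hz
      have hinv : ((M⁻¹ : SL2) : M2) 1 0 = 0 := by simp [Matrix.adjugate_fin_two, hM10]
      simpa [mul_assoc] using key M⁻¹ hinv _ hz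
  show MulAut.conj g • (((h : PSL2) • U : Sylow p PSL2) : Subgroup PSL2) = _
  rw [hSeq, smul_smul, ← map_mul, show g * (h : PSL2) = (h : PSL2) * (M : PSL2) by rw [hM]; group,
    map_mul, ← smul_smul, hfix]

/-- **Dickson's classification.** -/
theorem classify (G : Subgroup PSL2) :
    (IsCyclic G ∧ ¬ p ∣ Nat.card G) ∨
    (∃ k, ¬ p ∣ k ∧ (∃ x ∈ G, orderOf x = k) ∧ Nonempty (G ≃* DihedralGroup k)) ∨
    (∃ P : Sylow p PSL2, G ≤ Subgroup.normalizer ((P : Subgroup PSL2) : Set PSL2)) ∨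
    (¬ p ∣ Nat.card G ∧ Nonempty (G ≃* alternatingGroup (Fin 4))) ∨
    (¬ p ∣ Nat.card G ∧ Nonempty (G ≃* Equiv.Perm (Fin 4))) ∨
    ((¬ p ∣ Nat.card G ∨ p = 3) ∧ Nonempty (G ≃* alternatingGroup (Fin 5))) ∨
    ∃ k, IsSubfieldGroup p G k := by
  by_cases hpG : p ∣ Nat.card G
  · rcases DicksonFull.dvd_cases G hpG with ⟨h1, h2, -⟩ | ⟨q, k, hk, rfl, hk1, hk2, hc⟩
    · exact Or.inr (Or.inr (Or.inl (exists_normalizer G hpG h1 h2)))
    rcases hc with ⟨hq, C, hC, hi⟩ | ⟨h3, hf⟩ | ⟨hq, h60⟩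
    · have hp2 : p = 2 := (Nat.prime_dvd_prime_iff_eq hp.out Nat.prime_two).mp (hq ▸ dvd_pow_self p hk.ne')
      have hpC : ¬ p ∣ Nat.card C := fun hd => hk2 (by
        rw [← Subgroup.card_mul_index C, hi]
        have : p ^ (k + 1) = p * 2 := by rw [pow_succ, hq, hp2]
        rw [this]
        exact Nat.mul_dvd_mul_right hd 2)
      exact (psl_cyclic_or_dihedral G C hC hi.le hpC).imp_right Or.inl
    · refine Or.inr (Or.inr (Or.inr (Or.inr (Or.inr (Or.inr ⟨k, hk, h3, ?_⟩)))))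
      exact subfield_ident G hk hk1 hk2 hf
    · have hp3 : p = 3 := (Nat.prime_dvd_prime_iff_eq hp.out Nat.prime_three).mp (hq ▸ dvd_pow_self p hk.ne')
      refine Or.inr (Or.inr (Or.inr (Or.inr (Or.inr (Or.inl ⟨Or.inr hp3, ?_⟩)))))
      have key : ∀ r : ℕ, r.Prime → r ≠ 3 → ∀ N : Subgroup G, N.Normal → Nat.card N ≠ r := by
        intro r hr hr3 N hN hc
        haveI := hN
        haveI : Fact r.Prime := ⟨hr⟩
        have hb := psl_no_normal_cyclic (by omega) G hpG N (isCyclic_of_prime_card hc) (fun hd => hr3 (by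
          rw [hc] at hd
          exact ((Nat.prime_dvd_prime_iff_eq hp.out hr).mp hd).symm.trans hp3))
        rw [hb, Subgroup.card_bot] at hc
        exact hr.ne_one hc.symm
      exact nonempty_alt_five h60 (key 5 (by norm_num) (by norm_num)) (key 2 Nat.prime_two (by norm_num))
  by_cases hC : ∃ C : Subgroup G, IsCyclic C ∧ C.index ≤ 2
  · obtain ⟨C, hC, hi⟩ := hC
    exact (psl_cyclic_or_dihedral G C hC hi
      fun hd => hpG (hd.trans (Subgroup.card_subgroup_dvd_card C))).imp_right Or.inl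
  have key : ∀ r : ℕ, r.Prime → ∀ N : Subgroup G, N.Normal → Nat.card N ≠ r := by
    intro r hr N hN hc
    haveI := hN
    haveI : Fact r.Prime := ⟨hr⟩
    refine hC (psl_cyclic_of_normal G hpG N (isCyclic_of_prime_card hc) fun hb => ?_)
    rw [hb, Subgroup.card_bot] at hc
    exact hr.ne_one hc.symm
  rcases (DicksonFull.coprime_cases G hpG).resolve_left hC with h | h | h
  · exact Or.inr (Or.inr (Or.inr (Or.inl
      ⟨hpG, nonempty_alt_four h (key 3 Nat.prime_three) (key 2 Nat.prime_two)⟩)))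
  · exact Or.inr (Or.inr (Or.inr (Or.inr (Or.inl
      ⟨hpG, nonempty_perm_four h (key 3 Nat.prime_three) (key 2 Nat.prime_two)⟩))))
  · exact Or.inr (Or.inr (Or.inr (Or.inr (Or.inr (Or.inl
      ⟨Or.inl hpG, nonempty_alt_five h (key 5 (by norm_num)) (key 2 Nat.prime_two)⟩)))))

end Cfsg.Agent.Lib.DicksonId
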