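import Cfsg.Agent.Lib.DicksonId.Basic

/-!
Normal form of a subgroup of `PSL(2, F)` whose Sylow `p`-subgroup has order `q` and whose order is
`q (q² - 1) / c`: after conjugation its upper translations contain `1` and act transitively on the
finite part of its orbit of infinity.
-/

set_option autoImplicit false

namespace Cfsg.Agent.Lib.DicksonId

open Matrix Cfsg.Agent.Lib.Linear
open Cfsg.Agent.Lib.DicksonFull (mem_center_iff_smul)
open Cfsg.Agent.Lib.PLocal.SLTwo (up lo up_add up_zero)
open Cfsg.Agent.Lib.Dickson (transl mem_transl borel mem_borel diagHom coe_diagHom coe_up coe_lo negI)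

variable {F : Type*} [Field F]

local notation "SL2" => Matrix.SpecialLinearGroup (Fin 2) F
local notation "M2" => Matrix (Fin 2) (Fin 2) F
local notation "PSL2" => Matrix.ProjectiveSpecialLinearGroup (Fin 2) F

/-- The finite points of the orbit of infinity. -/
def lam (H : Subgroup (Matrix.SpecialLinearGroup (Fin 2) F)) : Set F :=
  {z | ∃ g ∈ H, (g : Matrix (Fin 2) (Fin 2) F) 1 0 ≠ 0 ∧
    z = (g : Matrix (Fin 2) (Fin 2) F) 0 0 / (g : Matrix (Fin 2) (Fin 2) F) 1 0}

/-- The squares of the diagonal entries of the upper triangular elements. -/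
def torusSq (H : Subgroup (Matrix.SpecialLinearGroup (Fin 2) F)) : Subgroup Fˣ :=
  (diagHom H).range.map (powMonoidHom 2)

variable {H : Subgroup (Matrix.SpecialLinearGroup (Fin 2) F)}

theorem mk_coset_eq_iff {g h : H} :
    (g : H ⧸ borel H) = (h : H ⧸ borel H) ↔
      ((g : SL2) : M2) 0 0 * ((h : SL2) : M2) 1 0 = ((g : SL2) : M2) 1 0 * ((h : SL2) : M2) 0 0 := by
  rw [QuotientGroup.eq, mem_borel]
  simp [Matrix.adjugate_fin_two, Matrix.mul_apply, Fin.sum_univ_two]
  constructor <;> intro e <;> linear_combination e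

open scoped Classical in
/-- The point of a coset of the upper triangular subgroup. -/
noncomputable def cosetPt (H : Subgroup (Matrix.SpecialLinearGroup (Fin 2) F)) :
    H ⧸ borel H → Option F := fun c =>
  Quotient.liftOn' c
    (fun g => if ((g : SL2) : M2) 1 0 = 0 then none
      else some (((g : SL2) : M2) 0 0 / ((g : SL2) : M2) 1 0))
    (fun g h hgh => by
      have e := mk_coset_eq_iff.mp (Quotient.sound' hgh : (g : H ⧸ borel H) = h)
      have hg := sl2_det (g : SL2)
      have hh := sl2_det (h : SL2)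
      beta_reduce
      by_cases g0 : ((g : SL2) : M2) 1 0 = 0
      · rw [g0, zero_mul] at e
        have g00 : ((g : SL2) : M2) 0 0 ≠ 0 := fun h0 => by simp [g0, h0] at hg
        rw [if_pos g0, if_pos ((mul_eq_zero.mp e).resolve_left g00)]
      · by_cases h0 : ((h : SL2) : M2) 1 0 = 0
        · rw [h0, mul_zero] at e
          have h00 : ((h : SL2) : M2) 0 0 ≠ 0 := fun h' => by simp [h0, h'] at hh
          exact absurd ((mul_eq_zero.mp e.symm).resolve_right h00) g0
        · rw [if_neg g0, if_neg h0]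
          congr 1
          rw [div_eq_div_iff g0 h0]
          linear_combination e)

open scoped Classical in
theorem cosetPt_mk (g : H) :
    cosetPt H (g : H ⧸ borel H) = if ((g : SL2) : M2) 1 0 = 0 then none
      else some (((g : SL2) : M2) 0 0 / ((g : SL2) : M2) 1 0) := rfl

theorem index_borel [Finite F] (H : Subgroup SL2) :
    (borel H).index = Nat.card (lam H) + 1 := by
  classical
  rw [Subgroup.index, ← Finite.card_option]
  refine Nat.card_eq_of_bijective (fun c => match h : cosetPt H c with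
      | none => (none : Option (lam H))
      | some z => some ⟨z, by
          induction c using QuotientGroup.induction_on with | _ g =>
          rw [cosetPt_mk] at h
          split_ifs at h with g0
          exact ⟨g, g.2, g0, (Option.some.inj h).symm⟩⟩) ⟨?_, ?_⟩
  · intro a b hab
    induction a using QuotientGroup.induction_on with | _ g =>
    induction b using QuotientGroup.induction_on with | _ k =>
    have hab' : cosetPt H (g : H ⧸ borel H) = cosetPt H (k : H ⧸ borel H) := by
      dsimp only at hab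
      split at hab <;> split at hab <;> simp_all
    rw [mk_coset_eq_iff]
    simp only [cosetPt_mk] at hab'
    by_cases g0 : ((g : SL2) : M2) 1 0 = 0 <;> by_cases k0 : ((k : SL2) : M2) 1 0 = 0
    · rw [g0, k0]; ring
    · simp [g0, k0] at hab'
    · simp [g0, k0] at hab'
    · rw [if_neg g0, if_neg k0, Option.some.injEq, div_eq_div_iff g0 k0] at hab'
      linear_combination hab'
  · rintro (_ | ⟨z, g, hg, g0, rfl⟩)
    · refine ⟨((1 : H) : H ⧸ borel H), ?_⟩
      have : cosetPt H ((1 : H) : H ⧸ borel H) = none := by simp [cosetPt_mk]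
      dsimp only
      split <;> simp_all
    · refine ⟨((⟨g, hg⟩ : H) : H ⧸ borel H), ?_⟩
      have := cosetPt_mk (⟨g, hg⟩ : H)
      rw [if_neg g0] at this
      dsimp only
      split <;> simp_all

theorem lam_add_mem {z a : F} (hz : z ∈ lam H) (ha : a ∈ transl H) : z + a ∈ lam H := by
  obtain ⟨g, hg, g0, rfl⟩ := hz
  refine ⟨up a * g, H.mul_mem ha hg, ?_, ?_⟩
  · simp [coe_up, Matrix.mul_apply, Fin.sum_univ_two, g0]
  · simp [coe_up, Matrix.mul_apply, Fin.sum_univ_two]
    field_simp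

theorem card_transl_dvd_card_lam [Finite F] (H : Subgroup SL2) :
    Nat.card (transl H) ∣ Nat.card (lam H) := by
  have hpre : (QuotientAddGroup.mk : F → F ⧸ transl H) ⁻¹'
      ((QuotientAddGroup.mk : F → F ⧸ transl H) '' lam H) = lam H := by
    refine Set.Subset.antisymm ?_ (Set.subset_preimage_image _ _)
    rintro z ⟨w, hw, hwz⟩
    rw [show z = w + (-w + z) by ring]
    exact lam_add_mem hw (QuotientAddGroup.eq.mp hwz)
  rw [← hpre, Nat.card_congr (QuotientAddGroup.preimageMkEquivAddSubgroupProdSet (transl H) _),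
    Nat.card_prod]
  exact dvd_mul_right _ _

theorem sq_mul_mem_transl {r : Fˣ} (hr : r ∈ (diagHom H).range) {a : F} (ha : a ∈ transl H) :
    (r : F) ^ 2 * a ∈ transl H := by
  obtain ⟨⟨g, hg⟩, rfl⟩ := hr
  rw [mem_transl]
  have h11 := Dickson.borel_diag hg
  have key : up (((diagHom H ⟨g, hg⟩ : Fˣ) : F) ^ 2 * a) = (g : SL2) * up a * (g : SL2)⁻¹ := by
    rw [eq_mul_inv_iff_mul_eq]
    apply Subtype.ext
    have h10 := (mem_borel H).mp hg
    rw [coe_diagHom]
    ext i j
    fin_cases i <;> fin_cases j <;>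
      simp [coe_up, Matrix.mul_apply, Fin.sum_univ_two, h10]
    linear_combination (a * ((g : SL2) : M2) 0 0) * h11
  rw [key]
  exact H.mul_mem (H.mul_mem g.2 ha) (H.inv_mem g.2)

theorem card_transl_dvd_pow [Fintype F] {p : ℕ} [Fact p.Prime] [CharP F p] (H : Subgroup SL2) :
    ∃ i, Nat.card (transl H) = p ^ i := by
  obtain ⟨f, -, hf⟩ := exists_card_eq_pow (F := F) p
  obtain ⟨i, -, hi⟩ := (Nat.dvd_prime_pow Fact.out).mp
    (hf ▸ Nat.card_eq_fintype_card (α := F) ▸ (transl H).card_addSubgroup_dvd_card)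
  exact ⟨i, hi⟩

theorem card_transl_dvd_card (H : Subgroup SL2) : Nat.card (transl H) ∣ Nat.card H := by
  rw [← Subgroup.card_mul_index (borel H), Dickson.card_borel, mul_assoc]
  exact dvd_mul_right _ _

theorem card_torusSq_le [Finite F] {a : F} (ha : a ∈ transl H) (ha0 : a ≠ 0) :
    Nat.card (torusSq H) + 1 ≤ Nat.card (transl H) := by
  rw [← Finite.card_option]
  refine Nat.card_le_card_of_injective (fun o : Option (torusSq H) => match o with
    | none => (0 : transl H)
    | some d => ⟨((d : Fˣ) : F) * a, by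
        obtain ⟨r, hr, hd⟩ := d.2
        rw [← hd]
        simpa using sq_mul_mem_transl hr ha⟩) ?_
  rintro (_ | d) (_ | d') h
  · rfl
  · exact absurd (congrArg Subtype.val h).symm (mul_ne_zero (Units.ne_zero _) ha0)
  · exact absurd (congrArg Subtype.val h) (mul_ne_zero (Units.ne_zero _) ha0)
  · exact congrArg some (Subtype.ext (Units.ext (mul_right_cancel₀ ha0 (congrArg Subtype.val h))))

theorem card_range_diagHom [Fintype F] {p : ℕ} [Fact p.Prime] [CharP F p] (hI : negI ∈ H) :
    Nat.card (diagHom H).range = Nat.gcd 2 (Fintype.card F - 1) * Nat.card (torusSq H) := by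
  set R := (diagHom H).range
  let φ : R →* Fˣ := (powMonoidHom 2).comp R.subtype
  have h1 := Subgroup.card_mul_index φ.ker
  rw [Subgroup.index_ker] at h1
  have hrange : φ.range = torusSq H := by
    ext x
    constructor
    · rintro ⟨r, rfl⟩; exact ⟨r, r.2, rfl⟩
    · rintro ⟨r, hr, rfl⟩; exact ⟨⟨r, hr⟩, rfl⟩
  rw [hrange] at h1
  rw [← h1]
  congr 1
  have hneg : (-1 : Fˣ) ∈ R := ⟨⟨⟨negI, hI⟩, by rw [mem_borel]; simp [negI]⟩, Units.ext (by
    simp [coe_diagHom, negI])⟩
  have hker : ∀ r : R, r ∈ φ.ker ↔ (r : Fˣ) = 1 ∨ (r : Fˣ) = -1 := by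
    intro r
    rw [MonoidHom.mem_ker]
    constructor
    · intro h
      have h' : ((r : Fˣ) : F) ^ 2 = 1 := by
        simpa [φ] using congrArg (fun u : Fˣ => (u : F)) h
      rcases sq_eq_one_iff.mp h' with e | e
      · exact Or.inl (Units.ext e)
      · exact Or.inr (Units.ext (by simpa using e))
    · rintro (e | e) <;> simp [φ, e]
  by_cases h2 : (2 : F) = 0
  · have : φ.ker = ⊥ := by
      rw [Subgroup.eq_bot_iff_forall]
      intro r hr
      have h11 : (-1 : Fˣ) = 1 := Units.ext (by simp; linear_combination (-1) * h2)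
      rcases (hker r).mp hr with e | e
      · exact Subtype.ext e
      · exact Subtype.ext (e.trans h11)
    rw [this, Subgroup.card_bot]
    have heven : Fintype.card F % 2 = 0 := by
      rw [← FiniteField.even_card_iff_char_two]
      by_contra hc
      exact Ring.two_ne_zero hc h2
    have := Fintype.one_lt_card (α := F)
    exact Eq.symm (Nat.coprime_two_left.mpr ⟨(Fintype.card F - 2) / 2, by omega⟩ :
      Nat.gcd 2 (Fintype.card F - 1) = 1)
  · have hg : Nat.gcd 2 (Fintype.card F - 1) = 2 := by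
      refine Nat.gcd_eq_left ?_
      have hodd : Fintype.card F % 2 = 1 := FiniteField.odd_card_of_char_ne_two fun hc => h2 (by
        have := ringChar.Nat.cast_ringChar (R := F)
        rw [hc] at this
        exact_mod_cast this)
      omega
    rw [hg, Nat.card_eq_two_iff]
    refine ⟨1, ⟨⟨-1, hneg⟩, (hker _).mpr (Or.inr rfl)⟩, ?_, ?_⟩
    · intro h
      have := congrArg (fun z : φ.ker => (((z : R) : Fˣ) : F)) h
      simp at this
      exact h2 (by linear_combination this)
    · refine Set.eq_univ_of_forall fun r => ?_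
      rcases (hker r).mp r.2 with e | e
      · exact Or.inl (Subtype.ext (Subtype.ext e))
      · exact Or.inr (Subtype.ext (Subtype.ext e))

/-- The numerical solution. -/
theorem arith {c m d q : ℕ} (hd : 1 ≤ d) (hdq : d + 1 ≤ q) (hc : c = 1 ∨ c = 2) (hm : 1 ≤ m)
    (h : c * ((m * q + 1) * d) + 1 = q * q) : m = 1 ∧ c * d + 1 = q := by
  have h1 : c * d + 1 + q * (c * m * d) = q * q := by rw [← h]; ring
  have hdvd : q ∣ c * d + 1 := (Nat.dvd_add_iff_left (dvd_mul_right q _)).mpr (h1 ▸ dvd_mul_right q q)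
  obtain ⟨j, hj⟩ := hdvd
  obtain rfl : j = 1 := by
    rcases Nat.lt_or_ge j 2 with hj2 | hj2
    · interval_cases j <;> omega
    · have := Nat.mul_le_mul_left q hj2
      rcases hc with rfl | rfl <;> omega
  rw [mul_one] at hj
  refine ⟨?_, hj⟩
  have h2 : q * (1 + c * m * d) = q * q := by rw [← h1, hj]; ring
  have h3 := Nat.eq_of_mul_eq_mul_left (show 0 < q by omega) h2
  by_contra hne
  have h4 : 2 * (c * d) ≤ c * m * d := by
    have := Nat.mul_le_mul_right (c * d) (show 2 ≤ m by omega)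
    nlinarith
  have : 1 ≤ c * d := by rcases hc with rfl | rfl <;> omega
  omega

/-- The counts. -/
theorem count [Fintype F] {p : ℕ} [Fact p.Prime] [CharP F p] (G : Subgroup PSL2) {c q : ℕ}
    (hq : 2 ≤ q) (hc : c = 1 ∨ c = 2) (hA : Nat.card (transl (pre G)) = q)
    (hG : c * Nat.card G + q = q ^ 3) :
    Nat.card (lam (pre G)) = q ∧ c * Nat.card (torusSq (pre G)) + 1 = q := by
  set H := pre G
  set d := Nat.card (torusSq H)
  have hd : 1 ≤ d := Nat.card_pos
  have he : 0 < Nat.gcd 2 (Fintype.card F - 1) := Nat.gcd_pos_of_pos_left _ two_pos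
  obtain ⟨⟨a, ha⟩, ha0⟩ := @exists_ne _ (Finite.one_lt_card_iff_nontrivial.mp (show 1 < Nat.card (transl H) by omega)) 0
  have hdq : d + 1 ≤ q := hA ▸ card_torusSq_le ha (fun h => ha0 (Subtype.ext h))
  have hindex := index_borel H
  obtain ⟨m, hm⟩ : ∃ m, Nat.card (lam H) = m * q := by
    obtain ⟨m, hm⟩ := card_transl_dvd_card_lam H
    exact ⟨m, by rw [hm, hA, mul_comm]⟩
  have hcard : Nat.card G = (m * q + 1) * (q * d) := by
    have h1 := Subgroup.card_mul_index (borel H)
    rw [Dickson.card_borel, hA, card_range_diagHom (p := p) (negI_mem_pre G), hindex, hm, card_pre] at h1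
    apply Nat.eq_of_mul_eq_mul_left he
    rw [← h1]; ring
  have heq : c * ((m * q + 1) * d) + 1 = q * q := by
    apply Nat.eq_of_mul_eq_mul_left (show 0 < q by omega)
    rw [show q * (q * q) = q ^ 3 by ring, ← hG, hcard]; ring
  have hm1 : 1 ≤ m := by
    by_contra h0
    obtain rfl : m = 0 := by omega
    simp at heq
    have hcd : c * d ≤ 2 * d := Nat.mul_le_mul_right d (by omega)
    have := Nat.mul_le_mul_right q hq
    rcases hc with rfl | rfl <;> nlinarith
  obtain ⟨rfl, h2⟩ := arith hd hdq hc hm1 heq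
  exact ⟨by rw [hm, one_mul], h2⟩

/-- The matrix `diag(a, 1) (1 t; 0 1)`. -/
noncomputable def affGL (a t : F) (ha : a ≠ 0) : GL (Fin 2) F :=
  GeneralLinearGroup.mkOfDetNeZero !![a, a * t; 0, 1] (by simp [Matrix.det_fin_two_of, ha])

theorem transl_affGL (G : Subgroup PSL2) {a t : F} (ha : a ≠ 0) (b : F) :
    a * b ∈ transl (pre (conjG (affGL a t ha) G)) ↔ b ∈ transl (pre G) := by
  have key : AutPSL.conjSL (affGL a t ha) (up b) = up (a * b) := by
    apply conjSL_eq_of_mul
    ext i j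
    fin_cases i <;> fin_cases j <;>
      simp [affGL, coe_up, Matrix.mul_apply, Fin.sum_univ_two, GeneralLinearGroup.val_mkOfDetNeZero]
    ring
  rw [mem_transl, mem_transl, mem_pre_conjG]
  constructor
  · rintro ⟨x, hx, hxy⟩
    rw [← (AutPSL.conjSL (affGL a t ha)).injective (hxy.trans key.symm)]
    exact hx
  · exact fun hb => ⟨_, hb, key⟩

theorem lam_affGL (G : Subgroup PSL2) {a t : F} (ha : a ≠ 0) (z : F) :
    a * (z + t) ∈ lam (pre (conjG (affGL a t ha) G)) ↔ z ∈ lam (pre G) := by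
  have key : ∀ x : SL2, ((AutPSL.conjSL (affGL a t ha) x : SL2) : M2) 0 0 =
      (x : M2) 0 0 + t * (x : M2) 1 0 ∧
      ((AutPSL.conjSL (affGL a t ha) x : SL2) : M2) 1 0 = (x : M2) 1 0 / a := by
    intro x
    set y := AutPSL.conjSL (affGL a t ha) x
    have h : (affGL a t ha : M2) * (x : M2) = (y : M2) * (affGL a t ha : M2) := by
      rw [AutPSL.coe_conjSL, Matrix.mul_assoc, Units.inv_mul, Matrix.mul_one]
    have h00 := congrFun (congrFun h 0) 0
    have h10 := congrFun (congrFun h 1) 0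
    simp [affGL, Matrix.mul_apply, Fin.sum_univ_two, GeneralLinearGroup.val_mkOfDetNeZero] at h00 h10
    refine ⟨mul_left_cancel₀ ha ?_, by rw [eq_div_iff ha, h10]⟩
    linear_combination (-1) * h00
  constructor
  · rintro ⟨y, hy, y0, hz⟩
    obtain ⟨x, hx, rfl⟩ := mem_pre_conjG.mp hy
    obtain ⟨h1, h2⟩ := key x
    rw [h1, h2] at hz
    rw [h2] at y0
    have x0 : (x : M2) 1 0 ≠ 0 := fun h => y0 (by rw [h, zero_div])
    refine ⟨x, hx, x0, ?_⟩
    field_simp at hz ⊢
    linear_combination hz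
  · rintro ⟨x, hx, x0, rfl⟩
    obtain ⟨h1, h2⟩ := key x
    refine ⟨_, mem_pre_conjG.mpr ⟨x, hx, rfl⟩, ?_, ?_⟩
    · rw [h2]; exact div_ne_zero x0 ha
    · rw [h1, h2]; field_simp

/-- Upper position for a Sylow subgroup. -/
theorem exists_upper [Fintype F] {p : ℕ} [Fact p.Prime] [CharP F p] (G : Subgroup PSL2) {k : ℕ}
    (hk1 : p ^ k ∣ Nat.card G) (hk2 : ¬ p ^ (k + 1) ∣ Nat.card G) :
    ∃ g : GL (Fin 2) F, Nat.card (transl (pre (conjG g G))) = p ^ k := by
  have hp : p.Prime := Fact.out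
  have hcard : p ^ k ∣ Nat.card (pre G) := (card_pre G).symm ▸ dvd_mul_of_dvd_right hk1 _
  obtain ⟨R, hR⟩ := Sylow.exists_subgroup_card_pow_prime p hcard
  have hRp : IsPGroup p (R.map (pre G).subtype) := (IsPGroup.of_card hR).map _
  obtain ⟨S, hS⟩ := hRp.exists_le_sylow
  obtain ⟨h, hh⟩ := exists_sylow_eq_conj_SL p S
  refine ⟨Matrix.SpecialLinearGroup.toGL h⁻¹, ?_⟩
  set H := pre (conjG (Matrix.SpecialLinearGroup.toGL h⁻¹) G)
  have hle : p ^ k ≤ Nat.card (transl H) := by
    rw [← hR]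
    have hmem : ∀ x : R, ∃ a : transl H, (h⁻¹ * ((x : pre G) : SL2) * h : SL2) = up (a : F) := by
      intro x
      have hx := hS ⟨x, x.2, rfl⟩
      rw [hh, Subgroup.mem_pointwise_smul_iff_inv_smul_mem] at hx
      obtain ⟨t, ht⟩ := hx
      simp only [MulAut.smul_def, MulAut.inv_apply, MulAut.conj_symm_apply, Subgroup.coe_subtype] at ht
      have e : h⁻¹ * ((x : pre G) : SL2) * h = up t.toAdd := by
        rw [← ht]; exact Subtype.ext (coe_uSL t)
      refine ⟨⟨t.toAdd, ?_⟩, e⟩
      rw [mem_transl, mem_pre_conjG]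
      refine ⟨((x : pre G) : SL2), (x : pre G).2, ?_⟩
      rw [AutPSL.conjSL_toGL, MulAut.conj_apply, inv_inv, e]
    choose a ha using hmem
    refine Nat.card_le_card_of_injective a fun x y hxy => ?_
    have := (ha x).trans (hxy ▸ (ha y).symm)
    exact Subtype.ext (Subtype.ext (mul_left_cancel (mul_right_cancel this)))
  obtain ⟨i, hi⟩ := card_transl_dvd_pow (p := p) H
  have h2 := card_transl_dvd_card H
  rw [hi, card_pre, card_conjG] at h2
  rw [hi] at hle ⊢
  have hik : k ≤ i := (Nat.pow_le_pow_iff_right hp.one_lt).mp hle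
  rcases Nat.lt_or_ge k i with hlt | hge
  · exfalso
    apply hk2
    refine (Nat.Coprime.dvd_of_dvd_mul_left ?_ ((pow_dvd_pow p (show k + 1 ≤ i by omega)).trans h2))
    refine Nat.Coprime.pow_left _ (hp.coprime_iff_not_dvd.mpr fun hd => ?_)
    have hd2 := (Nat.prime_dvd_prime_iff_eq hp Nat.prime_two).mp (hd.trans (Nat.gcd_dvd_left 2 _))
    obtain ⟨f, hf, hq⟩ := exists_card_eq_pow (F := F) p
    have hd1 := hd.trans (Nat.gcd_dvd_right 2 _)
    have h3 := Nat.dvd_sub (hq.symm ▸ dvd_pow_self p hf.ne' : p ∣ Fintype.card F) hd1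
    rw [Nat.sub_sub_self Fintype.card_pos] at h3
    exact hp.not_dvd_one h3
  · rw [le_antisymm hge hik]

/-- The normal form. -/
theorem exists_normal_form [Fintype F] {p : ℕ} [Fact p.Prime] [CharP F p] (G : Subgroup PSL2)
    {k c : ℕ} (hk : 0 < k) (hk1 : p ^ k ∣ Nat.card G) (hk2 : ¬ p ^ (k + 1) ∣ Nat.card G)
    (hc : c = 1 ∨ c = 2) (hG : c * Nat.card G + p ^ k = (p ^ k) ^ 3) :
    ∃ g : GL (Fin 2) F, Nat.card (transl (pre (conjG g G))) = p ^ k ∧
      (1 : F) ∈ transl (pre (conjG g G)) ∧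
      (∀ z, z ∈ lam (pre (conjG g G)) ↔ z ∈ transl (pre (conjG g G))) := by
  have hq : 2 ≤ p ^ k := (Fact.out : p.Prime).two_le.trans (Nat.le_self_pow hk.ne' p)
  obtain ⟨g₁, h1⟩ := exists_upper (p := p) G hk1 hk2
  set G₁ := conjG g₁ G
  obtain ⟨hl, -⟩ := count (p := p) G₁ hq hc h1 (by rw [card_conjG]; exact hG)
  obtain ⟨⟨a, ha⟩, ha0⟩ :=
    @exists_ne _ (Finite.one_lt_card_iff_nontrivial.mp (show 1 < Nat.card (transl (pre G₁)) by omega)) 0
  have ha0' : a ≠ 0 := fun h => ha0 (Subtype.ext h)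
  obtain ⟨⟨z₀, hz₀⟩⟩ : Nonempty (lam (pre G₁)) :=
    (Nat.card_pos_iff.mp (show 0 < Nat.card (lam (pre G₁)) by omega)).1
  have hΛ : ∀ z, z ∈ lam (pre G₁) ↔ z - z₀ ∈ transl (pre G₁) := by
    have hsub : (fun b => z₀ + b) '' (transl (pre G₁) : Set F) ⊆ lam (pre G₁) := by
      rintro _ ⟨b, hb, rfl⟩; exact lam_add_mem hz₀ hb
    have heq := Set.eq_of_subset_of_ncard_le hsub (by
      rw [Set.ncard_image_of_injective _ (add_right_injective z₀), ← Nat.card_coe_set_eq,
        ← Nat.card_coe_set_eq, hl]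
      exact h1.ge) (Set.toFinite _)
    intro z
    rw [← heq]
    exact ⟨fun ⟨b, hb, h⟩ => by rw [← h]; simpa using hb, fun h => ⟨z - z₀, h, by ring⟩⟩
  set M := affGL a⁻¹ (-z₀) (inv_ne_zero ha0')
  have htr : ∀ b, b ∈ transl (pre (conjG M G₁)) ↔ a * b ∈ transl (pre G₁) := fun b => by
    rw [← transl_affGL G₁ (inv_ne_zero ha0') (t := -z₀) (a * b), inv_mul_cancel_left₀ ha0']
  have hla : ∀ b, b ∈ lam (pre (conjG M G₁)) ↔ a * b + z₀ ∈ lam (pre G₁) := fun b => by
    rw [← lam_affGL G₁ (inv_ne_zero ha0') (t := -z₀) (a * b + z₀), add_neg_cancel_right,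
      inv_mul_cancel_left₀ ha0']
  refine ⟨M * g₁, ?_, ?_, fun z => ?_⟩ <;> rw [conjG_mul]
  · rw [← h1]
    exact Nat.card_congr
      { toFun := fun b => ⟨a * b, (htr _).mp b.2⟩
        invFun := fun b => ⟨a⁻¹ * b, (htr _).mpr (by rw [mul_inv_cancel_left₀ ha0']; exact b.2)⟩
        left_inv := fun b => Subtype.ext (inv_mul_cancel_left₀ ha0' _)
        right_inv := fun b => Subtype.ext (mul_inv_cancel_left₀ ha0' _) }
  · rw [htr, mul_one]; exact ha
  · rw [hla, hΛ, htr, add_sub_cancel_right]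

end Cfsg.Agent.Lib.DicksonId
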