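import Cfsg.Agent.Lib.DicksonId.Consequences
import Cfsg.Agent.Lib.SL2Tori.Products
import Cfsg.Agent.Lib.HallPSL.Dihedral

/-!
Every element prime to `p` lies in a full torus and is inverted by some element.
-/

set_option autoImplicit false

namespace Cfsg.Agent.Lib.DicksonId

open Matrix Cfsg.Agent.Lib.Linear
open Cfsg.Agent.Lib.DicksonFull (IsEig slExt)

variable {F : Type*} [Field F] [Fintype F] {p : ℕ} [hp : Fact p.Prime] [CharP F p]

local notation "SL2" => Matrix.SpecialLinearGroup (Fin 2) F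
local notation "M2" => Matrix (Fin 2) (Fin 2) F
local notation "PSL2" => Matrix.ProjectiveSpecialLinearGroup (Fin 2) F

omit [Fintype F] hp [CharP F p] in
theorem slTr_eq (x : SL2) : PSLTwo.Sylow.slTr x = Matrix.trace (x : M2) := (Matrix.trace_fin_two _).symm

omit [Fintype F] hp [CharP F p] in
theorem nonScalar_psl {x : SL2} (hx : (x : PSL2) ≠ 1) : PSLTwo.Sylow.NonScalar x := by
  refine SL2Tori.Products.nonScalar_of_proj_ne_one fun h => hx ?_
  exact h

omit [Fintype F] hp [CharP F p] in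
theorem nonScalar_linear_psl {x : SL2} (hx : (x : PSL2) ≠ 1) : Linear.NonScalar x := fun _ ha =>
  hx (DicksonFull.mk_eq_one_of_smul ha)

/-- `SL`-conjugacy of lifts from traces. -/
theorem exists_conj_of_trace {a b : SL2} (ha : (a : PSL2) ^ p ≠ 1) (hb : (b : PSL2) ≠ 1)
    (hab : Matrix.trace (b : M2) = Matrix.trace (a : M2)) :
    ∃ P : SL2, P * a * P⁻¹ = b := by
  have ha1 : (a : PSL2) ≠ 1 := fun h => ha (by rw [h, one_pow])
  refine SL2Tori.Products.exists_conj_of_slTr_eq ?_ (by rw [slTr_eq, slTr_eq, hab])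
  by_cases h2 : (2 : F) = 0
  · have hp2 : p = 2 := (Nat.prime_dvd_prime_iff_eq hp.out Nat.prime_two).mp
      ((CharP.cast_eq_zero_iff F p 2).mp (by exact_mod_cast h2))
    exact Or.inr ⟨hp2 ▸ ‹CharP F p›, nonScalar_psl ha1, nonScalar_psl hb⟩
  · refine Or.inl ⟨FiniteField.odd_card_of_char_ne_two fun hc => h2 ?_, h2, ?_⟩
    · have := ringChar.Nat.cast_ringChar (R := F)
      rw [hc] at this
      exact_mod_cast this
    · rw [slTr_eq]; exact HallPSL.trace_sq_ne_four p h2 ha

/-- Elements prime to `p` are inverted. -/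
theorem exists_inverting_psl {x : PSL2} (hx : x ^ p ≠ 1) : ∃ w : PSL2, w * x * w⁻¹ = x⁻¹ := by
  obtain ⟨a, rfl⟩ := QuotientGroup.mk_surjective x
  have ha1 : (a : PSL2) ≠ 1 := fun h => hx (by rw [h, one_pow])
  obtain ⟨P, hP⟩ := exists_conj_of_trace (p := p) (a := a) (b := a⁻¹) hx
    (by rw [QuotientGroup.mk_inv]; exact inv_ne_one.mpr ha1)
    (by rw [← slTr_eq, ← slTr_eq, PSLTwo.Sylow.slTr_inv])
  exact ⟨(P : PSL2), by rw [← QuotientGroup.mk_inv, ← QuotientGroup.mk_mul, ← QuotientGroup.mk_mul, hP,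
    QuotientGroup.mk_inv]⟩

include hp in
omit [CharP F p] in
theorem center_pow_gcd [CharP F p] {z : SL2} (hz : z ∈ Subgroup.center SL2) :
    z ^ Nat.gcd 2 (Fintype.card F - 1) = 1 := by
  by_cases h2 : (2 : F) = 0
  · rw [RecogThree.PSL2Orders.center_eq_one h2 hz, one_pow]
  · have hp2 : p ≠ 2 := by
      rintro rfl
      exact h2 (by exact_mod_cast CharP.cast_eq_zero F 2)
    rw [gcd_two_eq (p := p), if_neg hp2]
    exact RecogThree.PSL2Orders.center_sq hz

/-- A full torus through an element prime to `p`. -/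
theorem exists_torus {x : PSL2} (hxp : x ^ p ≠ 1) {N : ℕ}
    (hN : N = Fintype.card F - 1 ∨ N = Fintype.card F + 1) {m : ℕ}
    (hm : Nat.gcd 2 (Fintype.card F - 1) * m = N) (hxm : x ^ m = 1) :
    ∃ y : PSL2, orderOf y = m ∧ x ∈ Subgroup.zpowers y := by
  set e := Nat.gcd 2 (Fintype.card F - 1) with he
  have he0 : 0 < e := Nat.gcd_pos_of_pos_left _ two_pos
  obtain ⟨a, rfl⟩ := QuotientGroup.mk_surjective x
  have hN0 : 0 < N := by
    have := Fintype.one_lt_card (α := F)
    omega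
  haveI : NeZero N := ⟨hN0.ne'⟩
  have haN : a ^ N = 1 := by
    rw [← hm, mul_comm, pow_mul]
    exact center_pow_gcd (p := p) ((QuotientGroup.eq_one_iff _).mp (by rw [QuotientGroup.mk_pow, hxm]))
  obtain ⟨μ, hμ⟩ := Linear.exists_isEigen a
  have hμ2 : μ ^ 2 ≠ 1 := fun h => hxp (by
    rw [← QuotientGroup.mk_pow, QuotientGroup.eq_one_iff]
    exact (DicksonFull.pow_mem_center_iff (algebraMap F (AlgebraicClosure F)) p
      (nonScalar_linear_psl fun h' => hxp (by rw [h', one_pow])) hμ).mpr h)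
  have hμN : μ ^ N = 1 := orderOf_dvd_iff_pow_eq_one.mp
    (Linear.orderOf_eq_orderOf_eigen hμ hμ2 ▸ orderOf_dvd_of_pow_eq_one haN)
  obtain ⟨b, hb⟩ : ∃ b : SL2, orderOf b = N := by
    rcases hN with rfl | rfl
    · exact Linear.exists_orderOf_eq_card_sub_one
    · exact Linear.exists_orderOf_eq_card_add_one
  have hy : orderOf (b : PSL2) = m := by
    refine Nat.dvd_antisymm (orderOf_dvd_of_pow_eq_one ?_) (Nat.dvd_of_mul_dvd_mul_left he0 ?_)
    · rw [← QuotientGroup.mk_pow, QuotientGroup.eq_one_iff]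
      by_cases h2 : (2 : F) = 0
      · have he1 : e = 1 := by
          rw [he, gcd_two_eq (p := p), if_pos ((Nat.prime_dvd_prime_iff_eq hp.out Nat.prime_two).mp
            ((CharP.cast_eq_zero_iff F p 2).mp (by exact_mod_cast h2)))]
        rw [he1, one_mul] at hm
        rw [hm, ← hb, pow_orderOf_eq_one]
        exact Subgroup.one_mem _
      · have he2 : e = 2 := by
          rw [he, gcd_two_eq (p := p), if_neg]
          rintro rfl
          exact h2 (by exact_mod_cast CharP.cast_eq_zero F 2)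
        rw [he2] at hm
        refine (QuotientGroup.eq_one_iff _).mp (RecogThree.PSL2Orders.toP_of_sq (b ^ m) ?_ h2)
        rw [← pow_add, ← two_mul, hm, ← hb, pow_orderOf_eq_one]
    · rw [hm, ← hb]
      apply orderOf_dvd_of_pow_eq_one
      rw [mul_comm, pow_mul]
      exact center_pow_gcd (p := p) ((QuotientGroup.eq_one_iff _).mp
        (by rw [QuotientGroup.mk_pow, pow_orderOf_eq_one]))
  have hNle : b ^ 2 ≠ 1 := fun h => by
    have h1 := Nat.le_of_dvd two_pos (hb ▸ orderOf_dvd_of_pow_eq_one h)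
    have hd : orderOf μ ∣ N := orderOf_dvd_of_pow_eq_one hμN
    have hμ1 : orderOf μ ∣ 2 := by interval_cases N <;> first | exact hd.trans (one_dvd 2) | exact hd
    exact hμ2 (orderOf_dvd_iff_pow_eq_one.mp hμ1)
  obtain ⟨ν, hν⟩ := Linear.exists_isEigen b
  have hν2 : ν ^ 2 ≠ 1 := by
    intro h
    have h2p := orderOf_dvd_of_pow_eq_one (Linear.pow_two_mul_char_eq_one p hν h)
    rw [hb] at h2p
    have hcop : Nat.Coprime N p := by
      refine ((Nat.Prime.coprime_iff_not_dvd hp.out).mpr fun hd => ?_).symm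
      obtain ⟨f, hf, hq⟩ := exists_card_eq_pow (F := F) p
      have hd' : p ∣ Fintype.card F := hq ▸ dvd_pow_self p hf.ne'
      have h1 := Fintype.one_lt_card (α := F)
      rcases hN with rfl | rfl
      · have := Nat.dvd_sub hd' hd
        rw [Nat.sub_sub_self (by omega)] at this
        exact hp.out.not_dvd_one this
      · exact hp.out.not_dvd_one ((Nat.dvd_add_right hd').mp hd)
    exact hNle (orderOf_dvd_iff_pow_eq_one.mp (hb.symm ▸ hcop.dvd_of_dvd_mul_right h2p))
  have hprim : IsPrimitiveRoot ν N := by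
    rw [← hb, Linear.orderOf_eq_orderOf_eigen hν hν2]
    exact IsPrimitiveRoot.orderOf ν
  obtain ⟨i, -, hi⟩ := hprim.eq_pow_of_pow_eq_one hμN
  set f := algebraMap F (AlgebraicClosure F)
  obtain ⟨v, hv, hbv⟩ := DicksonFull.exists_eigvec f (x := b) (μ := ν) hν
  have hiv : ((slExt f (b ^ i) : Matrix.SpecialLinearGroup (Fin 2) (AlgebraicClosure F)) :
      Matrix (Fin 2) (Fin 2) (AlgebraicClosure F)) *ᵥ v = (ν ^ i) • v := by
    clear hi
    induction i with
    | zero => simp
    | succ i ih =>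
      rw [pow_succ, map_mul, Matrix.SpecialLinearGroup.coe_mul, ← Matrix.mulVec_mulVec, hbv,
        Matrix.mulVec_smul, ih, smul_smul, pow_succ']
  have hze : IsEig f (b ^ i) μ := hi ▸ DicksonFull.eig_of_mulVec f hv hiv
  have htr : Matrix.trace ((b ^ i : SL2) : M2) = Matrix.trace (a : M2) := by
    apply f.injective
    have h1 : IsEig f a μ := hμ
    unfold IsEig at h1 hze
    apply mul_right_cancel₀ (show μ ≠ 0 from hμ.ne_zero)
    linear_combination h1 - hze
  have hz1 : ((b ^ i : SL2) : PSL2) ≠ 1 := fun h => by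
    obtain ⟨c, hc⟩ := (DicksonFull.mem_center_iff_smul _).mp ((QuotientGroup.eq_one_iff _).mp h)
    have hd := sl2_det (b ^ i)
    rw [hc] at hd
    simp at hd
    have h1 := htr
    rw [hc] at h1
    simp at h1
    have hμeq := hμ
    unfold Linear.IsEigen at hμeq
    rw [← h1, map_mul, map_ofNat] at hμeq
    have hc2 : f c * f c = 1 := by rw [← map_mul, hd, map_one]
    have : (μ - f c) ^ 2 = 0 := by linear_combination hμeq + hc2
    apply hμ2
    rw [sub_eq_zero.mp (pow_eq_zero_iff two_ne_zero |>.mp this), pow_two, hc2]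
  obtain ⟨P, hP⟩ := exists_conj_of_trace (p := p) (a := a) (b := b ^ i) hxp hz1 htr
  refine ⟨(P : PSL2)⁻¹ * (b : PSL2) * (P : PSL2), ?_, (i : ℤ), ?_⟩
  · rw [show (P : PSL2)⁻¹ * (b : PSL2) * (P : PSL2) = MulAut.conj (P : PSL2)⁻¹ (b : PSL2) by simp [MulAut.conj_apply],
      MulEquiv.orderOf_eq, hy]
  · show ((P : PSL2)⁻¹ * (b : PSL2) * (P : PSL2)) ^ (i : ℤ) = _
    rw [zpow_natCast]
    have h2 : ((P : PSL2)⁻¹ * (b : PSL2) * (P : PSL2)) ^ i = (P : PSL2)⁻¹ * (b : PSL2) ^ i * (P : PSL2) := by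
      simpa [MulAut.conj_apply] using (map_pow (MulAut.conj (P : PSL2)⁻¹) (b : PSL2) i).symm
    rw [h2, ← QuotientGroup.mk_pow, ← QuotientGroup.mk_inv, ← QuotientGroup.mk_mul, ← QuotientGroup.mk_mul, ← hP]
    congr 1
    group

end Cfsg.Agent.Lib.DicksonId
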