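import Cfsg.Agent.Lib.DicksonId.Classify
import Cfsg.Agent.Lib.RecogThree.PSL2Orders

/-!
Orders of the cyclic parts and isomorphism types in Dickson's list.
-/

set_option autoImplicit false

namespace Cfsg.Agent.Lib.DicksonId

open Matrix Cfsg.Agent.Lib.Linear
open Cfsg.Agent.Lib.DicksonFull (pslExt)
open Cfsg.Agent.Lib.RecogThree.PSL2Orders (dd orderOf_cases)

variable {F : Type*} [Field F] [Fintype F] {p : ℕ} [hp : Fact p.Prime] [CharP F p]

local notation "PSL2" => Matrix.ProjectiveSpecialLinearGroup (Fin 2) F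

include hp in
omit [CharP F p] in
theorem dd_eq_gcd [CharP F p] : dd (Fintype.card F) = Nat.gcd 2 (Fintype.card F - 1) := by
  obtain ⟨f, hf, hq⟩ := exists_card_eq_pow (F := F) p
  rw [gcd_two_eq (p := p), dd, hq]
  by_cases h : p = 2
  · rw [if_pos h, if_pos (by rw [h]; exact dvd_pow_self 2 hf.ne')]
  · rw [if_neg h, if_neg fun hd => h ((Nat.prime_dvd_prime_iff_eq Nat.prime_two hp.out).mp
      (Nat.prime_two.dvd_of_dvd_pow hd)).symm]

/-- Orders of elements prime to `p`. -/
theorem orderOf_dvd_of_not_dvd {x : PSL2} (h : ¬ p ∣ orderOf x) :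
    orderOf x ∣ (Fintype.card F + 1) / Nat.gcd 2 (Fintype.card F - 1) ∨
      orderOf x ∣ (Fintype.card F - 1) / Nat.gcd 2 (Fintype.card F - 1) := by
  rw [← dd_eq_gcd (p := p)]
  rcases orderOf_cases p x with e | e | e
  · rcases (Nat.dvd_prime hp.out).mp e with e' | e'
    · exact Or.inl (by rw [e']; exact one_dvd _)
    · exact absurd e'.symm.dvd h
  · exact Or.inr e
  · exact Or.inl e

/-- A subfield group is isomorphic to `PSL(2, K)` or to `PGL(2, K)`. -/
theorem IsSubfieldGroup.nonempty_equiv {G : Subgroup PSL2} {k : ℕ} (h : IsSubfieldGroup p G k) :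
    ∃ m, Nat.card (GaloisField p k) ^ m = Fintype.card F ∧
      (Nonempty (G ≃* Matrix.ProjectiveSpecialLinearGroup (Fin 2) (GaloisField p k)) ∨
        Nonempty (G ≃* Matrix.ProjGenLinGroup (Fin 2) (GaloisField p k))) := by
  obtain ⟨hk, -, hdvd, g, φ, hφ⟩ := h
  obtain ⟨f, hf, hq⟩ := exists_card_eq_pow (F := F) p
  obtain ⟨m, hm⟩ := hdvd f hq
  refine ⟨m, by rw [GaloisField.card p k hk.ne', ← pow_mul, ← hm, hq], ?_⟩
  rcases hφ with e | ⟨-, -, ψ, hψ, e⟩
  · exact Or.inl ⟨(conjGEquiv g G).trans ((MulEquiv.subgroupCongr e).trans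
      (MonoidHom.ofInjective (DicksonFull.pslExt_injective φ)).symm)⟩
  · exact Or.inr ⟨(conjGEquiv g G).trans ((MulEquiv.subgroupCongr e).trans
      (MonoidHom.ofInjective hψ.injective).symm)⟩

end Cfsg.Agent.Lib.DicksonId
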