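import Cfsg.Agent.Lib.DicksonId.Exclude

/-!
The maximal subgroups of `PSL(2, q)`, `q` odd, of each isomorphism type in Dickson's list.
-/

set_option autoImplicit false

namespace Cfsg.Agent.Lib.DicksonId

open Matrix Cfsg.Agent.Lib.Linear
open Cfsg.Agent.Lib.DicksonFull (pslExt slExt)

variable {F : Type*} [Field F] [Fintype F] {p : ℕ} [hp : Fact p.Prime] [CharP F p]

local notation "SL2" => Matrix.SpecialLinearGroup (Fin 2) F
local notation "M2" => Matrix (Fin 2) (Fin 2) F
local notation "PSL2" => Matrix.ProjectiveSpecialLinearGroup (Fin 2) F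

theorem lt_card_PSL (hp2 : p ≠ 2) {n b : ℕ} (hb : 2 ≤ b) (hle : b ≤ Fintype.card F)
    (hn : 2 * n < b * ((b - 1) * (b + 1))) : n < Nat.card PSL2 := by
  have h := two_mul_card_PSL (F := F) hp2
  have h' := Nat.mul_le_mul hle (Nat.mul_le_mul (Nat.sub_le_sub_right hle 1) (Nat.add_le_add_right hle 1))
  omega

/-- A maximal subgroup conjugate into a larger subfield group. -/
theorem false_of_subfield (hp2 : p ≠ 2) {M : Subgroup PSL2} (hM : IsCoatom M) {k : ℕ} (hk : 0 < k)
    {φ : GaloisField p k →+* F} {g : GL (Fin 2) F} (hle : conjG g M ≤ (pslExt φ).range)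
    (h1 : 2 * Nat.card M < p ^ k * ((p ^ k - 1) * (p ^ k + 1))) (h2 : p ^ k < Fintype.card F) : False := by
  have hc := two_mul_card_range hp2 hk φ
  have hc' := two_mul_card_PSL (F := F) hp2
  refine false_of_conj_le hM g hle (by omega) ?_
  have := form_strictMono (Nat.one_le_pow k p hp.out.pos) h2
  omega

omit [Fintype F] hp [CharP F p] in
theorem card_of_equiv_alt_four {G : Subgroup PSL2} (h : Nonempty (G ≃* alternatingGroup (Fin 4))) :
    Nat.card G = 12 := by
  obtain ⟨e⟩ := h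
  rw [Nat.card_congr e.toEquiv, nat_card_alternatingGroup, Nat.card_fin]; rfl

omit [Fintype F] hp [CharP F p] in
theorem card_of_equiv_perm_four {G : Subgroup PSL2} (h : Nonempty (G ≃* Equiv.Perm (Fin 4))) :
    Nat.card G = 24 := by
  obtain ⟨e⟩ := h
  rw [Nat.card_congr e.toEquiv, Nat.card_perm, Nat.card_fin]; rfl

omit [Fintype F] hp [CharP F p] in
theorem card_of_equiv_alt_five {G : Subgroup PSL2} (h : Nonempty (G ≃* alternatingGroup (Fin 5))) :
    Nat.card G = 60 := by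
  obtain ⟨e⟩ := h
  rw [Nat.card_congr e.toEquiv, nat_card_alternatingGroup, Nat.card_fin]; rfl

theorem five_le_prime {n : ℕ} (h6 : 6 ∣ n) (hn : ¬ p ∣ n) : 5 ≤ p := by
  have h2 := hp.out.two_le
  by_contra hlt
  have hpp := hp.out
  interval_cases p
  · exact hn (dvd_trans (by norm_num) h6)
  · exact hn (dvd_trans (by norm_num) h6)
  · norm_num at hpp

/-- `2` is a square. -/
theorem exists_sqrt_two (h2 : (2 : F) ≠ 0) (h : Fintype.card F % 8 = 1 ∨ Fintype.card F % 8 = 7) :
    ∃ r : F, r ^ 2 = 2 := by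
  obtain ⟨r, hr⟩ := (FiniteField.isSquare_two_iff (F := F)).mpr (by omega)
  exact ⟨r, by rw [hr, pow_two]⟩

/-- Maximal tetrahedral subgroups. -/
theorem max_alt_four {M : Subgroup PSL2} (hM : IsCoatom M)
    (he : Nonempty (M ≃* alternatingGroup (Fin 4))) (hpM : ¬ p ∣ Nat.card M) :
    Fintype.card F = p ∧ (p % 8 = 3 ∨ p % 8 = 5) ∧ ¬ (p % 10 = 1 ∨ p % 10 = 9) := by
  have hcard := card_of_equiv_alt_four he
  have hp5 : 5 ≤ p := five_le_prime (by rw [hcard]; norm_num : 6 ∣ Nat.card M) hpM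
  have hp2 : p ≠ 2 := by omega
  have h2 : (2 : F) ≠ 0 := two_ne_zero_of_char (p := p) hp2
  have h3 : (1 : F) ^ 2 ≠ 3 := fun h => h2 (by linear_combination (-1) * h)
  have hpair := hasPair_alt_four he
  obtain ⟨f, hf, hq⟩ := exists_card_eq_pow (F := F) p
  have hf1 : f = 1 := by
    by_contra hne
    letI : Fintype (GaloisField p 1) := Fintype.ofFinite _
    obtain ⟨φ⟩ := exists_emb (p := p) one_pos hq (one_dvd f)
    have hpair' : HasPair M (φ 1) := by rwa [map_one]
    obtain ⟨g, hg⟩ := hpair'.exists_conj_le h2 φ (by rwa [map_one])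
    refine false_of_subfield hp2 hM one_pos hg ?_ ?_
    · have := Nat.mul_le_mul hp5 (Nat.mul_le_mul (show 4 ≤ p - 1 by omega) (show 6 ≤ p + 1 by omega))
      rw [hcard, pow_one]; omega
    · rw [hq]; exact Nat.pow_lt_pow_right hp.out.one_lt (by omega)
  subst hf1
  rw [pow_one] at hq
  have hodd : p % 2 = 1 := Nat.odd_iff.mp (hp.out.odd_of_ne_two hp2)
  have no : ∀ A X : Subgroup PSL2, HasPair A 1 → A ≤ X → 12 < Nat.card X →
      Nat.card X < Nat.card PSL2 → False := fun A X hA hAX h4 h5 => by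
    obtain ⟨g, hg⟩ := hpair.exists_conj h2 h3 hA
    exact false_of_conj_le hM g (hg ▸ hAX) (by omega) h5
  refine ⟨hq, ?_, ?_⟩
  · by_contra h8
    obtain ⟨r, hr⟩ := exists_sqrt_two h2 (by omega)
    obtain ⟨φ, hφ⟩ := DicksonFull.exists_perm_four h2 hr
    obtain ⟨A, hA, hA'⟩ := exists_tetra_of_perm φ hφ
    have hX := card_of_equiv_perm_four (G := φ.range) ⟨(MonoidHom.ofInjective hφ).symm⟩
    refine no A _ hA' hA (by omega) (lt_card_PSL (b := 5) hp2 (by norm_num) (by omega) (by omega))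
  · intro h10
    obtain ⟨r, hr⟩ := isSquare_five h2 (by omega)
    obtain ⟨φ, hφ⟩ := DicksonFull.exists_alt_five h2 hr
    obtain ⟨A, hA, hA'⟩ := exists_tetra_of_alt φ hφ
    have hX := card_of_equiv_alt_five (G := φ.range) ⟨(MonoidHom.ofInjective hφ).symm⟩
    refine no A _ hA' hA (by omega) (lt_card_PSL (b := 7) hp2 (by norm_num) (by omega) (by omega))

/-- `k` divides `(q ± 1)/2` for an element of order `k` prime to `p`. -/
theorem dvd_half (hp2 : p ≠ 2) {x : PSL2} (hx : ¬ p ∣ orderOf x) :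
    2 * orderOf x ∣ Fintype.card F - 1 ∨ 2 * orderOf x ∣ Fintype.card F + 1 := by
  obtain ⟨f, -, hq⟩ := exists_card_eq_pow (F := F) p
  have hodd : Fintype.card F % 2 = 1 := hq ▸ Nat.odd_iff.mp (hp.out.odd_of_ne_two hp2).pow
  rcases orderOf_dvd_of_not_dvd (p := p) hx with h | h <;>
    rw [gcd_two_eq (p := p), if_neg hp2] at h
  · exact Or.inr ((Nat.mul_dvd_mul_left 2 h).trans (dvd_of_eq (by omega)))
  · exact Or.inl ((Nat.mul_dvd_mul_left 2 h).trans (dvd_of_eq (by omega)))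

omit [Fintype F] hp [CharP F p] in
theorem exists_orderOf_image {H : Type*} [Group H] {M : Subgroup PSL2} (e : M ≃* H) (a : H) :
    ∃ x ∈ M, orderOf x = orderOf a :=
  ⟨(e.symm a : PSL2), (e.symm a).2, by rw [Subgroup.orderOf_coe, MulEquiv.orderOf_eq]⟩

theorem pow_mod_eight {f : ℕ} (hp2 : p ≠ 2) : p ^ f % 8 = if Even f then 1 else p % 8 := by
  have hodd : p % 2 = 1 := Nat.odd_iff.mp (hp.out.odd_of_ne_two hp2)
  have hsq : p ^ 2 % 8 = 1 := by
    rw [Nat.pow_mod]
    have : p % 8 = 1 ∨ p % 8 = 3 ∨ p % 8 = 5 ∨ p % 8 = 7 := by omega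
    rcases this with e | e | e | e <;> rw [e]
  rcases Nat.even_or_odd f with ⟨t, rfl⟩ | ⟨t, rfl⟩
  · rw [if_pos ⟨t, rfl⟩, show t + t = 2 * t by ring, pow_mul, Nat.pow_mod, hsq, one_pow, Nat.one_mod]
  · rw [if_neg (by simp [Nat.even_add_one]), pow_succ, pow_mul, Nat.mul_mod, Nat.pow_mod, hsq, one_pow]
    omega

/-- Maximal octahedral subgroups. -/
theorem max_perm_four {M : Subgroup PSL2} (hM : IsCoatom M)
    (he : Nonempty (M ≃* Equiv.Perm (Fin 4))) (hpM : ¬ p ∣ Nat.card M) :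
    Fintype.card F = p ∧ (p % 8 = 1 ∨ p % 8 = 7) := by
  have hcard := card_of_equiv_perm_four he
  have hp5 : 5 ≤ p := five_le_prime (by rw [hcard]; norm_num : 6 ∣ Nat.card M) hpM
  have hp2 : p ≠ 2 := by omega
  have h2 : (2 : F) ≠ 0 := two_ne_zero_of_char (p := p) hp2
  obtain ⟨f, hf, hq⟩ := exists_card_eq_pow (F := F) p
  obtain ⟨r, hr, hpair⟩ := hasPair_perm_four he
  have hr3 : r ^ 2 ≠ 3 := fun h => by
    rw [hr] at h
    exact one_ne_zero (α := F) (by linear_combination (-1) * h)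
  have h8 : Fintype.card F % 8 = 1 ∨ Fintype.card F % 8 = 7 := by
    obtain ⟨e⟩ := he
    have ho : orderOf (Equiv.swap (0 : Fin 4) 1 * (Equiv.swap 1 2 * Equiv.swap 2 3)) = 4 := by
      haveI : Fact (Nat.Prime 2) := ⟨Nat.prime_two⟩
      exact orderOf_eq_prime_pow (p := 2) (n := 1) (by decide +kernel) (by decide +kernel)
    obtain ⟨x, -, hx⟩ := exists_orderOf_image e (Equiv.swap (0 : Fin 4) 1 * (Equiv.swap 1 2 * Equiv.swap 2 3))
    rw [ho] at hx
    rcases dvd_half hp2 (x := x) (fun hd => by rw [hx] at hd; exact absurd (Nat.le_of_dvd (by norm_num) hd) (by omega))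
      with h | h <;> rw [hx] at h <;> (have := Fintype.card_pos (α := F); omega)
  -- the field of `√2`
  by_cases hsq : p % 8 = 1 ∨ p % 8 = 7
  · refine ⟨?_, hsq⟩
    by_contra hne
    have hf1 : f ≠ 1 := fun h => hne (by rw [hq, h, pow_one])
    letI : Fintype (GaloisField p 1) := Fintype.ofFinite _
    obtain ⟨φ⟩ := exists_emb (p := p) one_pos hq (one_dvd f)
    obtain ⟨s, hs⟩ := exists_sqrt_two (F := GaloisField p 1) (two_ne_zero_of_char (p := p) hp2)
      (by rw [card_galois one_pos, pow_one]; exact hsq)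
    obtain ⟨t, rfl⟩ := exists_preimage_of_sq φ (n := 2) (by exact_mod_cast hr) (by exact_mod_cast hs)
    obtain ⟨g, hg⟩ := hpair.exists_conj_le h2 φ hr3
    refine false_of_subfield hp2 hM one_pos hg ?_ ?_
    · have := Nat.mul_le_mul hp5 (Nat.mul_le_mul (show 4 ≤ p - 1 by omega) (show 6 ≤ p + 1 by omega))
      rw [hcard, pow_one]; omega
    · rw [hq]; exact Nat.pow_lt_pow_right hp.out.one_lt (by omega)
  exfalso
  have hp8 := pow_mod_eight (p := p) (f := f) hp2
  have hev : Even f := by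
    by_contra hodd
    rw [if_neg hodd] at hp8
    rw [hq] at h8
    omega
  obtain ⟨t, rfl⟩ := hev
  rcases Nat.lt_or_ge t 2 with ht | ht
  · -- the octahedral groups over the quadratic extension lie in `PGL`
    obtain rfl : t = 1 := by omega
    letI : Fintype (GaloisField p 1) := Fintype.ofFinite _
    obtain ⟨φ⟩ := exists_emb (p := p) one_pos hq (one_dvd _)
    obtain ⟨ψ, hψ⟩ := exists_isPglHom φ (isSquare_emb hp2 one_pos hq (dvd_refl 2) φ)
    obtain ⟨A, hA, hA'⟩ := exists_octa_in_pgl h2 hψ hr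
    obtain ⟨g, hg⟩ := hpair.exists_conj h2 hr3 hA'
    have hc := card_pgl_range hψ
    rw [card_galois one_pos, pow_one] at hc
    have h5 := Nat.mul_le_mul hp5 (Nat.mul_le_mul (show 4 ≤ p - 1 by omega) (show 6 ≤ p + 1 by omega))
    refine false_of_conj_le hM g (hg ▸ hA) (by omega) ?_
    refine lt_card_PSL (b := p ^ 2) hp2 (by nlinarith) (le_of_eq (by rw [hq])) ?_
    have hp2le : 2 * p ≤ p ^ 2 := by nlinarith
    have h6 : (p - 1) * (p + 1) ≤ (p ^ 2 - 1) * 1 := by
      have := Nat.sq_sub_sq p 1; rw [one_pow] at this; rw [this, mul_one, mul_comm]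
    calc 2 * Nat.card ψ.range = (2 * p) * ((p - 1) * (p + 1)) := by rw [hc]; ring
      _ ≤ p ^ 2 * ((p ^ 2 - 1) * 1) := Nat.mul_le_mul hp2le h6
      _ < p ^ 2 * ((p ^ 2 - 1) * (p ^ 2 + 1)) := by
          refine Nat.mul_lt_mul_of_pos_left (Nat.mul_lt_mul_of_pos_left (by nlinarith) ?_) (by positivity)
          have : 4 ≤ p ^ 2 := by nlinarith
          omega
  · letI : Fintype (GaloisField p 2) := Fintype.ofFinite _
    obtain ⟨φ⟩ := exists_emb (p := p) two_pos hq ⟨t, by ring⟩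
    obtain ⟨s, hs⟩ := exists_sqrt_two (F := GaloisField p 2) (two_ne_zero_of_char (p := p) hp2) (by
      rw [card_galois two_pos, pow_mod_eight (p := p) hp2, if_pos even_two]; exact Or.inl rfl)
    obtain ⟨u, rfl⟩ := exists_preimage_of_sq φ (n := 2) (by exact_mod_cast hr) (by exact_mod_cast hs)
    obtain ⟨g, hg⟩ := hpair.exists_conj_le h2 φ hr3
    refine false_of_subfield hp2 hM two_pos hg ?_ ?_
    · have h25 : 25 ≤ p ^ 2 := by nlinarith
      have := Nat.mul_le_mul h25 (Nat.mul_le_mul (show 24 ≤ p ^ 2 - 1 by omega) (show 26 ≤ p ^ 2 + 1 by omega))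
      rw [hcard]; omega
    · rw [hq]; exact Nat.pow_lt_pow_right hp.out.one_lt (by omega)

theorem pow_mod_five {f : ℕ} (h : p % 5 = 2 ∨ p % 5 = 3) (hf : ¬ Even f) :
    p ^ f % 5 = 2 ∨ p ^ f % 5 = 3 := by
  obtain ⟨t, rfl⟩ := Nat.not_even_iff_odd.mp hf
  rw [pow_succ, pow_mul, Nat.mul_mod, Nat.pow_mod, Nat.pow_mod p 2]
  have ht : 4 ^ t % 5 = 1 ∨ 4 ^ t % 5 = 4 := by
    clear hf
    induction t with
    | zero => left; rfl
    | succ t ih => rw [pow_succ, Nat.mul_mod]; rcases ih with e | e <;> rw [e] <;> simp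
  rcases h with e | e <;> rw [e] <;> norm_num <;> rw [Nat.mul_mod] <;> rcases ht with e' | e' <;> rw [e'] <;> norm_num

/-- Maximal icosahedral subgroups. -/
theorem max_alt_five {M : Subgroup PSL2} (hM : IsCoatom M)
    (he : Nonempty (M ≃* alternatingGroup (Fin 5))) (hpM : ¬ p ∣ Nat.card M ∨ p = 3) :
    (Fintype.card F % 10 = 1 ∨ Fintype.card F % 10 = 9) ∧
      (Fintype.card F = p ∨ (Fintype.card F = p ^ 2 ∧ (p % 10 = 3 ∨ p % 10 = 7))) := by
  have hcard := card_of_equiv_alt_five he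
  have hp3 : 3 ≤ p ∧ p ≠ 5 := by
    rcases hpM with h | rfl
    · have := five_le_prime (by rw [hcard]; norm_num : 6 ∣ Nat.card M) h
      exact ⟨by omega, fun e => h (by rw [e, hcard]; norm_num)⟩
    · omega
  have hp2 : p ≠ 2 := by omega
  have hodd : p % 2 = 1 := Nat.odd_iff.mp (hp.out.odd_of_ne_two hp2)
  have h2 : (2 : F) ≠ 0 := two_ne_zero_of_char (p := p) hp2
  obtain ⟨f, hf, hq⟩ := exists_card_eq_pow (F := F) p
  obtain ⟨τ, hτ, hpair⟩ := hasPair_alt_five he
  have hτ3 : τ ^ 2 ≠ 3 := fun h => one_ne_zero (α := F) (by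
    have hτ2 : τ = 2 := by linear_combination h - hτ
    rw [hτ2] at h
    linear_combination h)
  have h10 : Fintype.card F % 10 = 1 ∨ Fintype.card F % 10 = 9 := by
    obtain ⟨e⟩ := he
    haveI : Fact (Nat.Prime 5) := ⟨by norm_num⟩
    obtain ⟨a, ha⟩ := exists_prime_orderOf_dvd_card' (G := alternatingGroup (Fin 5)) 5
      (by rw [nat_card_alternatingGroup, Nat.card_fin]; decide)
    obtain ⟨x, -, hx⟩ := exists_orderOf_image e a
    rw [ha] at hx
    rcases dvd_half hp2 (x := x) (fun hd => by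
        rw [hx] at hd
        exact hp3.2 ((Nat.prime_dvd_prime_iff_eq hp.out (by norm_num)).mp hd)) with h | h <;>
      rw [hx] at h <;> (have := Fintype.card_pos (α := F); omega)
  refine ⟨h10, ?_⟩
  have hp5 : p % 5 ≠ 0 := fun h => hp3.2 ((Nat.prime_dvd_prime_iff_eq (by norm_num) hp.out).mp
    (Nat.dvd_of_mod_eq_zero h)).symm
  -- conjugate into the field of `√5`
  have key : ∀ k, 0 < k → k ∣ f → (p ^ k % 5 = 1 ∨ p ^ k % 5 = 4) →
      120 < p ^ k * ((p ^ k - 1) * (p ^ k + 1)) → f = k := by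
    intro k hk hkf hk5 hbig
    by_contra hne
    letI : Fintype (GaloisField p k) := Fintype.ofFinite _
    obtain ⟨φ⟩ := exists_emb (p := p) hk hq hkf
    have h2K : (2 : GaloisField p k) ≠ 0 := two_ne_zero_of_char (p := p) hp2
    obtain ⟨s, hs⟩ := isSquare_five h2K (by rw [card_galois hk]; exact hk5)
    obtain ⟨u, hu⟩ := exists_preimage_of_sq φ (r := 2 * τ - 1) (n := 5)
      (by push_cast; linear_combination 4 * hτ) (by exact_mod_cast hs)
    obtain ⟨t, rfl⟩ : ∃ t, φ t = τ := ⟨(u + 1) / 2, by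
      rw [map_div₀, map_add, hu, map_one, map_ofNat]; field_simp; ring⟩
    obtain ⟨g, hg⟩ := hpair.exists_conj_le h2 φ hτ3
    refine false_of_subfield hp2 hM hk hg (by omega) ?_
    rw [hq]
    exact Nat.pow_lt_pow_right hp.out.one_lt
      (lt_of_le_of_ne (Nat.le_of_dvd hf hkf) (Ne.symm hne))
  rcases (show (p % 5 = 1 ∨ p % 5 = 4) ∨ (p % 5 = 2 ∨ p % 5 = 3) by omega) with h5 | h5
  · left
    have hp11 : 11 ≤ p := by
      have := hp.out
      by_contra hlt
      interval_cases p <;> first | omega | norm_num at this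
    have := key 1 one_pos (one_dvd f) (by rwa [pow_one]) (by
      rw [pow_one]
      have := Nat.mul_le_mul hp11 (Nat.mul_le_mul (show 10 ≤ p - 1 by omega) (show 12 ≤ p + 1 by omega))
      omega)
    rw [hq, this, pow_one]
  · right
    have hev : Even f := by
      by_contra hodd'
      have := pow_mod_five h5 hodd'
      rw [← hq] at this
      omega
    have h9 : 9 ≤ p ^ 2 := by
      have := hp3.1
      nlinarith
    have := key 2 two_pos hev.two_dvd (by
      rw [Nat.pow_mod]; rcases h5 with e | e <;> rw [e] <;> simp) (by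
        have := Nat.mul_le_mul h9 (Nat.mul_le_mul (show 8 ≤ p ^ 2 - 1 by omega) (show 10 ≤ p ^ 2 + 1 by omega))
        omega)
    refine ⟨by rw [hq, this], ?_⟩
    omega

end Cfsg.Agent.Lib.DicksonId
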