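import Cfsg.Agent.Lib.DicksonId.MaxCommon

/-!
Squares of small integers and orders of subfield groups, `q` odd.
-/

set_option autoImplicit false

namespace Cfsg.Agent.Lib.DicksonId

open Matrix Cfsg.Agent.Lib.Linear
open Cfsg.Agent.Lib.DicksonFull (pslExt slExt)

variable {F : Type*} [Field F] [Fintype F] {p : ℕ} [hp : Fact p.Prime] [CharP F p]

local notation "SL2" => Matrix.SpecialLinearGroup (Fin 2) F
local notation "M2" => Matrix (Fin 2) (Fin 2) F
local notation "PSL2" => Matrix.ProjectiveSpecialLinearGroup (Fin 2) F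

omit hp [CharP F p] in
theorem ringChar_ne_two (h2 : (2 : F) ≠ 0) : ringChar F ≠ 2 := fun hc => h2 (by
  have := ringChar.Nat.cast_ringChar (R := F)
  rw [hc] at this
  exact_mod_cast this)

/-- `5` is a square when `q ≡ ±1 (mod 5)`. -/
theorem isSquare_five (h2 : (2 : F) ≠ 0) (h5 : Fintype.card F % 5 = 1 ∨ Fintype.card F % 5 = 4) :
    ∃ r : F, r ^ 2 = 5 := by
  haveI : Fact (Nat.Prime 5) := ⟨by norm_num⟩
  have hodd : Fintype.card F % 2 = 1 := FiniteField.odd_card_of_char_ne_two (ringChar_ne_two h2)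
  have key : IsSquare ((5 : ℕ) : F) := by
    rw [FiniteField.isSquare_odd_prime_iff (ringChar_ne_two h2) (by norm_num : 5 ≠ 2),
      ZMod.χ₄_nat_mod_four, ← ZMod.natCast_mod (Fintype.card F) 5]
    rcases (show Fintype.card F % 4 = 1 ∨ Fintype.card F % 4 = 3 by omega) with e4 | e4 <;>
      rcases h5 with e5 | e5 <;> rw [e4, e5] <;>
      decide +kernel +revert
  obtain ⟨r, hr⟩ := key
  exact ⟨r, by rw [pow_two, ← hr]; norm_num⟩

/-- A square in a subfield. -/
theorem exists_preimage_of_sq {K : Type*} [Field K] (φ : K →+* F) {s : K} {r : F} {n : ℕ}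
    (hr : r ^ 2 = (n : F)) (hs : s ^ 2 = (n : K)) : ∃ t : K, φ t = r := by
  rcases sq_eq_sq_iff_eq_or_eq_neg.mp (show φ s ^ 2 = r ^ 2 by rw [← map_pow, hs, map_natCast, hr]) with e | e
  · exact ⟨s, e⟩
  · exact ⟨-s, by rw [map_neg, e, neg_neg]⟩

omit [Fintype F] in
theorem card_galois {k : ℕ} (hk : 0 < k) [Fintype (GaloisField p k)] :
    Fintype.card (GaloisField p k) = p ^ k := by
  rw [← Nat.card_eq_fintype_card, GaloisField.card p k hk.ne']

/-- A subfield of each order dividing. -/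
theorem exists_emb {f k : ℕ} (hk : 0 < k) (hq : Fintype.card F = p ^ f) (hd : k ∣ f) :
    Nonempty (GaloisField p k →+* F) := by
  obtain ⟨r, rfl⟩ := hd
  letI : Fintype (GaloisField p k) := Fintype.ofFinite _
  exact DicksonFull.exists_ringHom (card_galois hk) hq

/-- Every element of the subfield is a square when the degree is even over it. -/
theorem isSquare_emb (hp2 : p ≠ 2) {f k : ℕ} (hk : 0 < k) (hq : Fintype.card F = p ^ f) (hd : 2 * k ∣ f)
    (φ : GaloisField p k →+* F) (a : GaloisField p k) : IsSquare (φ a) := by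
  letI : Fintype (GaloisField p k) := Fintype.ofFinite _
  rcases eq_or_ne a 0 with rfl | ha
  · exact ⟨0, by simp⟩
  have h2 : (2 : F) ≠ 0 := fun h => hp2 ((Nat.prime_dvd_prime_iff_eq hp.out Nat.prime_two).mp
    ((CharP.cast_eq_zero_iff F p 2).mp (by exact_mod_cast h)))
  rw [FiniteField.isSquare_iff (ringChar_ne_two h2) ((map_ne_zero φ).mpr ha), ← map_pow]
  suffices h : p ^ k - 1 ∣ Fintype.card F / 2 by
    obtain ⟨m, hm⟩ := h
    rw [hm, pow_mul, ← card_galois (p := p) hk, FiniteField.pow_card_sub_one_eq_one a ha, one_pow, map_one]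
  obtain ⟨r, rfl⟩ := hd
  have hodd : p ^ k % 2 = 1 := Nat.odd_iff.mp (hp.out.odd_of_ne_two hp2).pow
  have hoddF : Fintype.card F % 2 = 1 := hq ▸ Nat.odd_iff.mp (hp.out.odd_of_ne_two hp2).pow
  have h1 : (p ^ k - 1) * 2 ∣ (p ^ k) ^ 2 - 1 := by
    rw [show (p ^ k) ^ 2 - 1 = (p ^ k + 1) * (p ^ k - 1) by
      have := Nat.sq_sub_sq (p ^ k) 1; rw [one_pow] at this; exact this, mul_comm (p ^ k + 1)]
    exact Nat.mul_dvd_mul_left _ (by omega)
  have h2' : (p ^ k) ^ 2 - 1 ∣ Fintype.card F - 1 := by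
    rw [hq, show 2 * k * r = k * 2 * r by ring, pow_mul, pow_mul]
    exact Nat.sub_one_dvd_pow_sub_one _ r
  obtain ⟨m, hm⟩ := h1.trans h2'
  have : Fintype.card F / 2 = (p ^ k - 1) * m := by
    rw [mul_assoc, mul_left_comm] at hm
    omega
  exact Dvd.intro m this.symm

/-- Conversely. -/
theorem even_of_isSquare_emb (hp2 : p ≠ 2) {f k : ℕ} (hk : 0 < k) (hq : Fintype.card F = p ^ f)
    (hkf : k ∣ f) (φ : GaloisField p k →+* F) (hs : ∀ a, IsSquare (φ a)) : 2 * k ∣ f := by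
  letI : Fintype (GaloisField p k) := Fintype.ofFinite _
  obtain ⟨r, rfl⟩ := hkf
  rcases Nat.even_or_odd r with ⟨t, rfl⟩ | ⟨t, rfl⟩
  · exact ⟨t, by ring⟩
  exfalso
  obtain ⟨γ, hγ⟩ := IsCyclic.exists_ofOrder_eq_natCard (α := (GaloisField p k)ˣ)
  rw [Nat.card_units, GaloisField.card p k hk.ne'] at hγ
  obtain ⟨s, hsq⟩ := hs (γ : GaloisField p k)
  have hs0 : s ≠ 0 := fun h => by
    rw [h, mul_zero, map_eq_zero] at hsq
    exact γ.ne_zero hsq
  set q := p ^ k
  have hodd : q % 2 = 1 := Nat.odd_iff.mp (hp.out.odd_of_ne_two hp2).pow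
  have hoddF : Fintype.card F % 2 = 1 := hq ▸ Nat.odd_iff.mp (hp.out.odd_of_ne_two hp2).pow
  have hdvd : q - 1 ∣ Fintype.card F / 2 := by
    rw [← hγ, ← orderOf_units]
    apply orderOf_dvd_of_pow_eq_one
    apply φ.injective
    rw [map_pow, hsq, map_one, ← pow_two, ← pow_mul, show 2 * (Fintype.card F / 2) = Fintype.card F - 1 by omega,
      FiniteField.pow_card_sub_one_eq_one s hs0]
  have h1 : (q - 1) * 2 ∣ Fintype.card F - 1 := by
    rw [show Fintype.card F - 1 = Fintype.card F / 2 * 2 by omega]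
    exact Nat.mul_dvd_mul_right hdvd 2
  rw [hq, pow_mul, pow_succ, pow_mul] at h1
  have hsq1 : (q - 1) * 2 ∣ q ^ 2 - 1 := by
    rw [show q ^ 2 - 1 = (q + 1) * (q - 1) by
      have := Nat.sq_sub_sq q 1; rw [one_pow] at this; exact this, mul_comm (q + 1)]
    exact Nat.mul_dvd_mul_left _ (by omega)
  have h2 : (q - 1) * 2 ∣ (q ^ 2) ^ t - 1 := hsq1.trans (Nat.sub_one_dvd_pow_sub_one _ t)
  have hpos : 1 ≤ (q ^ 2) ^ t := Nat.one_le_pow _ _ (Nat.pow_pos (by omega))
  have h3 : (q ^ 2) ^ t * q - 1 = ((q ^ 2) ^ t - 1) * q + (q - 1) := by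
    obtain ⟨w, hw⟩ : ∃ w, (q ^ 2) ^ t = w + 1 := ⟨_, (Nat.sub_add_cancel hpos).symm⟩
    rw [hw, Nat.add_sub_cancel, add_mul, one_mul]
    omega
  rw [h3] at h1
  have h4 := (Nat.dvd_add_right (dvd_mul_of_dvd_left h2 q)).mp h1
  have hq3 : 2 ≤ q := hp.out.two_le.trans (Nat.le_self_pow hk.ne' p)
  have := Nat.le_of_dvd (by omega) h4
  omega

omit hp [CharP F p] in
theorem card_pgl_range {K : Type*} [Field K] [Fintype K] {φ : K →+* F}
    {ψ : Matrix.ProjGenLinGroup (Fin 2) K →* PSL2} (hψ : IsPglHom φ ψ) :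
    Nat.card ψ.range = Fintype.card K * ((Fintype.card K - 1) * (Fintype.card K + 1)) := by
  rw [← Nat.card_congr (MonoidHom.ofInjective hψ.injective).toEquiv, Linear.card_PGL_eq_card_SL,
    card_SL_two, mul_assoc]

/-- The `PGL` over a subfield lies in the `PSL` over its quadratic extension. -/
theorem pgl_range_le (hp2 : p ≠ 2) {k : ℕ} (hk : 0 < k) (φ : GaloisField p k →+* F)
    (φ' : GaloisField p (2 * k) →+* F)
    {ψ : Matrix.ProjGenLinGroup (Fin 2) (GaloisField p k) →* PSL2} (hψ : IsPglHom φ ψ) :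
    ψ.range ≤ (pslExt φ').range := by
  intro y hy
  obtain ⟨x, g, c, hx, rfl⟩ := hψ.surj y hy
  have hsub := range_le_range (p := p) (k := k) (k' := 2 * k) (by omega) (dvd_mul_left k 2) φ φ'
  have hc : c ∈ Set.range φ' := by
    letI : Fintype (GaloisField p k) := Fintype.ofFinite _
    letI : Fintype (GaloisField p (2 * k)) := Fintype.ofFinite _
    set δ := (g : Matrix (Fin 2) (Fin 2) (GaloisField p k)).det
    have hdet : c * c * φ δ = 1 := by
      have h1 : (x : M2).det = 1 := x.2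
      rw [hx, Matrix.det_smul, Fintype.card_fin, pow_two, ← RingHom.mapMatrix_apply, ← RingHom.map_det] at h1
      exact h1
    have hδ : δ ≠ 0 := GeneralLinearGroup.det_ne_zero g
    obtain ⟨d, hd⟩ := hsub ⟨δ⁻¹, rfl⟩
    have hsq : IsSquare d := by
      have h2 : (2 : GaloisField p (2 * k)) ≠ 0 := fun h => hp2
        ((Nat.prime_dvd_prime_iff_eq hp.out Nat.prime_two).mp
          ((CharP.cast_eq_zero_iff (GaloisField p (2 * k)) p 2).mp (by exact_mod_cast h)))
      obtain ⟨ι⟩ := exists_emb (F := GaloisField p (2 * k)) (p := p) (f := 2 * k) hk (card_galois (by omega)) (dvd_mul_left k 2)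
      obtain ⟨a, ha⟩ := range_le_range (p := p) (k := k) (k' := k) hk dvd_rfl φ (φ'.comp ι) ⟨δ⁻¹, rfl⟩
      rw [← φ'.injective (ha.trans hd.symm)]
      exact isSquare_emb hp2 hk (card_galois (by omega)) dvd_rfl ι a
    obtain ⟨e, he⟩ := hsq
    have hce : φ' e * φ' e = c * c := by
      rw [← map_mul, ← he, hd, map_inv₀]
      exact (eq_inv_of_mul_eq_one_left hdet).symm
    rcases mul_self_eq_mul_self_iff.mp hce with h | h
    · exact ⟨e, h⟩
    · exact ⟨-e, by rw [map_neg, h, neg_neg]⟩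
  obtain ⟨z, hz⟩ := slExt_mem_range φ' (x := x) (fun i j => by
    obtain ⟨c', hc'⟩ := hc
    obtain ⟨d', hd'⟩ := hsub ⟨(g : Matrix (Fin 2) (Fin 2) (GaloisField p k)) i j, rfl⟩
    exact ⟨c' * d', by rw [map_mul, hc', hd', hx]; rfl⟩)
  exact ⟨(z : Matrix.ProjectiveSpecialLinearGroup (Fin 2) (GaloisField p (2 * k))), by
    rw [DicksonFull.pslExt_mk, hz]⟩

end Cfsg.Agent.Lib.DicksonId
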