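import Cfsg.Agent.Lib.DicksonId.MaxPSL

/-!
The normaliser of a defining-characteristic Sylow subgroup, and Dickson's list sorted by `p ∣ |G|`.
-/

set_option autoImplicit false

namespace Cfsg.Agent.Lib.DicksonId

open Matrix Cfsg.Agent.Lib.Linear
open Cfsg.Agent.Lib.DicksonFull (pslExt)
open Cfsg.Agent.Lib.RecogThree.PSL2Orders (orderOf_cases)

variable {F : Type*} [Field F] [Fintype F] {p : ℕ} [hp : Fact p.Prime] [CharP F p]

local notation "SL2" => Matrix.SpecialLinearGroup (Fin 2) F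
local notation "M2" => Matrix (Fin 2) (Fin 2) F
local notation "PSL2" => Matrix.ProjectiveSpecialLinearGroup (Fin 2) F

/-- The Borel subgroup: elements of order `p` commute and `p'`-subgroups are cyclic. -/
theorem borel_props (hp2 : p ≠ 2) (h5 : 5 ≤ Fintype.card F) (P : Sylow p PSL2) :
    (∀ a b : PSL2, a ∈ Subgroup.normalizer ((P : Subgroup PSL2) : Set PSL2) →
        b ∈ Subgroup.normalizer ((P : Subgroup PSL2) : Set PSL2) → a ^ p = 1 → b ^ p = 1 → Commute a b) ∧
      ∀ G : Subgroup PSL2, G ≤ Subgroup.normalizer ((P : Subgroup PSL2) : Set PSL2) →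
        ¬ p ∣ Nat.card G → IsCyclic G := by
  obtain ⟨f, hf, hq⟩ := exists_card_eq_pow (F := F) p
  set B := Subgroup.normalizer ((P : Subgroup PSL2) : Set PSL2) with hB
  have hcard := card_normalizer_sylow (p := p) P
  rw [← hB, gcd_two_eq (p := p), if_neg hp2] at hcard
  have hd : p ∣ Nat.card B := by
    have h1 : p ∣ 2 * Nat.card B := by
      rw [hcard, hq]; exact dvd_mul_of_dvd_left (dvd_pow_self p hf.ne') _
    exact ((Nat.Prime.dvd_mul hp.out).mp h1).resolve_left fun h =>
      hp2 ((Nat.prime_dvd_prime_iff_eq hp.out Nat.prime_two).mp h)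
  rcases DicksonFull.dvd_cases B hd with ⟨-, hc, hK⟩ | ⟨q, k, hk, rfl, hk1, hk2, hcase⟩
  · refine ⟨fun a b ha hb hap hbp => ?_, fun G hG hGp => ?_⟩
    · exact congrArg Subtype.val (hc ⟨a, ha⟩ ⟨b, hb⟩ (Subtype.ext (by simpa using hap))
        (Subtype.ext (by simpa using hbp)))
    · haveI := hK (G.subgroupOf B) (by rwa [Nat.card_congr (Subgroup.subgroupOfEquivOfLe hG).toEquiv])
      exact isCyclic_of_surjective (Subgroup.subgroupOfEquivOfLe hG).toMonoidHom
        (Subgroup.subgroupOfEquivOfLe hG).surjective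
  exfalso
  have hqB : p ^ f ∣ Nat.card B := by
    refine (Nat.Coprime.pow_left f ((Nat.coprime_primes hp.out Nat.prime_two).mpr hp2)).dvd_of_dvd_mul_left ?_
    rw [hcard, hq]; exact dvd_mul_right _ _
  have hpow : p ^ k = Fintype.card F := by
    rw [hq]
    refine le_antisymm (Nat.le_of_dvd (pow_pos hp.out.pos _) ?_) (Nat.pow_le_pow_right hp.out.pos ?_)
    · have h1 : p ^ k ∣ p ^ f * (Fintype.card F - 1) := by
        rw [← hq, ← hcard]; exact dvd_mul_of_dvd_right hk1 2
      refine (Nat.Coprime.pow_left k ((Nat.Prime.coprime_iff_not_dvd hp.out).mpr fun h => ?_)).dvd_of_dvd_mul_right h1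
      have h2 := Nat.dvd_sub (hq ▸ dvd_pow_self p hf.ne' : p ∣ Fintype.card F) h
      rw [Nat.sub_sub_self (by omega)] at h2
      exact hp.out.not_dvd_one h2
    · by_contra h
      exact hk2 ((pow_dvd_pow p (by omega)).trans hqB)
  rw [hpow] at hcase
  set q := Fintype.card F
  obtain ⟨m, hm⟩ : ∃ m, q = m + 5 := ⟨q - 5, by omega⟩
  rcases hcase with ⟨h, -⟩ | ⟨-, h⟩ | ⟨h, -⟩
  · omega
  · rw [hm, show m + 5 - 1 = m + 4 by omega] at hcard
    rw [hm] at h
    rcases h with h | h <;> nlinarith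
  · omega

/-- The `p`-elements have order dividing `p`. -/
theorem pow_p_eq_one {G : Subgroup PSL2} (hG : IsPGroup p G) {a : PSL2} (ha : a ∈ G) : a ^ p = 1 := by
  obtain ⟨j, hj⟩ := hG ⟨a, ha⟩
  have hord : orderOf a ∣ p ^ j := orderOf_dvd_of_pow_eq_one (by simpa using congrArg Subtype.val hj)
  obtain ⟨i, -, hi⟩ := (Nat.dvd_prime_pow hp.out).mp hord
  rcases orderOf_cases p a with h | h | h
  · exact orderOf_dvd_iff_pow_eq_one.mp h
  all_goals
    have h1 : orderOf a = 1 := by
      rw [hi] at h ⊢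
      rcases i.eq_zero_or_pos with e | e
      · rw [e, pow_zero]
      exfalso
      obtain ⟨f, hf, hq⟩ := exists_card_eq_pow (F := F) p
      have hdp : p ∣ Fintype.card F := hq ▸ dvd_pow_self p hf.ne'
      have h' := (dvd_pow_self p e.ne').trans (h.trans (Nat.div_dvd_of_dvd ?_))
      · have hpos := Fintype.one_lt_card (α := F)
        first
          | (have h3 := (Nat.dvd_add_right hdp).mp h'
             exact hp.out.not_dvd_one h3)
          | (have h3 := Nat.dvd_sub hdp h'
             rw [Nat.sub_sub_self (by omega)] at h3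
             exact hp.out.not_dvd_one h3)
      · have := Fintype.one_lt_card (α := F)
        rw [RecogThree.PSL2Orders.dd]
        split_ifs <;> omega
    rw [orderOf_eq_one_iff.mp h1, one_pow]

/-- Subgroups of order prime to `p`. -/
theorem classify_coprime (hp2 : p ≠ 2) (h5 : 5 ≤ Fintype.card F) (G : Subgroup PSL2)
    (hG : ¬ p ∣ Nat.card G) :
    IsCyclic G ∨ (∃ k, ¬ p ∣ k ∧ (∃ x ∈ G, orderOf x = k) ∧ Nonempty (G ≃* DihedralGroup k)) ∨
      Nonempty (G ≃* alternatingGroup (Fin 4)) ∨ Nonempty (G ≃* Equiv.Perm (Fin 4)) ∨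
      Nonempty (G ≃* alternatingGroup (Fin 5)) := by
  rcases classify (p := p) G with ⟨h, -⟩ | h | ⟨P, hP⟩ | ⟨-, h⟩ | ⟨-, h⟩ | ⟨-, h⟩ | ⟨k, hk, -, -, g, φ, hφ⟩
  · exact Or.inl h
  · exact Or.inr (Or.inl h)
  · exact Or.inl ((borel_props hp2 h5 P).2 G hP hG)
  · exact Or.inr (Or.inr (Or.inl h))
  · exact Or.inr (Or.inr (Or.inr (Or.inl h)))
  · exact Or.inr (Or.inr (Or.inr (Or.inr h)))
  · exfalso
    letI : Fintype (GaloisField p k) := Fintype.ofFinite _
    have hd : p ^ k ∣ 2 * Nat.card G := by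
      rw [← card_conjG g G]
      rcases hφ with e | ⟨-, -, ψ, hψ, e⟩ <;> rw [e]
      · rw [two_mul_card_range hp2 hk φ]; exact dvd_mul_right _ _
      · rw [card_pgl_range hψ, card_galois hk]; exact dvd_mul_of_dvd_right (dvd_mul_right _ _) 2
    refine hG (((Nat.Prime.dvd_mul hp.out).mp ((dvd_pow_self p hk.ne').trans hd)).resolve_left fun h => ?_)
    exact hp2 ((Nat.prime_dvd_prime_iff_eq hp.out Nat.prime_two).mp h)

/-- Two elements of order `p` in `PSL(2, K)` that do not commute. -/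
theorem exists_noncomm_range {K : Type*} [Field K] [CharP K p] (h2 : (2 : K) ≠ 0) (φ : K →+* F) :
    ∃ a b : PSL2, a ∈ (pslExt φ).range ∧ b ∈ (pslExt φ).range ∧ a ^ p = 1 ∧ b ^ p = 1 ∧ ¬ Commute a b := by
  let u : Matrix.SpecialLinearGroup (Fin 2) K := ⟨!![1, 1; 0, 1], by simp [Matrix.det_fin_two_of]⟩
  let v : Matrix.SpecialLinearGroup (Fin 2) K := ⟨!![1, 0; 1, 1], by simp [Matrix.det_fin_two_of]⟩
  have hpu : ∀ n : ℕ, ((u ^ n : Matrix.SpecialLinearGroup (Fin 2) K) : Matrix (Fin 2) (Fin 2) K) =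
      !![1, (n : K); 0, 1] := by
    intro n
    induction n with
    | zero => simp [Matrix.one_fin_two]
    | succ n ih =>
      rw [pow_succ, Matrix.SpecialLinearGroup.coe_mul, ih]
      ext i j
      fin_cases i <;> fin_cases j <;> simp [u, Matrix.mul_apply, Fin.sum_univ_two, add_comm]
  have hpv : ∀ n : ℕ, ((v ^ n : Matrix.SpecialLinearGroup (Fin 2) K) : Matrix (Fin 2) (Fin 2) K) =
      !![1, 0; (n : K), 1] := by
    intro n
    induction n with
    | zero => simp [Matrix.one_fin_two]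
    | succ n ih =>
      rw [pow_succ, Matrix.SpecialLinearGroup.coe_mul, ih]
      ext i j
      fin_cases i <;> fin_cases j <;> simp [v, Matrix.mul_apply, Fin.sum_univ_two, add_comm]
  have hu : u ^ p = 1 := Subtype.ext (by rw [hpu, CharP.cast_eq_zero]; simp [Matrix.one_fin_two])
  have hv : v ^ p = 1 := Subtype.ext (by rw [hpv, CharP.cast_eq_zero]; simp [Matrix.one_fin_two])
  refine ⟨pslExt φ (u : Matrix.ProjectiveSpecialLinearGroup (Fin 2) K), pslExt φ (v : _), ⟨_, rfl⟩, ⟨_, rfl⟩, ?_, ?_, fun h => ?_⟩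
  · rw [← map_pow, ← QuotientGroup.mk_pow, hu, QuotientGroup.mk_one, map_one]
  · rw [← map_pow, ← QuotientGroup.mk_pow, hv, QuotientGroup.mk_one, map_one]
  · have h' : ((u * v : Matrix.SpecialLinearGroup (Fin 2) K) : Matrix.ProjectiveSpecialLinearGroup (Fin 2) K) =
        ((v * u : Matrix.SpecialLinearGroup (Fin 2) K) : Matrix.ProjectiveSpecialLinearGroup (Fin 2) K) := by
      apply DicksonFull.pslExt_injective φ
      rw [QuotientGroup.mk_mul, QuotientGroup.mk_mul, map_mul, map_mul]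
      exact h.eq
    obtain ⟨c, hc⟩ := (AutPSL.mk_eq_mk_iff _ _).mp h'
    rw [Matrix.SpecialLinearGroup.coe_mul, Matrix.SpecialLinearGroup.coe_mul] at hc
    have e01 := congrFun (congrFun hc 0) 1
    have e00 := congrFun (congrFun hc 0) 0
    simp [u, v, Matrix.mul_apply, Fin.sum_univ_two] at e01 e00
    subst e01
    norm_num at e00
    exact one_ne_zero (α := K) (by linear_combination (-1) * e00)

end Cfsg.Agent.Lib.DicksonId
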