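import Cfsg.Agent.Lib.DicksonId.PGLSmallCases

/-!
Maximal subgroups of `PGL(2, q)`, `q` odd: dihedral and Borel parts.
-/

set_option autoImplicit false

namespace Cfsg.Agent.Lib.DicksonId

open Matrix Cfsg.Agent.Lib.Linear
open Matrix.ProjGenLinGroup (mk)

variable {F : Type*} [Field F] [Fintype F] {p : ℕ} [hp : Fact p.Prime] [CharP F p]

local notation "SL2" => Matrix.SpecialLinearGroup (Fin 2) F
local notation "PSL2" => Matrix.ProjectiveSpecialLinearGroup (Fin 2) F
local notation "PGL2" => Matrix.ProjGenLinGroup (Fin 2) F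
local notation "ι2" => (Matrix.ProjectiveSpecialLinearGroup.toPGL (n := Fin 2) (R := F))

omit [Fintype F] hp [CharP F p] in
/-- All elements of order `k` of a dihedral group of order `2k` generate the same subgroup. -/
theorem mem_zpowers_of_orderOf {G : Type*} [Group G] {N : Subgroup G} {k : ℕ} (hk : 3 ≤ k)
    (e : N ≃* DihedralGroup k) {x u : G} (hxN : x ∈ N) (hx : orderOf x = k) (huN : u ∈ N)
    (hu : orderOf u = k) : u ∈ Subgroup.zpowers x := by
  haveI : NeZero k := ⟨by omega⟩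
  have hrot : ∀ a : N, orderOf (a : G) = k → e a ∈ Subgroup.zpowers (DihedralGroup.r (1 : ZMod k)) := by
    intro a ha
    rcases hq : e a with i | i
    · exact ⟨i.val, by simp⟩
    · have := e.orderOf_eq a
      rw [hq, DihedralGroup.orderOf_sr, ← Subgroup.orderOf_coe, ha] at this
      omega
  have hC : Subgroup.zpowers (e ⟨x, hxN⟩) = Subgroup.zpowers (DihedralGroup.r (1 : ZMod k)) :=
    Subgroup.eq_of_le_of_card_ge (Subgroup.zpowers_le.mpr (hrot _ hx)) (by
      rw [Nat.card_zpowers, Nat.card_zpowers, DihedralGroup.orderOf_r_one, e.orderOf_eq,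
        Subgroup.orderOf_mk, hx])
  obtain ⟨i, hi⟩ := (hC ▸ hrot ⟨u, huN⟩ hu : e ⟨u, huN⟩ ∈ Subgroup.zpowers (e ⟨x, hxN⟩))
  simp only [← map_zpow] at hi
  exact ⟨i, by simpa using congrArg Subtype.val (e.injective hi)⟩

omit [Fintype F] hp [CharP F p] in
theorem alt_four_no_inverted : ∀ a b : alternatingGroup (Fin 4), a ^ 3 = 1 → b ^ 2 = 1 →
    b * a * b = a⁻¹ → a = 1 ∨ b = 1 := by
  decide +kernel

omit [Fintype F] hp [CharP F p] in
theorem perm_four_orders : ∀ a : Equiv.Perm (Fin 4), a ^ 4 = 1 ∨ a ^ 3 = 1 := by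
  decide +kernel

omit [Fintype F] hp [CharP F p] in
theorem alt_five_orders : ∀ a : alternatingGroup (Fin 5), a ^ 6 = 1 ∨ a ^ 5 = 1 := by
  decide +kernel

omit [Fintype F] hp [CharP F p] in
theorem dvd_of_equiv {G H : Type*} [Group G] [Group H] {N : Subgroup G} (e : N ≃* H) {a b : ℕ}
    (h : ∀ x : H, x ^ a = 1 ∨ x ^ b = 1) {u : G} (hu : u ∈ N) : orderOf u ∣ a ∨ orderOf u ∣ b := by
  rw [← Subgroup.orderOf_mk u hu, ← e.orderOf_eq]
  exact (h _).imp orderOf_dvd_of_pow_eq_one orderOf_dvd_of_pow_eq_one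

/-- A maximal subgroup with dihedral part in `PSL(2, q)`. -/
theorem cap_dihedral (hp2 : p ≠ 2) (h5 : 5 ≤ Fintype.card F) {M : Subgroup PGL2} (hM : IsCoatom M)
    (hML : ¬ imSL F ≤ M) {k : ℕ} (hk : ¬ p ∣ k) {x : PSL2} (hxN : x ∈ cap M) (hx : orderOf x = k)
    (he : Nonempty (cap M ≃* DihedralGroup k)) :
    3 ≤ k ∧ (2 * k = Fintype.card F - 1 ∨ 2 * k = Fintype.card F + 1) ∧
      Nonempty (M ≃* DihedralGroup (2 * k)) := by
  obtain ⟨e⟩ := he
  have h4 : 4 ≤ Fintype.card F := by omega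
  have hcard : Nat.card (cap M) = 2 * k := by rw [Nat.card_congr e.toEquiv, DihedralGroup.nat_card]
  have hk3 : 3 ≤ k := by
    have : 0 < Nat.card (cap M) := Nat.card_pos
    by_contra hlt
    rcases (show k = 1 ∨ k = 2 by omega) with rfl | rfl
    · haveI : Fact (Nat.Prime 2) := ⟨Nat.prime_two⟩
      exact cap_not_cyclic hp2 h5 hM hML (isCyclic_of_prime_card (p := 2) (by rw [hcard])) (by
        rw [hcard]; exact fun h => hp2 ((Nat.prime_dvd_prime_iff_eq hp.out Nat.prime_two).mp h))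
    · exact cap_not_four hp2 h5 hM hML ⟨e⟩
  set U := Subgroup.zpowers x with hUdef
  have hU : U ≤ cap M := Subgroup.zpowers_le.mpr hxN
  have hU1 : U ≠ ⊥ := by
    rw [hUdef, Ne, Subgroup.zpowers_eq_bot]
    intro h; rw [h, orderOf_one] at hx; omega
  have hinv : ∀ g : GL (Fin 2) F, mk g ∈ M → ∀ u ∈ U, AutPSL.conjAut g u ∈ U := by
    intro g hg u hu
    obtain ⟨i, rfl⟩ := hu
    simp only [map_zpow]
    refine U.zpow_mem (mem_zpowers_of_orderOf hk3 e hxN hx (conj_mem_cap hg hxN) ?_) i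
    rw [MulEquiv.orderOf_eq, hx]
  have hxp : x ^ p ≠ 1 := fun h => by
    rcases (Nat.dvd_prime hp.out).mp (hx ▸ orderOf_dvd_of_pow_eq_one h) with e' | e'
    · omega
    · exact hk e'.symm.dvd
  have hkq : 2 * k = Fintype.card F - 1 ∨ 2 * k = Fintype.card F + 1 := by
    obtain ⟨f, -, hq⟩ := exists_card_eq_pow (F := F) p
    have hodd : Fintype.card F % 2 = 1 := hq ▸ Nat.odd_iff.mp (hp.out.odd_of_ne_two hp2).pow
    have key : ∀ N, (N = Fintype.card F - 1 ∨ N = Fintype.card F + 1) →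
        k ∣ N / Nat.gcd 2 (Fintype.card F - 1) → N / Nat.gcd 2 (Fintype.card F - 1) = k := by
      intro N hN hd
      obtain ⟨y, hy, hxy⟩ := exists_torus_of_orderOf (p := p) hx hk (by omega) hN hd
      have hyN : y ∈ cap M := mem_cap_of_normalizes h4 hM hML hU hU1 hinv fun u hu => by
        rw [(commute_of_mem_zpowers ((Subgroup.zpowers_le.mpr hxy) hu)).eq, mul_inv_cancel_right]
        exact hu
      have hxd : k ∣ orderOf y := by
        obtain ⟨j, hj⟩ := hxy
        rw [← hx, ← hj]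
        exact orderOf_dvd_of_pow_eq_one (by
          rw [← zpow_natCast, ← _root_.zpow_mul, mul_comm, _root_.zpow_mul, zpow_natCast, pow_orderOf_eq_one, _root_.one_zpow])
      rw [← hy]
      refine Nat.dvd_antisymm ?_ hxd
      rw [← Subgroup.orderOf_mk y hyN, ← e.orderOf_eq] at hxd ⊢
      rcases hq' : e ⟨y, hyN⟩ with i | i
      · haveI : NeZero k := ⟨by omega⟩
        rw [DihedralGroup.orderOf_r]
        exact Nat.div_dvd_of_dvd (Nat.gcd_dvd_left _ _)
      · rw [hq', DihedralGroup.orderOf_sr] at hxd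
        have := Nat.le_of_dvd two_pos hxd
        omega
    rcases orderOf_dvd_of_not_dvd (p := p) (x := x) (hx ▸ hk) with hd | hd <;> rw [hx] at hd
    · have := key _ (Or.inr rfl) hd
      rw [gcd_two_eq (p := p), if_neg hp2] at this
      omega
    · have := key _ (Or.inl rfl) hd
      rw [gcd_two_eq (p := p), if_neg hp2] at this
      omega
  refine ⟨hk3, hkq, ?_⟩
  have hMc : Nat.card M = 4 * k := by rw [card_cap (p := p) hp2 hM hML, hcard]; ring
  have hpM : ¬ p ∣ Nat.card M := fun h => by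
    rw [hMc] at h
    rcases (Nat.Prime.dvd_mul hp.out).mp h with h' | h'
    · exact hp2 ((Nat.prime_dvd_prime_iff_eq hp.out Nat.prime_two).mp
        (hp.out.dvd_of_dvd_pow (show p ∣ 2 ^ 2 by norm_num; exact h')))
    · exact hk h'
  obtain ⟨b, hbN, hb2, hbx, hb1⟩ : ∃ b, b ∈ cap M ∧ b ^ 2 = 1 ∧ b * x * b = x⁻¹ ∧ b ≠ 1 := by
    refine ⟨(e.symm (DihedralGroup.sr 0) : PSL2), (e.symm _).2, ?_, ?_, ?_⟩
    · rw [← SubmonoidClass.coe_pow, ← map_pow, pow_two, DihedralGroup.sr_mul_self, map_one]; rfl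
    · rcases hq : e ⟨x, hxN⟩ with i | i
      · have hx' : (⟨x, hxN⟩ : cap M) = e.symm (DihedralGroup.r i) := by rw [← hq, e.symm_apply_apply]
        show ((e.symm (DihedralGroup.sr 0) * ⟨x, hxN⟩ * e.symm (DihedralGroup.sr 0) : cap M) : PSL2) =
          ((⟨x, hxN⟩⁻¹ : cap M) : PSL2)
        rw [hx', ← map_mul, ← map_mul, ← map_inv]
        congr 2
        simp
      · have := e.orderOf_eq ⟨x, hxN⟩
        rw [hq, DihedralGroup.orderOf_sr, Subgroup.orderOf_mk, hx] at this
        omega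
    · intro h
      have := congrArg orderOf h
      rw [Subgroup.orderOf_coe, MulEquiv.orderOf_eq, DihedralGroup.orderOf_sr, orderOf_one] at this
      omega
  rcases pgl_coprime_cases hp2 M hpM with h | ⟨j, -, ⟨d⟩⟩ | ⟨⟨d⟩⟩ | ⟨⟨d⟩⟩ | ⟨⟨d⟩⟩
  · exfalso
    rw [(commute_of_isCyclic h hbN hxN).eq, mul_assoc, ← pow_two, hb2, mul_one] at hbx
    have := Nat.le_of_dvd two_pos (hx ▸ orderOf_dvd_of_pow_eq_one
      (show x ^ 2 = 1 by rw [pow_two]; nth_rewrite 2 [hbx]; exact mul_inv_cancel x))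
    omega
  · have : j = 2 * k := by
      rw [Nat.card_congr d.toEquiv, DihedralGroup.nat_card] at hMc; omega
    subst this
    exact ⟨d⟩
  · exfalso
    rw [Nat.card_congr d.toEquiv, nat_card_alternatingGroup, Nat.card_fin] at hMc
    norm_num [Nat.factorial] at hMc
    let emb : cap M →* alternatingGroup (Fin 4) := d.toMonoidHom.comp
      ((ι2).subgroupComap M)
    have hemb : Function.Injective emb := d.injective.comp fun a a' h =>
      Subtype.ext (Matrix.ProjectiveSpecialLinearGroup.toPGL_injective (congrArg Subtype.val h))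
    rcases alt_four_no_inverted (emb ⟨x, hxN⟩) (emb ⟨b, hbN⟩)
        (by rw [← map_pow, show (⟨x, hxN⟩ : cap M) ^ 3 = 1 from Subtype.ext (by
          rw [SubmonoidClass.coe_pow, show (3 : ℕ) = k by omega, ← hx]; exact pow_orderOf_eq_one x), map_one])
        (by rw [← map_pow, show (⟨b, hbN⟩ : cap M) ^ 2 = 1 from Subtype.ext hb2, map_one])
        (by rw [← map_inv, ← map_mul, ← map_mul]; exact congrArg emb (Subtype.ext hbx)) with h | h
    · have := congrArg Subtype.val (hemb (h.trans (map_one emb).symm))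
      simp at this
      rw [this, orderOf_one] at hx
      omega
    · exact hb1 (congrArg Subtype.val (hemb (h.trans (map_one emb).symm)))
  · exfalso
    rw [Nat.card_congr d.toEquiv, Nat.card_eq_fintype_card, Fintype.card_perm, Fintype.card_fin] at hMc
    norm_num [Nat.factorial] at hMc
    have hxM : ι2 x ∈ M := hxN
    have := dvd_of_equiv d perm_four_orders hxM
    rw [orderOf_injective _ Matrix.ProjectiveSpecialLinearGroup.toPGL_injective, hx] at this
    rcases this with h | h <;> have := Nat.le_of_dvd (by norm_num) h <;> omega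
  · exfalso
    rw [Nat.card_congr d.toEquiv, nat_card_alternatingGroup, Nat.card_fin] at hMc
    norm_num [Nat.factorial] at hMc
    have hxM : ι2 x ∈ M := hxN
    have := dvd_of_equiv d alt_five_orders hxM
    rw [orderOf_injective _ Matrix.ProjectiveSpecialLinearGroup.toPGL_injective, hx] at this
    rcases this with h | h <;> have := Nat.le_of_dvd (by norm_num) h <;> omega

/-- A maximal subgroup meeting `PSL(2, q)` in a Borel subgroup. -/
theorem cap_borel (hp2 : p ≠ 2) (h5 : 5 ≤ Fintype.card F) {M : Subgroup PGL2} (hM : IsCoatom M)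
    (hML : ¬ imSL F ≤ M) {P : Sylow p PSL2}
    (hle : cap M ≤ Subgroup.normalizer ((P : Subgroup PSL2) : Set PSL2))
    (hpN : p ∣ Nat.card (cap M)) :
    cap M = Subgroup.normalizer ((P : Subgroup PSL2) : Set PSL2) := by
  have h4 : 4 ≤ Fintype.card F := by omega
  obtain ⟨hcomm, -⟩ := borel_props (p := p) hp2 h5 P
  set B := Subgroup.normalizer ((P : Subgroup PSL2) : Set PSL2) with hB
  have hin : ∀ a ∈ B, a ^ p = 1 → a ∈ (P : Subgroup PSL2) := by
    intro a ha hap
    have hQ : IsPGroup p (Subgroup.zpowers a) := by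
      rintro ⟨z, i, rfl⟩
      refine ⟨1, Subtype.ext ?_⟩
      rw [SubmonoidClass.coe_pow, pow_one, Subgroup.coe_one]
      show (a ^ i) ^ p = 1
      rw [← zpow_natCast, ← _root_.zpow_mul, mul_comm, _root_.zpow_mul, zpow_natCast, hap, _root_.one_zpow]
    have h : a ∈ Subgroup.zpowers a ⊓ B := ⟨Subgroup.mem_zpowers a, ha⟩
    exact ((hQ.inf_normalizer_sylow P).le h).2
  let U : Subgroup PSL2 :=
    { carrier := {a | a ∈ cap M ∧ a ^ p = 1}
      one_mem' := ⟨one_mem _, one_pow _⟩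
      mul_mem' := fun {a b} ha hb => ⟨mul_mem ha.1 hb.1, by
        rw [(hcomm a b (hle ha.1) (hle hb.1) ha.2 hb.2).mul_pow, ha.2, hb.2, one_mul]⟩
      inv_mem' := fun {a} ha => ⟨inv_mem ha.1, by rw [inv_pow, ha.2, inv_one]⟩ }
  have hUN : U ≤ cap M := fun a ha => ha.1
  have hU1 : U ≠ ⊥ := by
    obtain ⟨a, ha⟩ := exists_prime_orderOf_dvd_card' p hpN
    intro hbot
    have hm : (a : PSL2) ∈ U := ⟨a.2, by rw [← SubmonoidClass.coe_pow, ← ha, pow_orderOf_eq_one]; rfl⟩
    rw [hbot, Subgroup.mem_bot] at hm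
    rw [← Subgroup.orderOf_coe, hm, orderOf_one] at ha
    exact hp.out.ne_one ha.symm
  have hinv : ∀ g : GL (Fin 2) F, mk g ∈ M → ∀ u ∈ U, AutPSL.conjAut g u ∈ U := fun g hg u hu =>
    ⟨conj_mem_cap hg hu.1, by rw [← map_pow, hu.2, map_one]⟩
  have hPN : (P : Subgroup PSL2) ≤ cap M := fun a ha => by
    refine mem_cap_of_normalizes h4 hM hML hUN hU1 hinv fun u hu => ?_
    rw [(hcomm a u (Subgroup.le_normalizer ha) (hle hu.1) (pow_p_eq_one (p := p) P.isPGroup' ha) hu.2).eq,
      mul_inv_cancel_right]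
    exact hu
  refine le_antisymm hle fun a ha => mem_cap_of_normalizes h4 hM hML hUN hU1 hinv fun u hu => ?_
  have h1 := (Subgroup.mem_normalizer_iff.mp ha u).mp (hin u (hle hu.1) hu.2)
  exact ⟨hPN h1, pow_p_eq_one (p := p) P.isPGroup' h1⟩

end Cfsg.Agent.Lib.DicksonId
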