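import Cfsg.Agent.Lib.DicksonId.PGLSubfield

/-!
A maximal subgroup of `PGL(2, q)` meets `PSL(2, q)` maximally, apart from the small exceptions.
-/

set_option autoImplicit false

namespace Cfsg.Agent.Lib.DicksonId

open Matrix Cfsg.Agent.Lib.Linear
open Matrix.ProjGenLinGroup (mk)
open Cfsg.Agent.Lib.DicksonFull (pslExt slExt)

variable {F : Type*} [Field F] [Fintype F] {p : ℕ} [hp : Fact p.Prime] [CharP F p]

local notation "SL2" => Matrix.SpecialLinearGroup (Fin 2) F
local notation "M2" => Matrix (Fin 2) (Fin 2) F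
local notation "PSL2" => Matrix.ProjectiveSpecialLinearGroup (Fin 2) F
local notation "PGL2" => Matrix.ProjGenLinGroup (Fin 2) F

/-- A proper subfield group is not the whole group. -/
theorem lt_of_isCoatom_subfield (hp2 : p ≠ 2) {H : Subgroup PSL2} (hH : IsCoatom H) {k f : ℕ}
    (hk : 0 < k) (hq : Fintype.card F = p ^ f) (hkf : k ∣ f) {g : GL (Fin 2) F}
    {φ : GaloisField p k →+* F}
    (h : conjG g H = (pslExt φ).range ∨ ((∀ a, IsSquare (φ a)) ∧
      ∃ ψ, IsPglHom φ ψ ∧ conjG g H = ψ.range)) : k < f ∧ 2 * k ≤ f := by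
  have hf : 0 < f := by
    rcases Nat.eq_zero_or_pos f with e | e
    · have := Fintype.one_lt_card (α := F); rw [hq, e, pow_zero] at this; omega
    · exact e
  have hlt : k < f := by
    refine lt_of_le_of_ne (Nat.le_of_dvd hf hkf) fun e => ?_
    rcases h with h | ⟨hs, -⟩
    · refine hH.1 (Subgroup.eq_top_of_card_eq _ ?_)
      rw [← card_conjG g H, h]
      have h1 := two_mul_card_range hp2 hk φ
      have h2 := two_mul_card_PSL (F := F) hp2
      rw [hq, ← e] at h2
      omega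
    · have := Nat.le_of_dvd hf (even_of_isSquare_emb hp2 hk hq hkf φ hs)
      omega
  refine ⟨hlt, ?_⟩
  obtain ⟨t, rfl⟩ := hkf
  have : 2 ≤ t := by
    rcases t with _ | _ | t
    · simp at hlt
    · simp at hlt
    · omega
  nlinarith

/-- Elements prime to `p` of a `PSL` over a subfield have small order. -/
theorem two_mul_orderOf_le (hp2 : p ≠ 2) {k : ℕ} (hk : 0 < k) (φ : GaloisField p k →+* F) {x : PSL2}
    (hx : x ∈ (pslExt φ).range) (hpx : ¬ p ∣ orderOf x) : 2 * orderOf x ≤ p ^ k + 1 := by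
  letI : Fintype (GaloisField p k) := Fintype.ofFinite _
  obtain ⟨z, rfl⟩ := hx
  rw [orderOf_injective _ (DicksonFull.pslExt_injective φ)] at hpx ⊢
  have h3 : 2 ≤ p ^ k := hp.out.two_le.trans (Nat.le_self_pow hk.ne' p)
  rcases dvd_half hp2 hpx with h | h <;> rw [card_galois hk] at h <;>
    have := Nat.le_of_dvd (by omega) h <;> omega

omit [Fintype F] hp [CharP F p] in
theorem exists_inverting_of_dihedral {G : Type*} [Group G] {N : Subgroup G} {k : ℕ} (hk : 3 ≤ k)
    (e : N ≃* DihedralGroup k) {x : G} (hxN : x ∈ N) (hx : orderOf x = k) :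
    ∃ b ∈ N, b ≠ 1 ∧ b ^ 2 = 1 ∧ b * x * b = x⁻¹ := by
  refine ⟨(e.symm (DihedralGroup.sr 0) : G), (e.symm _).2, fun h => ?_, ?_, ?_⟩
  · have := congrArg orderOf h
    rw [Subgroup.orderOf_coe, MulEquiv.orderOf_eq, DihedralGroup.orderOf_sr, orderOf_one] at this
    omega
  · rw [← SubmonoidClass.coe_pow, ← map_pow, pow_two, DihedralGroup.sr_mul_self, map_one]; rfl
  · rcases hq : e ⟨x, hxN⟩ with i | i
    · have hx' : (⟨x, hxN⟩ : N) = e.symm (DihedralGroup.r i) := by rw [← hq, e.symm_apply_apply]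
      show ((e.symm (DihedralGroup.sr 0) * ⟨x, hxN⟩ * e.symm (DihedralGroup.sr 0) : N) : G) =
        ((⟨x, hxN⟩⁻¹ : N) : G)
      rw [hx', ← map_mul, ← map_mul, ← map_inv]
      congr 2
      simp
    · have := e.orderOf_eq ⟨x, hxN⟩
      rw [hq, DihedralGroup.orderOf_sr, Subgroup.orderOf_mk, hx] at this
      omega

omit [Fintype F] hp [CharP F p] in
theorem dvd_of_mem_dihedral {G : Type*} [Group G] {H : Subgroup G} {j : ℕ} (e : H ≃* DihedralGroup j)
    (hj : 0 < j) {x : G} (hx : x ∈ H) (h3 : 3 ≤ orderOf x) : orderOf x ∣ j ∧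
      e ⟨x, hx⟩ ∈ Subgroup.zpowers (DihedralGroup.r (1 : ZMod j)) := by
  haveI : NeZero j := ⟨by omega⟩
  rw [← Subgroup.orderOf_mk x hx, ← e.orderOf_eq] at h3 ⊢
  rcases hq : e ⟨x, hx⟩ with i | i
  · exact ⟨by rw [DihedralGroup.orderOf_r]; exact Nat.div_dvd_of_dvd (Nat.gcd_dvd_left _ _), i.val, by simp⟩
  · rw [hq, DihedralGroup.orderOf_sr] at h3
    omega

omit [Fintype F] hp [CharP F p] in
theorem alt_four_noncomm_three : ∃ a b : alternatingGroup (Fin 4), a ^ 3 = 1 ∧ b ^ 3 = 1 ∧ a ≠ 1 ∧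
    b ≠ 1 ∧ a * b ≠ b * a := by
  decide +kernel

/-- The Borel case. -/
theorem meet_borel (hp2 : p ≠ 2) (h5 : 5 ≤ Fintype.card F) (h9 : Fintype.card F ≠ 9)
    {N : Subgroup PSL2} {P : Sylow p PSL2}
    (hP : N = Subgroup.normalizer ((P : Subgroup PSL2) : Set PSL2))
    {H : Subgroup PSL2} (hH : IsCoatom H) (hle : N ≤ H) : N = H := by
  obtain ⟨f, hf, hq⟩ := exists_card_eq_pow (F := F) p
  have hN : 2 * Nat.card N = Fintype.card F * (Fintype.card F - 1) := by
    rw [hP, ← card_normalizer_sylow (p := p) P, gcd_two_eq (p := p), if_neg hp2]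
  have hdvd : Nat.card N ∣ Nat.card H := Subgroup.card_dvd_of_le hle
  have hcop : Nat.Coprime p 2 := (Nat.coprime_primes hp.out Nat.prime_two).mpr hp2
  have hpN : p ∣ Nat.card N := hcop.dvd_of_dvd_mul_left (by rw [hN, hq]; exact dvd_mul_of_dvd_left (dvd_pow_self p hf.ne') _)
  have hpH := hpN.trans hdvd
  rcases classify (p := p) H with ⟨-, h⟩ | ⟨j, hj, -, ⟨d⟩⟩ | ⟨P', hP'⟩ | ⟨h, -⟩ | ⟨h, -⟩ | ⟨h, ⟨d⟩⟩ |
      ⟨j, hj, hj3, hjd, g, φ, hφ⟩
  · exact absurd hpH h
  · rw [Nat.card_congr d.toEquiv, DihedralGroup.nat_card] at hpH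
    exact absurd (hcop.dvd_of_dvd_mul_left hpH) hj
  · refine Subgroup.eq_of_le_of_card_ge hle (le_trans (Subgroup.card_le_of_le hP') ?_)
    have h1 := card_normalizer_sylow (p := p) P'
    rw [gcd_two_eq (p := p), if_neg hp2] at h1
    omega
  · exact absurd hpH h
  · exact absurd hpH h
  · exfalso
    rcases h with h | rfl
    · exact h hpH
    have h60 := Nat.le_of_dvd (by rw [card_of_equiv_alt_five ⟨d⟩]; norm_num) hdvd
    rw [card_of_equiv_alt_five ⟨d⟩] at h60
    rcases (show f = 1 ∨ f = 2 ∨ 3 ≤ f by omega) with rfl | rfl | hf3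
    · rw [hq] at h5; norm_num at h5
    · rw [hq] at h9; norm_num at h9
    · have h27 : 27 ≤ Fintype.card F := by
        rw [hq]; exact le_trans (by norm_num) (Nat.pow_le_pow_right (by norm_num) hf3)
      have := Nat.mul_le_mul h27 (show 26 ≤ Fintype.card F - 1 by omega)
      omega
  · exfalso
    have hlt := (lt_of_isCoatom_subfield hp2 hH hj hq (hjd f hq) (hφ.imp_right And.right)).1
    letI : Fintype (GaloisField p j) := Fintype.ofFinite _
    have hd : p ^ f ∣ 2 * Nat.card H :=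
      ((Dvd.intro _ rfl : p ^ f ∣ p ^ f * (Fintype.card F - 1)).trans
        (dvd_of_eq (by rw [hN, hq]))).trans (Nat.mul_dvd_mul_left 2 hdvd)
    have hd' : p ^ f ∣ 2 * (p ^ j * ((p ^ j - 1) * (p ^ j + 1))) := by
      refine hd.trans ?_
      rw [← card_conjG g H]
      rcases hφ with e | ⟨-, -, ψ, hψ, e⟩ <;> rw [e]
      · rw [two_mul_card_range hp2 hj φ]; exact dvd_mul_left _ 2
      · rw [card_pgl_range hψ, card_galois hj]
    have hd2 : p ^ f ∣ p ^ j := by
      refine (Nat.Coprime.pow_left f ?_).dvd_of_dvd_mul_right ((Nat.Coprime.pow_left f hcop).dvd_of_dvd_mul_left hd')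
      refine (Nat.Prime.coprime_iff_not_dvd hp.out).mpr fun h => ?_
      have hpj : p ∣ p ^ j := dvd_pow_self p hj.ne'
      rcases (Nat.Prime.dvd_mul hp.out).mp h with h' | h'
      · have h2 := Nat.dvd_sub hpj h'
        rw [Nat.sub_sub_self (by omega)] at h2
        exact hp.out.not_dvd_one h2
      · exact hp.out.not_dvd_one ((Nat.dvd_add_right hpj).mp h')
    have := (Nat.pow_dvd_pow_iff_le_right hp.out.one_lt).mp hd2
    omega

/-- The dihedral case. -/
theorem meet_dihedral (hp2 : p ≠ 2) (h5 : 5 ≤ Fintype.card F) (h7 : Fintype.card F ≠ 7)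
    (h9 : Fintype.card F ≠ 9) (h11 : Fintype.card F ≠ 11) {N : Subgroup PSL2} {k : ℕ}
    {x : PSL2} (hxN : x ∈ N) (hx : orderOf x = k) (hk : ¬ p ∣ k) (hk3 : 3 ≤ k)
    (hkq : 2 * k = Fintype.card F - 1 ∨ 2 * k = Fintype.card F + 1) (he : Nonempty (N ≃* DihedralGroup k))
    {H : Subgroup PSL2} (hH : IsCoatom H) (hle : N ≤ H) : N = H := by
  obtain ⟨e⟩ := he
  have hxH : x ∈ H := hle hxN
  have hncomm : ∀ (hc : ∀ a ∈ N, ∀ b ∈ N, a * b = b * a), False := fun hc => by
    refine dihedral_not_comm hk3 fun a b => e.symm.injective (Subtype.ext ?_)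
    rw [map_mul, map_mul, Subgroup.coe_mul, Subgroup.coe_mul]
    exact hc _ (e.symm a).2 _ (e.symm b).2
  have hpN : ¬ p ∣ Nat.card N := by
    rw [Nat.card_congr e.toEquiv, DihedralGroup.nat_card]
    intro h
    rcases (Nat.Prime.dvd_mul hp.out).mp h with h' | h'
    · exact hp2 ((Nat.prime_dvd_prime_iff_eq hp.out Nat.prime_two).mp h')
    · exact hk h'
  rcases classify (p := p) H with ⟨hc, -⟩ | ⟨j, hj, ⟨y, hyH, hy⟩, ⟨d⟩⟩ | ⟨P', hP'⟩ | ⟨hn, ⟨d⟩⟩ | ⟨hn, ⟨d⟩⟩ |
      ⟨hn, ⟨d⟩⟩ | ⟨j, hj, hj3, hjd, g, φ, hφ⟩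
  · exfalso
    haveI := hc
    letI := IsCyclic.commGroup (α := H)
    exact hncomm fun a ha b hb => congrArg Subtype.val (mul_comm (⟨a, hle ha⟩ : H) ⟨b, hle hb⟩)
  · have hj0 : 0 < j := by
      rcases Nat.eq_zero_or_pos j with rfl | h
      · exact absurd (dvd_zero p) hj
      · exact h
    have hkj : k ∣ j := hx ▸ (dvd_of_mem_dihedral d hj0 hxH (hx ▸ hk3)).1
    have hjq : 2 * j = Fintype.card F - 1 ∨ 2 * j = Fintype.card F + 1 :=
      (max_dihedral hp2 h5 hH hj hyH hy ⟨d⟩).imp And.right fun h => h.2.2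
    have hle' := Nat.le_of_dvd hj0 hkj
    have hjk : j = k := by
      by_contra hne
      have h1 : j = k + 1 := by omega
      rw [h1, Nat.dvd_add_right (dvd_refl k)] at hkj
      have := Nat.le_of_dvd one_pos hkj
      omega
    refine Subgroup.eq_of_le_of_card_ge hle (le_of_eq ?_)
    rw [Nat.card_congr d.toEquiv, Nat.card_congr e.toEquiv, DihedralGroup.nat_card, DihedralGroup.nat_card, hjk]
  · exfalso
    haveI := (borel_props hp2 h5 P').2 N (hle.trans hP') hpN
    letI := IsCyclic.commGroup (α := N)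
    exact hncomm fun a ha b hb => congrArg Subtype.val (mul_comm (⟨a, ha⟩ : N) ⟨b, hb⟩)
  · exfalso
    have hk' : k = 3 := by
      have hall : ∀ a : alternatingGroup (Fin 4), a ^ 2 = 1 ∨ a ^ 3 = 1 := by decide +kernel
      rcases dvd_of_equiv d hall hxH with h | h <;> rw [hx] at h <;>
        have := Nat.le_of_dvd (by norm_num) h <;> omega
    obtain ⟨b, hbN, hb1, hb2, hbx⟩ := exists_inverting_of_dihedral hk3 e hxN hx
    rcases alt_four_no_inverted (d ⟨x, hxH⟩) (d ⟨b, hle hbN⟩)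
        (by rw [← map_pow, show (⟨x, hxH⟩ : H) ^ 3 = 1 from Subtype.ext (by
          rw [SubmonoidClass.coe_pow, ← hk', ← hx]; exact pow_orderOf_eq_one x), map_one])
        (by rw [← map_pow, show (⟨b, hle hbN⟩ : H) ^ 2 = 1 from Subtype.ext hb2, map_one])
        (by rw [← map_inv, ← map_mul, ← map_mul]; exact congrArg d (Subtype.ext hbx)) with h | h
    · have := congrArg Subtype.val (d.injective (h.trans (map_one d).symm))
      simp at this
      rw [this, orderOf_one] at hx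
      omega
    · exact hb1 (congrArg Subtype.val (d.injective (h.trans (map_one d).symm)))
  · exfalso
    obtain ⟨hqp, h8⟩ := max_perm_four hH ⟨d⟩ hn
    rcases dvd_of_equiv d perm_four_orders hxH with h | h <;> rw [hx] at h <;>
      have := Nat.le_of_dvd (by norm_num) h <;> omega
  · exfalso
    obtain ⟨h10, -⟩ := max_alt_five hH ⟨d⟩ hn
    rcases dvd_of_equiv d alt_five_orders hxH with h | h <;> rw [hx] at h <;>
      have := Nat.le_of_dvd (by norm_num) h <;> omega
  · exfalso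
    obtain ⟨f, hf, hq⟩ := exists_card_eq_pow (F := F) p
    obtain ⟨hlt, h2j⟩ := lt_of_isCoatom_subfield hp2 hH hj hq (hjd f hq) (hφ.imp_right And.right)
    have hqQ : (p ^ j) ^ 2 ≤ Fintype.card F := by
      rw [hq, ← pow_mul]; exact Nat.pow_le_pow_right hp.out.pos (by omega)
    have hm : AutPSL.conjAut g x ∈ conjG g H := ⟨x, hxH, rfl⟩
    have hord : orderOf (AutPSL.conjAut g x) = k := by rw [MulEquiv.orderOf_eq, hx]
    set Q := p ^ j
    rcases hφ with h | ⟨-, hs, ψ, hψ, h⟩ <;> rw [h] at hm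
    · have h1 := two_mul_orderOf_le hp2 hj φ hm (hord ▸ hk)
      rw [hord] at h1
      have : Q ^ 2 ≤ Q + 2 := by omega
      nlinarith
    · obtain ⟨z, hz⟩ := hm
      letI : Fintype (GaloisField p j) := Fintype.ofFinite _
      have hzz : z * z ∈ imSL (GaloisField p j) := Subgroup.mul_self_mem_of_index_two (index_imSL (p := p) hp2) z
      obtain ⟨w, hw⟩ := hzz
      have hu : AutPSL.conjAut g x * AutPSL.conjAut g x ∈ (pslExt φ).range := by
        rw [← hz, ← map_mul, ← hw]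
        exact ⟨_, (hψ.comp_toGL w).symm⟩
      set u := AutPSL.conjAut g x * AutPSL.conjAut g x with hu'
      have hud : orderOf u ∣ k := orderOf_dvd_of_pow_eq_one (by
        rw [hu', ← pow_two, ← pow_mul, mul_comm, pow_mul, ← hord, pow_orderOf_eq_one, one_pow])
      have hku : k ∣ 2 * orderOf u := by
        rw [← hord]
        exact orderOf_dvd_of_pow_eq_one (by rw [pow_mul, pow_two]; exact pow_orderOf_eq_one _)
      have h1 := two_mul_orderOf_le hp2 hj φ hu (fun h' => hk (h'.trans hud))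
      have h2 := Nat.le_of_dvd (Nat.mul_pos two_pos (orderOf_pos u)) hku
      have hQ : Q ≤ 3 := by
        by_contra hQ
        have h4 : 4 * Q ≤ Q ^ 2 := by rw [pow_two]; exact Nat.mul_le_mul_right Q (by omega)
        omega
      have hQ3 : Q = 3 := le_antisymm hQ hj3
      rw [hQ3] at hqQ
      norm_num at hqQ
      have : p ^ j = 3 := hQ3
      omega

/-- The tetrahedral case. -/
theorem meet_alt_four (hp2 : p ≠ 2) (h5 : 5 ≤ Fintype.card F) (hqp : Fintype.card F = p)
    (h8 : p % 8 = 3 ∨ p % 8 = 5) (h10 : ¬ (p % 10 = 1 ∨ p % 10 = 9)) {N : Subgroup PSL2}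
    (he : Nonempty (N ≃* alternatingGroup (Fin 4)))
    {H : Subgroup PSL2} (hH : IsCoatom H) (hle : N ≤ H) : N = H := by
  obtain ⟨e⟩ := he
  haveI : Fact (Nat.Prime 3) := ⟨Nat.prime_three⟩
  obtain ⟨a, b, ha, hb, ha1, hb1, hab⟩ := alt_four_noncomm_three
  have hord : ∀ c : alternatingGroup (Fin 4), c ^ 3 = 1 → c ≠ 1 → orderOf (e.symm c : PSL2) = 3 :=
    fun c hc hc1 => by rw [Subgroup.orderOf_coe, MulEquiv.orderOf_eq]; exact orderOf_eq_prime hc hc1
  have hnc : ¬ Commute (e.symm a : PSL2) (e.symm b : PSL2) := fun h => hab (e.symm.injective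
    (Subtype.ext (by rw [map_mul, map_mul, Subgroup.coe_mul, Subgroup.coe_mul]; exact h.eq)))
  have hcard := card_of_equiv_alt_four (G := N) ⟨e⟩
  have hpN : ¬ p ∣ Nat.card N := by
    rw [hcard]
    intro h
    have := Nat.le_of_dvd (by norm_num) h
    rw [hqp] at h5
    interval_cases p <;> omega
  rcases classify (p := p) H with ⟨hc, -⟩ | ⟨j, hj, -, ⟨d⟩⟩ | ⟨P', hP'⟩ | ⟨hn, h⟩ | ⟨hn, h⟩ | ⟨hn, h⟩ |
      ⟨j, hj, hj3, hjd, g, φ, hφ⟩
  · exfalso
    haveI := hc
    letI := IsCyclic.commGroup (α := H)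
    exact hnc (congrArg Subtype.val (mul_comm (⟨_, hle (e.symm a).2⟩ : H) ⟨_, hle (e.symm b).2⟩))
  · exfalso
    have hj0 : 0 < j := by
      rcases Nat.eq_zero_or_pos j with rfl | h
      · exact absurd (dvd_zero p) hj
      · exact h
    obtain ⟨i, hi⟩ := (dvd_of_mem_dihedral d hj0 (hle (e.symm a).2) (by rw [hord a ha ha1])).2
    obtain ⟨i', hi'⟩ := (dvd_of_mem_dihedral d hj0 (hle (e.symm b).2) (by rw [hord b hb hb1])).2
    refine hnc ?_
    have : d ⟨_, hle (e.symm a).2⟩ * d ⟨_, hle (e.symm b).2⟩ = d ⟨_, hle (e.symm b).2⟩ * d ⟨_, hle (e.symm a).2⟩ := by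
      rw [← hi, ← hi']
      exact ((Commute.refl _).zpow_zpow i i').eq
    rw [← map_mul, ← map_mul] at this
    exact congrArg Subtype.val (d.injective this)
  · exfalso
    haveI := (borel_props hp2 h5 P').2 N (hle.trans hP') hpN
    letI := IsCyclic.commGroup (α := N)
    exact hnc (congrArg Subtype.val (mul_comm (e.symm a) (e.symm b)))
  · exact Subgroup.eq_of_le_of_card_ge hle (le_of_eq (by rw [hcard, card_of_equiv_alt_four h]))
  · exact absurd (max_perm_four hH h hn).2 (by omega)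
  · exact absurd (max_alt_five hH h hn).1 (by rw [hqp]; omega)
  · exfalso
    obtain ⟨hlt, -⟩ := lt_of_isCoatom_subfield hp2 hH hj (f := 1) (by rw [hqp, pow_one])
      (hjd 1 (by rw [hqp, pow_one])) (hφ.imp_right And.right)
    omega

omit hp [CharP F p] in
theorem trace_conjSL (g : GL (Fin 2) F) (x : SL2) :
    Matrix.trace ((AutPSL.conjSL g x : SL2) : M2) = Matrix.trace (x : M2) := by
  rw [AutPSL.coe_conjSL, Matrix.trace_mul_comm, ← Matrix.mul_assoc, Units.inv_mul, Matrix.one_mul]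

/-- The subfield case. -/
theorem meet_subfield (hp2 : p ≠ 2) (h5 : 5 ≤ Fintype.card F) {k r : ℕ} (hk : 0 < k) (hk3 : 3 ≤ p ^ k)
    (hr : r.Prime) (hodd : Odd r) (hq : Fintype.card F = p ^ (k * r)) {g : GL (Fin 2) F}
    {φ : GaloisField p k →+* F} {N : Subgroup PSL2} (hN : conjG g N = (pslExt φ).range)
    {H : Subgroup PSL2} (hH : IsCoatom H) (hle : N ≤ H) : N = H := by
  have hr3 : 3 ≤ r := by
    rcases hodd with ⟨t, rfl⟩
    have := hr.two_le; omega
  letI : Fintype (GaloisField p k) := Fintype.ofFinite _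
  have h2 : (2 : GaloisField p k) ≠ 0 := two_ne_zero_of_char (p := p) hp2
  obtain ⟨a, b, ha, hb, hap, hbp, hab⟩ := exists_noncomm_range (p := p) h2 φ
  rw [← hN] at ha hb
  obtain ⟨a, haN, rfl⟩ := ha
  obtain ⟨b, hbN, rfl⟩ := hb
  have hap' : a ^ p = 1 := (AutPSL.conjAut g).injective (by rw [map_pow, map_one]; exact hap)
  have hbp' : b ^ p = 1 := (AutPSL.conjAut g).injective (by rw [map_pow, map_one]; exact hbp)
  have hab' : ¬ Commute a b := fun h => hab (h.map (AutPSL.conjAut g).toMonoidHom)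
  have ha1 : a ≠ 1 := fun h => hab' (h ▸ Commute.one_left b)
  have hpH : p ∣ Nat.card H := by
    have h1 := Subgroup.orderOf_dvd_natCard _ (hle haN)
    rwa [orderOf_eq_prime hap' ha1] at h1
  rcases classify (p := p) H with ⟨-, h⟩ | ⟨j, hj, -, ⟨d⟩⟩ | ⟨P', hP'⟩ | ⟨h, -⟩ | ⟨h, -⟩ | ⟨h, hd⟩ |
      ⟨j, hj, hj3, hjd, h, φ', hφ⟩
  · exact absurd hpH h
  · rw [Nat.card_congr d.toEquiv, DihedralGroup.nat_card] at hpH
    exact absurd (((Nat.coprime_primes hp.out Nat.prime_two).mpr hp2).dvd_of_dvd_mul_left hpH) hj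
  · exact absurd ((borel_props hp2 h5 P').1 a b (hP' (hle haN)) (hP' (hle hbN)) hap' hbp') hab'
  · exact absurd hpH h
  · exact absurd hpH h
  · exfalso
    rcases (max_alt_five hH hd h).2 with e | ⟨e, -⟩ <;> rw [hq] at e
    · have h1 : k * r = 1 := Nat.pow_right_injective hp.out.two_le (by simpa using e)
      have := Nat.le_mul_of_pos_left r hk
      omega
    · have h1 : k * r = 2 := Nat.pow_right_injective hp.out.two_le e
      have := Nat.le_mul_of_pos_left r hk
      omega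
  have hlt := lt_of_isCoatom_subfield hp2 hH hj hq (hjd _ hq) (hφ.imp_right And.right)
  -- traces
  have hsq : ∀ c : GaloisField p k, φ c * φ c ∈ φ'.fieldRange := by
    intro c
    let Z : Matrix.SpecialLinearGroup (Fin 2) (GaloisField p k) :=
      ⟨!![c, -1; 1, 0], by simp [Matrix.det_fin_two_of]⟩
    set Y := AutPSL.conjSL (h * g⁻¹) (slExt φ Z) with hY
    have hYm : (Y : PSL2) ∈ conjG h H := by
      have h1 : ((slExt φ Z : SL2) : PSL2) ∈ conjG g N := hN ▸ ⟨_, DicksonFull.pslExt_mk φ Z⟩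
      obtain ⟨n, hn, hne⟩ := h1
      have hne' : AutPSL.conjAut g n = ((slExt φ Z : SL2) : PSL2) := hne
      refine ⟨n, hle hn, ?_⟩
      show AutPSL.conjAut h n = _
      rw [hY, ← AutPSL.conjAut_mk, ← hne', ← MulAut.mul_apply, ← map_mul, inv_mul_cancel_right]
    have htr : Matrix.trace (Y : M2) = φ c := by
      rw [hY, trace_conjSL, Matrix.trace_fin_two, DicksonFull.slExt_apply, DicksonFull.slExt_apply]
      simp [Z]
    rw [← htr]
    rcases hφ with e | ⟨-, -, ψ, hψ, e⟩ <;> rw [e] at hYm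
    · obtain ⟨w, hw⟩ := hYm
      obtain ⟨W, rfl⟩ := QuotientGroup.mk_surjective w
      rw [DicksonFull.pslExt_mk] at hw
      obtain ⟨s, hs⟩ := (AutPSL.mk_eq_mk_iff _ _).mp hw
      have hd := congrArg Matrix.det hs
      rw [Matrix.det_smul, Y.2, (slExt φ' W).2, Fintype.card_fin, mul_one] at hd
      refine ⟨Matrix.trace (W : Matrix (Fin 2) (Fin 2) (GaloisField p j)) *
        Matrix.trace (W : Matrix (Fin 2) (Fin 2) (GaloisField p j)), ?_⟩
      rw [map_mul, hs, Matrix.trace_smul, smul_eq_mul, Matrix.trace_fin_two, Matrix.trace_fin_two, map_add,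
        DicksonFull.slExt_apply, DicksonFull.slExt_apply]
      linear_combination ((φ' ((W : Matrix (Fin 2) (Fin 2) (GaloisField p j)) 0 0) +
        φ' ((W : Matrix (Fin 2) (Fin 2) (GaloisField p j)) 1 1)) ^ 2) * hd
    · obtain ⟨x₀, g₀, s, hx₀, hY0⟩ := hψ.surj _ hYm
      obtain ⟨s', hs'⟩ := (AutPSL.mk_eq_mk_iff _ _).mp hY0.symm
      have hd := congrArg Matrix.det hs'
      rw [Matrix.det_smul, Y.2, x₀.2, Fintype.card_fin, mul_one] at hd
      have hd0 := congrArg Matrix.det hx₀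
      rw [x₀.2, Matrix.det_smul, Fintype.card_fin, ← RingHom.mapMatrix_apply, ← RingHom.map_det] at hd0
      set δ := (g₀ : Matrix (Fin 2) (Fin 2) (GaloisField p j)).det
      set τ := Matrix.trace (g₀ : Matrix (Fin 2) (Fin 2) (GaloisField p j))
      have hδ : φ' δ ≠ 0 := (map_ne_zero φ').mpr (GeneralLinearGroup.det_ne_zero g₀)
      have hT : Matrix.trace (Y : M2) = s' * s * φ' τ := by
        rw [hs', hx₀, smul_smul, Matrix.trace_smul, smul_eq_mul, Matrix.trace_fin_two]
        simp [τ, Matrix.trace_fin_two]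
      refine ⟨τ * τ / δ, ?_⟩
      rw [map_div₀, map_mul, hT, div_eq_iff hδ]
      linear_combination (φ' τ ^ 2) * hd + (φ' τ ^ 2 * s' ^ 2) * hd0
  have hsub : ∀ c, φ c ∈ φ'.fieldRange := by
    intro c
    have h4 : (4 : F) ≠ 0 := by
      rw [show (4 : F) = 2 * 2 by norm_num]
      exact mul_ne_zero (two_ne_zero_of_char (p := p) hp2) (two_ne_zero_of_char (p := p) hp2)
    have he : φ c = (φ (c + 1) * φ (c + 1) - φ (c - 1) * φ (c - 1)) / 4 := by
      rw [map_add, map_sub, map_one, eq_div_iff h4]; ring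
    rw [he]
    exact div_mem (sub_mem (hsq _) (hsq _)) (by
      rw [show (4 : F) = φ' 4 from (map_ofNat φ' 4).symm]; exact ⟨4, rfl⟩)
  have hkj : k ∣ j := by
    let iota : GaloisField p k →+* GaloisField p j :=
      ((RingEquiv.ofBijective φ'.rangeRestrictField φ'.rangeRestrictField_bijective).symm.toRingHom).comp
        (φ.codRestrict φ'.fieldRange hsub)
    letI := iota.toAlgebra
    have hcard := Module.natCard_eq_pow_finrank (K := GaloisField p k) (V := GaloisField p j)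
    rw [GaloisField.card p k hk.ne', GaloisField.card p j hj.ne', ← pow_mul] at hcard
    exact ⟨_, Nat.pow_right_injective hp.out.two_le hcard⟩
  obtain ⟨t, rfl⟩ := hkj
  have ht : t ∣ r := (mul_dvd_mul_iff_left hk.ne').mp (hjd _ hq)
  rcases (Nat.dvd_prime hr).mp ht with rfl | rfl
  · rcases hφ with e | ⟨-, hs, -⟩
    · refine Subgroup.eq_of_le_of_card_ge hle (le_of_eq ?_)
      rw [← card_conjG g N, ← card_conjG h H, hN, e]
      have h1 := two_mul_card_range hp2 hk φ
      have h2 := two_mul_card_range hp2 hj φ'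
      simp only [mul_one] at h2 ⊢
      omega
    · exfalso
      have h2k := even_of_isSquare_emb hp2 hj hq (hjd _ hq) φ' hs
      rw [mul_one, mul_comm 2 k] at h2k
      have := (mul_dvd_mul_iff_left hk.ne').mp h2k
      rcases hodd with ⟨t, rfl⟩
      omega
  · exact absurd hlt.1 (lt_irrefl _)

/-- The main statement. -/
theorem cap_isCoatom (hp2 : p ≠ 2) (h5 : 5 ≤ Fintype.card F) (h7 : Fintype.card F ≠ 7)
    (h9 : Fintype.card F ≠ 9) (h11 : Fintype.card F ≠ 11)
    (h40 : (Fintype.card F).Prime → Fintype.card F % 40 ∉ ({11, 19, 21, 29} : Finset ℕ))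
    {M : Subgroup PGL2} (hM : IsCoatom M) (hML : ¬ imSL F ≤ M) : IsCoatom (cap M) := by
  rcases IsCoatomic.eq_top_or_exists_le_coatom (cap M) with h | ⟨H, hH, hle⟩
  · exact absurd h (cap_ne_top hML)
  suffices cap M = H by rwa [this]
  rcases pgl_cases hp2 h5 hM hML with ⟨P, hP⟩ | ⟨k, x, hxN, hx, hk, hk3, hkq, he, -⟩ | ⟨hqp, h8, he, -⟩ |
      ⟨k, r, g, φ, hk, hk3, hr, hodd, hq, hg, -⟩
  · exact meet_borel hp2 h5 h9 hP hH hle
  · exact meet_dihedral hp2 h5 h7 h9 h11 hxN hx hk hk3 hkq he hH hle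
  · refine meet_alt_four hp2 h5 hqp h8 ?_ he hH hle
    have := h40 (hqp ▸ hp.out)
    simp at this
    omega
  · exact meet_subfield hp2 h5 hk hk3 hr hodd hq hg hH hle

end Cfsg.Agent.Lib.DicksonId
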