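import Cfsg.Agent.Lib.DicksonId.PGLClass

/-!
Dickson's list for subgroups of `PGL(2, F)`, read inside `PSL(2)` over the quadratic extension.
-/

set_option autoImplicit false

namespace Cfsg.Agent.Lib.DicksonId

open Matrix Cfsg.Agent.Lib.Linear

variable {F : Type*} [Field F] [Fintype F] {p : ℕ} [hp : Fact p.Prime] [CharP F p]

local notation "PGL2" => Matrix.ProjGenLinGroup (Fin 2) F

/-- Elements of `F` are squares in the quadratic extension. -/
theorem isSquare_algebraMap {E : Type} [Field E] [Fintype E] [Algebra F E] [CharP E p] (hp2 : p ≠ 2)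
    (hE : Fintype.card E = Fintype.card F ^ 2) (a : F) : IsSquare (algebraMap F E a) := by
  rcases eq_or_ne a 0 with rfl | ha
  · exact ⟨0, by simp⟩
  rw [FiniteField.isSquare_iff (ringChar_ne_two (two_ne_zero_of_char (p := p) hp2))
    ((map_ne_zero (algebraMap F E)).mpr ha), ← map_pow]
  suffices h : Fintype.card F - 1 ∣ Fintype.card E / 2 by
    obtain ⟨m, hm⟩ := h
    rw [hm, pow_mul, FiniteField.pow_card_sub_one_eq_one a ha, one_pow, map_one]
  obtain ⟨f, -, hq⟩ := exists_card_eq_pow (F := F) p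
  obtain ⟨u, hu⟩ : ∃ u, Fintype.card F = 2 * u + 1 :=
    ⟨Fintype.card F / 2, by have := Nat.odd_iff.mp (hq ▸ (hp.out.odd_of_ne_two hp2).pow : Odd (Fintype.card F)); omega⟩
  refine ⟨u + 1, ?_⟩
  rw [hE, hu, show (2 * u + 1) ^ 2 = 2 * (2 * u * (u + 1)) + 1 by ring, Nat.add_sub_cancel]
  omega

/-- Subgroups of `PGL(2, F)` of order prime to `p`. -/
theorem pgl_coprime_cases (hp2 : p ≠ 2) (M : Subgroup PGL2) (hpM : ¬ p ∣ Nat.card M) :
    IsCyclic M ∨ (∃ k, (∃ y ∈ M, orderOf y = k) ∧ Nonempty (M ≃* DihedralGroup k)) ∨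
      Nonempty (M ≃* alternatingGroup (Fin 4)) ∨ Nonempty (M ≃* Equiv.Perm (Fin 4)) ∨
      Nonempty (M ≃* alternatingGroup (Fin 5)) := by
  let E := FiniteField.Extension F p 2
  letI : Fintype E := Fintype.ofFinite E
  haveI : CharP E p := charP_of_injective_algebraMap (algebraMap F E).injective p
  have hE : Fintype.card E = Fintype.card F ^ 2 := by
    rw [← Nat.card_eq_fintype_card, ← Nat.card_eq_fintype_card]
    exact FiniteField.natCard_extension F p 2
  obtain ⟨ψ, hψ, -⟩ := DicksonFull.exists_pgl_hom (algebraMap F E)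
    (fun a => isSquare_algebraMap hp2 hE a)
  have h5 : 5 ≤ Fintype.card E := by
    obtain ⟨f, hf, hq⟩ := exists_card_eq_pow (F := F) p
    have h3 : 3 ≤ Fintype.card F := by
      rw [hq]
      exact le_trans (by have := hp.out.two_le; omega) (Nat.le_self_pow hf.ne' p)
    rw [hE]
    nlinarith
  set e : M ≃* M.map ψ := M.equivMapOfInjective ψ hψ
  rcases classify_coprime hp2 h5 (M.map ψ) (by rwa [← Nat.card_congr e.toEquiv]) with
    h | ⟨k, -, ⟨x, hx, hxk⟩, ⟨d⟩⟩ | ⟨⟨d⟩⟩ | ⟨⟨d⟩⟩ | ⟨⟨d⟩⟩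
  · exact Or.inl (isCyclic_of_surjective e.symm.toMonoidHom e.symm.surjective)
  · obtain ⟨y, hy, rfl⟩ := hx
    exact Or.inr (Or.inl ⟨k, ⟨y, hy, by rw [← hxk, orderOf_injective ψ hψ]⟩, ⟨e.trans d⟩⟩)
  · exact Or.inr (Or.inr (Or.inl ⟨e.trans d⟩))
  · exact Or.inr (Or.inr (Or.inr (Or.inl ⟨e.trans d⟩)))
  · exact Or.inr (Or.inr (Or.inr (Or.inr ⟨e.trans d⟩)))

/-- Subgroups of `PGL(2, F)` with two non-commuting elements of order `p`. -/
theorem pgl_dvd_cases (hp2 : p ≠ 2) (M : Subgroup PGL2) {a b : PGL2} (ha : a ∈ M) (hb : b ∈ M)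
    (hap : a ^ p = 1) (hbp : b ^ p = 1) (hab : ¬ Commute a b) :
    Nat.card M = 60 ∨ ∃ j c, 0 < j ∧ 1 ≤ c ∧ c ≤ 2 ∧
      c * Nat.card M = p ^ j * ((p ^ j - 1) * (p ^ j + 1)) := by
  let E := FiniteField.Extension F p 2
  letI : Fintype E := Fintype.ofFinite E
  haveI : CharP E p := charP_of_injective_algebraMap (algebraMap F E).injective p
  have hE : Fintype.card E = Fintype.card F ^ 2 := by
    rw [← Nat.card_eq_fintype_card, ← Nat.card_eq_fintype_card]
    exact FiniteField.natCard_extension F p 2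
  obtain ⟨ψ, hψ, -⟩ := DicksonFull.exists_pgl_hom (algebraMap F E)
    (fun a => isSquare_algebraMap hp2 hE a)
  obtain ⟨f, hf, hq⟩ := exists_card_eq_pow (F := F) p
  have h5 : 5 ≤ Fintype.card E := by
    have h3 : 3 ≤ Fintype.card F := by
      rw [hq]
      exact le_trans (by have := hp.out.two_le; omega) (Nat.le_self_pow hf.ne' p)
    rw [hE]
    nlinarith
  have hcard : Nat.card M = Nat.card (M.map ψ) := Nat.card_congr (M.equivMapOfInjective ψ hψ).toEquiv
  have hab' : ¬ Commute (ψ a) (ψ b) := fun h => hab (hψ (by rw [map_mul, map_mul]; exact h.eq))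
  have ha' : ψ a ∈ M.map ψ := Subgroup.mem_map_of_mem ψ ha
  have hb' : ψ b ∈ M.map ψ := Subgroup.mem_map_of_mem ψ hb
  have hap' : ψ a ^ p = 1 := by rw [← map_pow, hap, map_one]
  have hbp' : ψ b ^ p = 1 := by rw [← map_pow, hbp, map_one]
  have hdvd : p ∣ Nat.card (M.map ψ) := by
    have h1 : ψ a ≠ 1 := fun e => hab' (e ▸ Commute.one_left _)
    have h2 := Subgroup.orderOf_dvd_natCard _ ha'
    rwa [orderOf_eq_prime hap' h1] at h2
  rcases classify (p := p) (M.map ψ) with ⟨-, h⟩ | ⟨k, hk, -, ⟨d⟩⟩ | ⟨P, hP⟩ | ⟨h, -⟩ | ⟨h, -⟩ |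
      ⟨-, ⟨d⟩⟩ | ⟨k, hk, -, -, g, φ, hφ⟩
  · exact absurd hdvd h
  · rw [Nat.card_congr d.toEquiv, DihedralGroup.nat_card] at hdvd
    rcases (Nat.Prime.dvd_mul hp.out).mp hdvd with h | h
    · exact absurd ((Nat.prime_dvd_prime_iff_eq hp.out Nat.prime_two).mp h) hp2
    · exact absurd h hk
  · exact absurd ((borel_props hp2 h5 P).1 _ _ (hP ha') (hP hb') hap' hbp') hab'
  · exact absurd hdvd h
  · exact absurd hdvd h
  · exact Or.inl (by rw [hcard, card_of_equiv_alt_five ⟨d⟩])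
  · letI : Fintype (GaloisField p k) := Fintype.ofFinite _
    rcases hφ with e | ⟨-, -, ψ', hψ', e⟩
    · refine Or.inr ⟨k, 2, hk, by norm_num, le_rfl, ?_⟩
      rw [hcard, ← card_conjG g, e, two_mul_card_range hp2 hk φ]
    · refine Or.inr ⟨k, 1, hk, le_rfl, by norm_num, ?_⟩
      rw [hcard, ← card_conjG g, e, card_pgl_range hψ', card_galois hk, one_mul]

end Cfsg.Agent.Lib.DicksonId
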