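import Cfsg.Agent.Lib.DicksonId.PGLBasic
import Cfsg.Agent.Lib.DicksonId.PGLOuter
import Cfsg.Agent.Lib.DicksonId.FourGroup

/-!
Maximal subgroups of `PGL(2, q)`, `q` odd, by their part in `PSL(2, q)`: small cases.
-/

set_option autoImplicit false

namespace Cfsg.Agent.Lib.DicksonId

open Matrix Cfsg.Agent.Lib.Linear
open Matrix.ProjGenLinGroup (mk)
open Cfsg.Agent.Lib.DicksonFull (pslExt)

variable {F : Type*} [Field F] [Fintype F] {p : ℕ} [hp : Fact p.Prime] [CharP F p]

local notation "SL2" => Matrix.SpecialLinearGroup (Fin 2) F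
local notation "M2" => Matrix (Fin 2) (Fin 2) F
local notation "PSL2" => Matrix.ProjectiveSpecialLinearGroup (Fin 2) F
local notation "PGL2" => Matrix.ProjGenLinGroup (Fin 2) F
local notation "ι2" => (Matrix.ProjectiveSpecialLinearGroup.toPGL (n := Fin 2) (R := F))

omit [Fintype F] hp [CharP F p] in
theorem commute_of_isCyclic {M : Subgroup PGL2} (h : IsCyclic M) {a b : PSL2} (ha : a ∈ cap M)
    (hb : b ∈ cap M) : Commute a b := by
  haveI := h
  letI := IsCyclic.commGroup (α := M)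
  apply Matrix.ProjectiveSpecialLinearGroup.toPGL_injective
  rw [map_mul, map_mul]
  exact congrArg Subtype.val (mul_comm (⟨_, ha⟩ : M) ⟨_, hb⟩)

/-- Squares of elements of `M` come from `M ∩ PSL`. -/
theorem sq_mem_cap (hp2 : p ≠ 2) {M : Subgroup PGL2} {y : PGL2} (hy : y ∈ M) :
    ∃ u ∈ cap M, ι2 u = y * y := by
  have h : y * y ∈ imSL F := Subgroup.mul_self_mem_of_index_two (index_imSL (p := p) hp2) y
  rw [imSL_eq] at h
  obtain ⟨u, hu⟩ := h
  exact ⟨u, by rw [Subgroup.mem_comap, hu]; exact M.mul_mem hy hy, hu⟩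

/-- An element of order `2m` of `M` gives one of order `m` in `M ∩ PSL`. -/
theorem exists_orderOf_half (hp2 : p ≠ 2) {M : Subgroup PGL2} {y : PGL2} (hy : y ∈ M) {m : ℕ}
    (hm : orderOf y = 2 * m) : ∃ u ∈ cap M, orderOf u = m := by
  obtain ⟨u, hu, he⟩ := sq_mem_cap (p := p) hp2 hy
  refine ⟨u, hu, ?_⟩
  rw [← orderOf_injective _ Matrix.ProjectiveSpecialLinearGroup.toPGL_injective, he, ← pow_two,
    orderOf_pow_of_dvd two_ne_zero (by rw [hm]; exact dvd_mul_right 2 m), hm, Nat.mul_div_cancel_left _ two_pos]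

theorem cap_not_cyclic (hp2 : p ≠ 2) (h5 : 5 ≤ Fintype.card F) {M : Subgroup PGL2} (hM : IsCoatom M)
    (hML : ¬ imSL F ≤ M) (hc : IsCyclic (cap M)) (hpN : ¬ p ∣ Nat.card (cap M)) : False := by
  have h4 : 4 ≤ Fintype.card F := by omega
  have h2 : (2 : F) ≠ 0 := two_ne_zero_of_char (p := p) hp2
  obtain ⟨x, hx⟩ := (cap M).isCyclic_iff_exists_zpowers_eq_top.mp hc
  have hord : orderOf x = Nat.card (cap M) := by rw [← hx, Nat.card_zpowers]
  have hinv := fun g (hg : mk g ∈ M) u (hu : u ∈ cap M) => conj_mem_cap hg hu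
  rcases Nat.lt_or_ge (Nat.card (cap M)) 2 with h1 | h1
  · haveI : Fact (Nat.Prime 2) := ⟨Nat.prime_two⟩
    haveI : Finite PGL2 := Finite.of_surjective _ Matrix.ProjGenLinGroup.mk_surjective
    have hMc : Nat.card M = 2 := by
      rw [card_cap (p := p) hp2 hM hML]; have := Nat.card_pos (α := cap M); omega
    obtain ⟨S, hS⟩ := (IsPGroup.of_card (p := 2) (n := 1) (by rw [hMc, pow_one]) : IsPGroup 2 M).exists_le_sylow
    have hG := card_pgl_eq (F := F) (p := p) hp2
    rw [two_mul_card_PSL (F := F) hp2] at hG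
    obtain ⟨f, hf, hq⟩ := exists_card_eq_pow (F := F) p
    rcases hS.eq_or_lt with e | e
    · have h8 : 2 ^ 2 ∣ Nat.card PGL2 := by
        have hodd : Fintype.card F % 2 = 1 := hq ▸ Nat.odd_iff.mp (hp.out.odd_of_ne_two hp2).pow
        rw [hG]
        exact dvd_mul_of_dvd_right (Nat.mul_dvd_mul (by omega : 2 ∣ _) (by omega : 2 ∣ _)) _
      have h4' := S.pow_dvd_card_of_pow_dvd_card h8
      rw [← e, hMc] at h4'
      norm_num at h4'
    · have htop := hM.2 _ e
      have hd : p ∣ Nat.card (S : Subgroup PGL2) := by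
        rw [htop, Subgroup.card_top, hG, hq]
        exact dvd_mul_of_dvd_left (dvd_pow_self p hf.ne') _
      obtain ⟨n, hn⟩ := IsPGroup.iff_card.mp S.isPGroup'
      rw [hn] at hd
      exact hp2 ((Nat.prime_dvd_prime_iff_eq hp.out Nat.prime_two).mp (hp.out.dvd_of_dvd_pow hd))
  have hN1 : cap M ≠ ⊥ := fun h => by rw [h, Subgroup.card_bot] at h1; omega
  have hmem : ∀ w : PSL2, w * x * w⁻¹ ∈ Subgroup.zpowers x → w ∈ cap M := fun w hw =>
    mem_cap_of_normalizes h4 hM hML le_rfl hN1 hinv fun u hu => by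
      rw [← hx] at hu ⊢
      exact (Subgroup.mem_normalizer_iff.mp (mem_normalizer_zpowers hw) u).mp hu
  rcases h1.eq_or_lt with hk | hk
  · -- an involution
    classical
    rw [← hk] at hord
    obtain ⟨X, rfl⟩ := QuotientGroup.mk_surjective x
    obtain ⟨g, hg⟩ := exists_conj_J h2 (trace_of_orderOf_two hord)
    obtain ⟨a, b, hab⟩ := DicksonFull.exists_sum_sq h2 (-1)
    let Y₀ : SL2 := ⟨!![a, b; b, -a], by rw [Matrix.det_fin_two_of]; linear_combination (-1) * hab⟩
    set J := AutPSL.conjSL g X with hJ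
    have hcomm : ((Y₀ : SL2) : PSL2) * (J : PSL2) = (J : PSL2) * (Y₀ : PSL2) := by
      rw [← QuotientGroup.mk_mul, ← QuotientGroup.mk_mul, AutPSL.mk_eq_mk_iff]
      refine ⟨-1, ?_⟩
      rw [Matrix.SpecialLinearGroup.coe_mul, Matrix.SpecialLinearGroup.coe_mul, hg]
      ext i j
      fin_cases i <;> fin_cases j <;> simp [Y₀, Matrix.mul_apply, Fin.sum_univ_two]
    have hJx : AutPSL.conjAut g⁻¹ (J : PSL2) = (X : PSL2) := by
      rw [hJ, ← AutPSL.conjAut_mk, ← MulAut.mul_apply, ← map_mul, inv_mul_cancel, map_one]; rfl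
    set y := AutPSL.conjAut g⁻¹ (Y₀ : PSL2) with hy
    have hyM : y ∈ cap M := hmem y (by
      rw [← hJx, hy, ← map_inv, ← map_mul, ← map_mul, hcomm, mul_inv_cancel_right]
      exact Subgroup.mem_zpowers _)
    have hy1 : (Y₀ : PSL2) ≠ 1 := fun h => by
      rw [← QuotientGroup.mk_one, eq_comm, AutPSL.mk_eq_mk_iff] at h
      obtain ⟨c, hc⟩ := h
      have e1 := congrFun (congrFun hc 0) 0
      have e2 := congrFun (congrFun hc 1) 1
      have e3 := congrFun (congrFun hc 0) 1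
      simp [Y₀] at e1 e2 e3
      have : (2 : F) * a = 0 := by linear_combination e1 - e2
      rw [(mul_eq_zero.mp this).resolve_left h2, e3] at hab
      simp at hab
    have hy2 : (Y₀ : PSL2) ≠ (J : PSL2) := fun h => by
      rw [eq_comm, AutPSL.mk_eq_mk_iff] at h
      obtain ⟨c, hc⟩ := h
      rw [hg] at hc
      have e1 := congrFun (congrFun hc 0) 0
      have e2 := congrFun (congrFun hc 0) 1
      have e3 := congrFun (congrFun hc 1) 0
      simp [Y₀] at e1 e2 e3
      have : (2 : F) * b = 0 := by linear_combination e2 + e3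
      rw [(mul_eq_zero.mp this).resolve_left h2, e1] at hab
      simp at hab
    rw [← hx, mem_zpowers_iff_mem_range_orderOf, hord] at hyM
    simp only [Finset.mem_image, Finset.mem_range] at hyM
    obtain ⟨i, hi, he⟩ := hyM
    interval_cases i
    · rw [pow_zero] at he
      exact hy1 ((AutPSL.conjAut g⁻¹).injective (hy ▸ he.symm.trans (map_one _).symm))
    · rw [pow_one, ← hJx] at he
      exact hy2 ((AutPSL.conjAut g⁻¹).injective he.symm)
  · have hxp : x ^ p ≠ 1 := fun h => by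
      rcases (Nat.dvd_prime hp.out).mp (orderOf_dvd_of_pow_eq_one h) with e | e
      · omega
      · exact hpN (by rw [← hord, e])
    obtain ⟨w, hw⟩ := exists_inverting_psl (p := p) hxp
    have hwM := hmem w (by rw [hw]; exact Subgroup.inv_mem _ (Subgroup.mem_zpowers x))
    rw [← hx] at hwM
    rw [(commute_of_mem_zpowers hwM).symm.eq, mul_inv_cancel_right] at hw
    have := Nat.le_of_dvd two_pos (orderOf_dvd_of_pow_eq_one
      (show x ^ 2 = 1 by rw [pow_two]; nth_rewrite 2 [hw]; exact mul_inv_cancel x))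
    omega

theorem cap_not_four (hp2 : p ≠ 2) (h5 : 5 ≤ Fintype.card F) {M : Subgroup PGL2} (hM : IsCoatom M)
    (hML : ¬ imSL F ≤ M) (he : Nonempty (cap M ≃* DihedralGroup 2)) : False := by
  obtain ⟨e⟩ := he
  have h2 : (2 : F) ≠ 0 := two_ne_zero_of_char (p := p) hp2
  have hall : ∀ u : DihedralGroup 2, u = 1 ∨ u = DihedralGroup.r 1 ∨ u = DihedralGroup.sr 0 ∨
      u = DihedralGroup.r 1 * DihedralGroup.sr 0 := by decide
  set x : PSL2 := (e.symm (DihedralGroup.r 1) : PSL2) with hxdef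
  set y : PSL2 := (e.symm (DihedralGroup.sr 0) : PSL2) with hydef
  have hx : orderOf x = 2 := by rw [hxdef, Subgroup.orderOf_coe, MulEquiv.orderOf_eq, DihedralGroup.orderOf_r_one]
  have hy : orderOf y = 2 := by rw [hydef, Subgroup.orderOf_coe, MulEquiv.orderOf_eq, DihedralGroup.orderOf_sr]
  have hne : x ≠ y := fun h => absurd (e.symm.injective (Subtype.ext h)) (by decide)
  have hab : ∀ a b : DihedralGroup 2, a * b = b * a := by decide
  have hcommN : ∀ a ∈ cap M, ∀ b ∈ cap M, a * b = b * a := fun a ha b hb =>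
    congrArg Subtype.val (e.injective (show e (⟨a, ha⟩ * ⟨b, hb⟩) = e (⟨b, hb⟩ * ⟨a, ha⟩) by
      rw [map_mul, map_mul, hab]))
  have hxM : x ∈ cap M := (e.symm _).2
  have hyM : y ∈ cap M := (e.symm _).2
  obtain ⟨X, Y, hX, hY, hXX, hYY, hYX⟩ := exists_lifts_four h2 hx hy (hcommN x hxM y hyM) hne
  obtain ⟨Z, hZ1, hZ2⟩ := exists_quaternion h2 hXX hYY hYX
    (trace_of_orderOf_two (hX.symm ▸ hx)) (trace_of_orderOf_two (hY.symm ▸ hy))
  have h1 : (Z : PSL2) * y * (Z : PSL2)⁻¹ = x := by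
    rw [← hY, ← hX, ← QuotientGroup.mk_mul, hZ1, QuotientGroup.mk_mul, mul_inv_cancel_right]
  have h2' : (Z : PSL2) * (x * y) * (Z : PSL2)⁻¹ = y := by
    rw [← hY, ← hX, ← QuotientGroup.mk_mul, ← QuotientGroup.mk_mul, hZ2, QuotientGroup.mk_mul,
      mul_inv_cancel_right]
  have h3 : (Z : PSL2) * x * (Z : PSL2)⁻¹ = y * x⁻¹ := by
    rw [eq_mul_inv_iff_mul_eq]
    calc _ = (Z : PSL2) * x * (Z : PSL2)⁻¹ * ((Z : PSL2) * y * (Z : PSL2)⁻¹) := by rw [h1]
      _ = (Z : PSL2) * (x * y) * (Z : PSL2)⁻¹ := by group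
      _ = y := h2'
  have hzM : (Z : PSL2) ∈ cap M := by
    refine mem_cap_of_normalizes (by omega) hM hML le_rfl (fun h => ?_)
      (fun g hg u hu => conj_mem_cap hg hu) fun u hu => ?_
    · rw [h, Subgroup.mem_bot] at hxM; rw [hxM, orderOf_one] at hx; omega
    · have hu' := congrArg (fun z : cap M => (z : PSL2)) (e.symm_apply_apply ⟨u, hu⟩)
      simp only at hu'
      rw [← hu']
      rcases hall (e ⟨u, hu⟩) with h | h | h | h <;> rw [h]
      · rw [map_one, Subgroup.coe_one, mul_one, mul_inv_cancel]; exact one_mem _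
      · rw [← hxdef, h3]; exact mul_mem hyM (inv_mem hxM)
      · rw [← hydef, h1]; exact hxM
      · rw [map_mul, Subgroup.coe_mul, ← hxdef, ← hydef, h2']; exact hyM
  rw [hcommN _ hzM y hyM, mul_inv_cancel_right] at h1
  exact hne h1.symm

end Cfsg.Agent.Lib.DicksonId
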