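import Cfsg.Agent.Lib.DicksonId.PGLTetra

/-!
Maximal subgroups of `PGL(2, q)`, `q` odd: subfield parts, and the list.
-/

set_option autoImplicit false

namespace Cfsg.Agent.Lib.DicksonId

open Matrix Cfsg.Agent.Lib.Linear
open Matrix.ProjGenLinGroup (mk)
open Cfsg.Agent.Lib.DicksonFull (pslExt slExt)

variable {F : Type*} [Field F] [Fintype F] {p : ℕ} [hp : Fact p.Prime] [CharP F p]

local notation "SL2" => Matrix.SpecialLinearGroup (Fin 2) F
local notation "M2" => Matrix (Fin 2) (Fin 2) F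
local notation "PSL2" => Matrix.ProjectiveSpecialLinearGroup (Fin 2) F
local notation "PGL2" => Matrix.ProjGenLinGroup (Fin 2) F
local notation "ι2" => (Matrix.ProjectiveSpecialLinearGroup.toPGL (n := Fin 2) (R := F))

omit [Fintype F] hp [CharP F p] in
theorem map_pgl_injective {K : Type*} [Field K] (φ : K →+* F) :
    Function.Injective (Matrix.ProjGenLinGroup.map (n := Fin 2) φ) := by
  rw [injective_iff_map_eq_one]
  intro z hz
  obtain ⟨g, rfl⟩ := Matrix.ProjGenLinGroup.mk_surjective z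
  rw [Matrix.ProjGenLinGroup.map_mk, Matrix.ProjGenLinGroup.mk_eq_one, Subgroup.mem_center_iff] at hz
  rw [Matrix.ProjGenLinGroup.mk_eq_one, Subgroup.mem_center_iff]
  intro h
  have := hz (GeneralLinearGroup.map φ h)
  rw [← map_mul, ← map_mul] at this
  exact Units.ext (Matrix.map_injective φ.injective (congrArg Units.val this))

omit [Fintype F] hp [CharP F p] in
theorem conjAut_map_pslExt {K : Type*} [Field K] (φ : K →+* F) (g : GL (Fin 2) K)
    (z : Matrix.ProjectiveSpecialLinearGroup (Fin 2) K) :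
    AutPSL.conjAut (GeneralLinearGroup.map φ g) (pslExt φ z) = pslExt φ (AutPSL.conjAut g z) := by
  obtain ⟨x, rfl⟩ := QuotientGroup.mk_surjective z
  rw [DicksonFull.pslExt_mk, AutPSL.conjAut_mk, AutPSL.conjAut_mk, DicksonFull.pslExt_mk]
  congr 1
  apply Subtype.ext
  ext i j
  rw [DicksonFull.slExt_apply, AutPSL.coe_conjSL, AutPSL.coe_conjSL]
  simp [Matrix.mul_apply, GeneralLinearGroup.map_apply, DicksonFull.slExt_apply, ← map_inv, map_sum, map_mul]

/-- Projective linear groups over two nested subfields. -/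
theorem map_range_le {k k' : ℕ} (hk' : 0 < k') (hdvd : k ∣ k') (φ : GaloisField p k →+* F)
    (φ' : GaloisField p k' →+* F) :
    (Matrix.ProjGenLinGroup.map (n := Fin 2) φ).range ≤ (Matrix.ProjGenLinGroup.map (n := Fin 2) φ').range := by
  have hsub := range_le_range (p := p) hk' hdvd φ φ'
  rintro _ ⟨z, rfl⟩
  obtain ⟨g, rfl⟩ := Matrix.ProjGenLinGroup.mk_surjective z
  choose G hG using fun i j => hsub ⟨(g : Matrix (Fin 2) (Fin 2) (GaloisField p k)) i j, rfl⟩
  have hmap : (Matrix.of G).map φ' = (g : Matrix (Fin 2) (Fin 2) (GaloisField p k)).map φ := by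
    ext i j
    exact hG i j
  have hd : (Matrix.of G).det ≠ 0 := fun h => by
    refine GeneralLinearGroup.det_ne_zero g (φ.injective ?_)
    rw [map_zero, RingHom.map_det, RingHom.mapMatrix_apply, ← hmap, ← RingHom.mapMatrix_apply,
      ← RingHom.map_det, h, map_zero]
  refine ⟨mk (GeneralLinearGroup.mkOfDetNeZero _ hd), ?_⟩
  rw [Matrix.ProjGenLinGroup.map_mk, Matrix.ProjGenLinGroup.map_mk]
  exact congrArg mk (Units.ext hmap)

theorem card_map_range {k : ℕ} (hk : 0 < k) (φ : GaloisField p k →+* F) :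
    Nat.card (Matrix.ProjGenLinGroup.map (n := Fin 2) φ).range = p ^ k * ((p ^ k - 1) * (p ^ k + 1)) := by
  letI : Fintype (GaloisField p k) := Fintype.ofFinite _
  rw [← Nat.card_congr (MonoidHom.ofInjective (map_pgl_injective φ)).toEquiv, Linear.card_PGL_eq_card_SL,
    card_SL_two, card_galois hk, mul_assoc]

theorem map_range_ne_top {k f : ℕ} (hk : 0 < k) (hq : Fintype.card F = p ^ f) (hkf : k < f)
    (φ : GaloisField p k →+* F) : (Matrix.ProjGenLinGroup.map (n := Fin 2) φ).range ≠ ⊤ := by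
  intro h
  have h1 := card_map_range hk φ
  rw [h, Subgroup.card_top, Linear.card_PGL_eq_card_SL, card_SL_two, mul_assoc] at h1
  have := form_strictMono (Nat.one_le_pow k p hp.out.pos)
    (show p ^ k < Fintype.card F from hq ▸ Nat.pow_lt_pow_right hp.out.one_lt hkf)
  omega

/-- A part of `PSL` type over a subfield. -/
theorem cap_pslExt (hp2 : p ≠ 2) (h5 : 5 ≤ Fintype.card F) {M : Subgroup PGL2} (hM : IsCoatom M)
    (hML : ¬ imSL F ≤ M) {k f : ℕ} (hk : 0 < k) (hk3 : 3 ≤ p ^ k) (hq : Fintype.card F = p ^ f)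
    (hkf : k ∣ f) {g : GL (Fin 2) F} {φ : GaloisField p k →+* F}
    (h : conjG g (cap M) = (pslExt φ).range) :
    ∃ r : ℕ, r.Prime ∧ Odd r ∧ f = k * r ∧
      Nonempty (M ≃* Matrix.ProjGenLinGroup (Fin 2) (GaloisField p k)) := by
  have h4 : 4 ≤ Fintype.card F := by omega
  have hn : (imSL F).Normal := Subgroup.normal_of_index_eq_two (index_imSL (p := p) hp2)
  obtain ⟨hM', hML', hcap⟩ := conj_setup hM hML hn g
  set M' := M.map (MulAut.conj (mk g)).toMonoidHom with hM'def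
  rw [h] at hcap
  have hc := two_mul_card_range hp2 hk φ
  have hf0 : 0 < f := by
    rcases Nat.eq_zero_or_pos f with e | e
    · rw [e, pow_zero] at hq; omega
    · exact e
  have hlt : k < f := by
    refine lt_of_le_of_ne (Nat.le_of_dvd hf0 hkf) fun e => cap_ne_top hML' ?_
    rw [hcap]
    apply Subgroup.eq_top_of_card_eq
    have := two_mul_card_PSL (F := F) hp2
    rw [hq, ← e] at this
    omega
  set R := (Matrix.ProjGenLinGroup.map (n := Fin 2) φ).range with hR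
  have hRM : R ≤ M' := by
    rintro _ ⟨z, rfl⟩
    obtain ⟨g₀, rfl⟩ := Matrix.ProjGenLinGroup.mk_surjective z
    rw [Matrix.ProjGenLinGroup.map_mk]
    refine mem_of_normalizes h4 hM' hML' (U := cap M') le_rfl (fun hb => ?_)
      (fun g hg u hu => conj_mem_cap hg hu) fun u hu => ?_
    · rw [hcap] at hb
      rw [hb, Subgroup.card_bot] at hc
      have := Nat.mul_le_mul hk3 (Nat.mul_le_mul (show 2 ≤ p ^ k - 1 by omega) (show 4 ≤ p ^ k + 1 by omega))
      omega
    · rw [hcap] at hu ⊢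
      obtain ⟨w, rfl⟩ := hu
      exact ⟨_, (conjAut_map_pslExt φ g₀ w).symm⟩
  have hMc : Nat.card M' = Nat.card R := by
    rw [card_cap (p := p) hp2 hM' hML', hcap, hc, hR, card_map_range hk φ]
  haveI : Finite PGL2 := Finite.of_surjective _ Matrix.ProjGenLinGroup.mk_surjective
  have hReq : R = M' := Subgroup.eq_of_le_of_card_ge hRM hMc.le
  have h2k : ¬ 2 * k ∣ f := by
    intro hd
    refine hML' (le_of_eq ?_)
    have hle : M' ≤ imSL F := by
      rw [← hReq]
      rintro _ ⟨z, rfl⟩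
      obtain ⟨g₀, rfl⟩ := Matrix.ProjGenLinGroup.mk_surjective z
      rw [Matrix.ProjGenLinGroup.map_mk, mem_imSL_iff]
      show IsSquare (((g₀ : Matrix (Fin 2) (Fin 2) (GaloisField p k)).map φ).det)
      rw [← RingHom.mapMatrix_apply, ← RingHom.map_det]
      exact isSquare_emb hp2 hk hq hd φ _
    rcases hle.eq_or_lt with e | e
    · exact e.symm
    · exfalso
      have := hM'.2 _ e
      have h2 := index_imSL (F := F) (p := p) hp2
      rw [this, Subgroup.index_top] at h2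
      omega
  obtain ⟨r, rfl⟩ := hkf
  have hodd : Odd r := Nat.not_even_iff_odd.mp fun ⟨t, ht⟩ => h2k ⟨t, by rw [ht]; ring⟩
  refine ⟨r, ?_, hodd, rfl, ⟨?_⟩⟩
  · by_contra hr
    have hr1 : 2 ≤ r := by
      rcases r with _ | _ | r
      · simp at hlt
      · simp at hlt
      · omega
    obtain ⟨a, ⟨b, rfl⟩, ha1, har⟩ := Nat.exists_dvd_of_not_prime2 hr1 hr
    obtain ⟨φ'⟩ := exists_emb (p := p) (k := k * a) (Nat.mul_pos hk (by omega)) hq ⟨b, by ring⟩
    have hle := map_range_le (Nat.mul_pos hk (by omega : 0 < a)) (dvd_mul_right k a) φ φ'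
    have hlt' : R < (Matrix.ProjGenLinGroup.map (n := Fin 2) φ').range := lt_of_le_of_ne hle fun e => by
      have h1 := card_map_range hk φ
      rw [← hR, e, card_map_range (Nat.mul_pos hk (by omega : 0 < a)) φ'] at h1
      have := form_strictMono (Nat.one_le_pow k p hp.out.pos)
        (Nat.pow_lt_pow_right hp.out.one_lt (lt_mul_of_one_lt_right hk ha1) : p ^ k < p ^ (k * a))
      omega
    rw [hReq] at hlt'
    exact map_range_ne_top (Nat.mul_pos hk (by omega : 0 < a)) hq (Nat.mul_lt_mul_of_pos_left har hk) φ'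
      (hM'.2 _ hlt')
  · exact (M.equivMapOfInjective _ (MulEquiv.injective _)).trans
      ((MulEquiv.subgroupCongr (hM'def ▸ hReq.symm)).trans
        (MonoidHom.ofInjective (map_pgl_injective φ)).symm)

/-- No part of `PGL` type over a subfield. -/
theorem cap_not_pgl (hp2 : p ≠ 2) {M : Subgroup PGL2} (hM : IsCoatom M) (hML : ¬ imSL F ≤ M) {k : ℕ}
    (hk : 0 < k) (hk3 : 3 ≤ p ^ k) {g : GL (Fin 2) F} {φ : GaloisField p k →+* F}
    {ψ : Matrix.ProjGenLinGroup (Fin 2) (GaloisField p k) →* PSL2} (hψ : IsPglHom φ ψ)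
    (h : conjG g (cap M) = ψ.range) : False := by
  letI : Fintype (GaloisField p k) := Fintype.ofFinite _
  have hn : (imSL F).Normal := Subgroup.normal_of_index_eq_two (index_imSL (p := p) hp2)
  obtain ⟨hM', hML', hcap⟩ := conj_setup hM hML hn g
  set M' := M.map (MulAut.conj (mk g)).toMonoidHom
  rw [h] at hcap
  have h2 : (2 : GaloisField p k) ≠ 0 := two_ne_zero_of_char (p := p) hp2
  obtain ⟨a, b, ha, hb, hap, hbp, hab⟩ := exists_noncomm_range (p := p) h2 φ
  have hm : ∀ u ∈ (pslExt φ).range, ι2 u ∈ M' := fun u hu => by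
    have : u ∈ cap M' := hcap ▸ pslExt_range_le hψ hu
    exact this
  have hMc : Nat.card M' = 2 * (p ^ k * ((p ^ k - 1) * (p ^ k + 1))) := by
    rw [card_cap (p := p) hp2 hM' hML', hcap, card_pgl_range hψ, card_galois hk]
  rcases pgl_dvd_cases hp2 M' (hm a ha) (hm b hb) (by rw [← map_pow, hap, map_one])
      (by rw [← map_pow, hbp, map_one])
      (fun e => hab (Matrix.ProjectiveSpecialLinearGroup.toPGL_injective (by rw [map_mul, map_mul]; exact e.eq)))
    with e | ⟨j, c, hj, hc1, hc2, e⟩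
  · rw [hMc] at e
    rcases (show p ^ k = 3 ∨ p ^ k = 4 ∨ 5 ≤ p ^ k by omega) with e' | e' | e'
    · rw [e'] at e; omega
    · rw [e'] at e; omega
    · have := Nat.mul_le_mul e' (Nat.mul_le_mul (show 4 ≤ p ^ k - 1 by omega) (show 6 ≤ p ^ k + 1 by omega))
      omega
  rw [hMc] at e
  set Q := p ^ k with hQ
  have hpos : 0 < Q * ((Q - 1) * (Q + 1)) :=
    Nat.mul_pos (by omega) (Nat.mul_pos (by omega) (by omega))
  have hjk : k < j := by
    by_contra hle
    have h1 : p ^ j ≤ Q := Nat.pow_le_pow_right hp.out.pos (by omega)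
    have h2 := Nat.mul_le_mul h1 (Nat.mul_le_mul (Nat.sub_le_sub_right h1 1) (Nat.add_le_add_right h1 1))
    nlinarith
  have h3 : 3 * Q ≤ p ^ j := by
    have h1 : p ^ (k + 1) ≤ p ^ j := Nat.pow_le_pow_right hp.out.pos hjk
    have hp3 : 3 ≤ p := by have := hp.out.two_le; omega
    rw [pow_succ] at h1
    calc 3 * Q ≤ p * Q := Nat.mul_le_mul_right Q hp3
      _ = Q * p := mul_comm _ _
      _ ≤ p ^ j := h1
  have h4 := Nat.mul_le_mul h3 (Nat.mul_le_mul (show 3 * (Q - 1) ≤ p ^ j - 1 by omega)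
    (show 2 * (Q + 1) ≤ p ^ j + 1 by omega))
  rw [show 3 * Q * (3 * (Q - 1) * (2 * (Q + 1))) = 18 * (Q * ((Q - 1) * (Q + 1))) by ring, ← e] at h4
  have h5 := Nat.mul_le_mul_right (2 * (Q * ((Q - 1) * (Q + 1)))) hc2
  omega

/-- The maximal subgroups of `PGL(2, q)`, `q` odd, not containing `PSL(2, q)`, by their `PSL` part. -/
theorem pgl_cases (hp2 : p ≠ 2) (h5 : 5 ≤ Fintype.card F) {M : Subgroup PGL2} (hM : IsCoatom M)
    (hML : ¬ imSL F ≤ M) :
    (∃ P : Sylow p PSL2, cap M = Subgroup.normalizer ((P : Subgroup PSL2) : Set PSL2)) ∨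
    (∃ k, ∃ x ∈ cap M, orderOf x = k ∧ ¬ p ∣ k ∧ 3 ≤ k ∧
      (2 * k = Fintype.card F - 1 ∨ 2 * k = Fintype.card F + 1) ∧
      Nonempty (cap M ≃* DihedralGroup k) ∧ Nonempty (M ≃* DihedralGroup (2 * k))) ∨
    (Fintype.card F = p ∧ (p % 8 = 3 ∨ p % 8 = 5) ∧ Nonempty (cap M ≃* alternatingGroup (Fin 4)) ∧
      Nonempty (M ≃* Equiv.Perm (Fin 4))) ∨
    ∃ (k r : ℕ) (g : GL (Fin 2) F) (φ : GaloisField p k →+* F), 0 < k ∧ 3 ≤ p ^ k ∧ r.Prime ∧ Odd r ∧
      Fintype.card F = p ^ (k * r) ∧ conjG g (cap M) = (pslExt φ).range ∧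
      Nonempty (M ≃* Matrix.ProjGenLinGroup (Fin 2) (GaloisField p k)) := by
  rcases classify (p := p) (cap M) with ⟨hc, hn⟩ | ⟨k, hk, ⟨x, hxN, hx⟩, he⟩ | ⟨P, hP⟩ | ⟨hn, he⟩ | ⟨hn, he⟩ |
      ⟨hn, he⟩ | ⟨k, hk, h3, hdvd, g, φ, hφ⟩
  · exact (cap_not_cyclic hp2 h5 hM hML hc hn).elim
  · obtain ⟨h1, h2, h3⟩ := cap_dihedral hp2 h5 hM hML hk hxN hx he
    exact Or.inr (Or.inl ⟨k, x, hxN, hx, hk, h1, h2, he, h3⟩)
  · by_cases hd : p ∣ Nat.card (cap M)
    · exact Or.inl ⟨P, cap_borel hp2 h5 hM hML hP hd⟩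
    · exact (cap_not_cyclic hp2 h5 hM hML ((borel_props hp2 h5 P).2 _ hP hd) hd).elim
  · obtain ⟨h1, h2, h3⟩ := cap_alt_four hp2 h5 hM hML he hn
    exact Or.inr (Or.inr (Or.inl ⟨h1, h2, he, h3⟩))
  · exact (cap_not_perm_four hp2 hM hML he hn).elim
  · exact (cap_not_alt_five hp2 hM hML he hn).elim
  · obtain ⟨f, -, hq⟩ := exists_card_eq_pow (F := F) p
    rcases hφ with hφ | ⟨-, -, ψ, hψ, hφ⟩
    · obtain ⟨r, hr, hodd, rfl, he⟩ := cap_pslExt hp2 h5 hM hML hk h3 hq (hdvd f hq) hφ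
      exact Or.inr (Or.inr (Or.inr ⟨k, r, g, φ, hk, h3, hr, hodd, hq, hφ, he⟩))
    · exact (cap_not_pgl hp2 hM hML hk h3 hψ hφ).elim

end Cfsg.Agent.Lib.DicksonId
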