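import Cfsg.Agent.Lib.DicksonId.PGLDihedral
import Cfsg.Agent.Lib.DicksonId.MaxPSLMain

/-!
Maximal subgroups of `PGL(2, q)`, `q` odd: polyhedral parts.
-/

set_option autoImplicit false

namespace Cfsg.Agent.Lib.DicksonId

open Matrix Cfsg.Agent.Lib.Linear
open Matrix.ProjGenLinGroup (mk)
open Cfsg.Agent.Lib.DicksonFull (pslExt slExt)

variable {F : Type*} [Field F] [Fintype F] {p : ℕ} [hp : Fact p.Prime] [CharP F p]

local notation "SL2" => Matrix.SpecialLinearGroup (Fin 2) F
local notation "M2" => Matrix (Fin 2) (Fin 2) F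
local notation "PSL2" => Matrix.ProjectiveSpecialLinearGroup (Fin 2) F
local notation "PGL2" => Matrix.ProjGenLinGroup (Fin 2) F
local notation "ι2" => (Matrix.ProjectiveSpecialLinearGroup.toPGL (n := Fin 2) (R := F))

omit [Fintype F] hp [CharP F p] in
theorem toPGL_pslExt {K : Type*} [Field K] (φ : K →+* F) (x : Matrix.SpecialLinearGroup (Fin 2) K) :
    ι2 (pslExt φ x) = Matrix.ProjGenLinGroup.map φ (mk (Matrix.SpecialLinearGroup.toGL x)) := by
  rw [DicksonFull.pslExt_mk, Matrix.ProjectiveSpecialLinearGroup.toPGL_mk, Matrix.ProjGenLinGroup.map_mk]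
  exact congrArg mk (Units.ext rfl)

omit [Fintype F] hp [CharP F p] in
theorem toPGL_mem_map_range {K : Type*} [Field K] (φ : K →+* F) {u : PSL2} (hu : u ∈ (pslExt φ).range) :
    ι2 u ∈ (Matrix.ProjGenLinGroup.map (n := Fin 2) φ).range := by
  obtain ⟨z, rfl⟩ := hu
  obtain ⟨x, rfl⟩ := QuotientGroup.mk_surjective z
  exact ⟨_, (toPGL_pslExt φ x).symm⟩

omit [Fintype F] hp [CharP F p] in
theorem conj_mem_closure (f : MulAut PSL2) {S : Set PSL2} (h : ∀ s ∈ S, f s ∈ Subgroup.closure S)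
    {u : PSL2} (hu : u ∈ Subgroup.closure S) : f u ∈ Subgroup.closure S :=
  (Subgroup.closure_le ((Subgroup.closure S).comap f.toMonoidHom)).mpr h hu

set_option synthInstance.maxHeartbeats 400000 in
set_option synthInstance.maxSize 1000 in
omit [Fintype F] hp [CharP F p] in
theorem alt_four_involutions : ∀ a b c : alternatingGroup (Fin 4), a ^ 2 = 1 → b ^ 2 = 1 → c ^ 2 = 1 →
    a ≠ 1 → b ≠ 1 → c ≠ 1 → a ≠ b → a * b = b * a ∧ (c = a ∨ c = b ∨ c = a * b) := by
  have key : ∀ a : alternatingGroup (Fin 4), a ^ 2 = 1 → a ≠ 1 → ∀ b : alternatingGroup (Fin 4),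
      b ^ 2 = 1 → b ≠ 1 → a ≠ b → a * b = b * a ∧
        ∀ c : alternatingGroup (Fin 4), c ^ 2 = 1 → c ≠ 1 → c = a ∨ c = b ∨ c = a * b := by
    decide +kernel
  exact fun a b c ha hb hc ha1 hb1 hc1 hab =>
    ⟨(key a ha ha1 b hb hb1 hab).1, (key a ha ha1 b hb hb1 hab).2 c hc hc1⟩

omit [Fintype F] hp [CharP F p] in
theorem alt_four_two : ∃ a b : alternatingGroup (Fin 4), a ^ 2 = 1 ∧ b ^ 2 = 1 ∧ a ≠ 1 ∧ b ≠ 1 ∧ a ≠ b := by
  decide +kernel

/-- The four group of a tetrahedral part and its invariance. -/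
theorem exists_four_group {M : Subgroup PGL2} (he : Nonempty (cap M ≃* alternatingGroup (Fin 4))) :
    ∃ x y : PSL2, x ∈ cap M ∧ y ∈ cap M ∧ orderOf x = 2 ∧ orderOf y = 2 ∧ Commute x y ∧ x ≠ y ∧
      ∀ g : GL (Fin 2) F, mk g ∈ M → ∀ u ∈ Subgroup.closure {x, y},
        AutPSL.conjAut g u ∈ Subgroup.closure {x, y} := by
  obtain ⟨e⟩ := he
  obtain ⟨a, b, ha, hb, ha1, hb1, hab⟩ := alt_four_two
  haveI : Fact (Nat.Prime 2) := ⟨Nat.prime_two⟩
  have hord : ∀ c : alternatingGroup (Fin 4), c ^ 2 = 1 → c ≠ 1 → orderOf (e.symm c : PSL2) = 2 :=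
    fun c hc hc1 => by rw [Subgroup.orderOf_coe, MulEquiv.orderOf_eq]; exact orderOf_eq_prime hc hc1
  refine ⟨(e.symm a : PSL2), (e.symm b : PSL2), (e.symm a).2, (e.symm b).2, hord a ha ha1, hord b hb hb1,
    ?_, fun h => hab (e.symm.injective (Subtype.ext h)), fun g hg u hu => ?_⟩
  · have := congrArg (fun c => ((e.symm c : cap M) : PSL2))
      (alt_four_involutions a b a ha hb ha ha1 hb1 ha1 hab).1
    simp only [map_mul, Subgroup.coe_mul] at this
    exact this
  refine conj_mem_closure _ ?_ hu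
  have key : ∀ c : alternatingGroup (Fin 4), c ^ 2 = 1 → c ≠ 1 →
      AutPSL.conjAut g (e.symm c : PSL2) ∈ Subgroup.closure {(e.symm a : PSL2), (e.symm b : PSL2)} := by
    intro c hc hc1
    set d : cap M := ⟨_, conj_mem_cap hg (e.symm c).2⟩ with hd
    have hd2 : orderOf (e d) = 2 := by
      rw [MulEquiv.orderOf_eq, hd, Subgroup.orderOf_mk, MulEquiv.orderOf_eq, hord c hc hc1]
    have hd1 : e d ≠ 1 := fun h => by rw [h, orderOf_one] at hd2; omega
    have hdd : (e d) ^ 2 = 1 := orderOf_dvd_iff_pow_eq_one.mp hd2.dvd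
    have hsub := fun s (hs : s ∈ ({(e.symm a : PSL2), (e.symm b : PSL2)} : Set PSL2)) =>
      Subgroup.subset_closure hs
    show (d : PSL2) ∈ _
    rcases (alt_four_involutions a b (e d) ha hb hdd ha1 hb1 hd1 hab).2 with h | h | h <;>
      rw [← e.symm_apply_apply d, h]
    · exact hsub _ (Or.inl rfl)
    · exact hsub _ (Or.inr rfl)
    · rw [map_mul, Subgroup.coe_mul]
      exact mul_mem (hsub _ (Or.inl rfl)) (hsub _ (Or.inr rfl))
  rintro _ (rfl | rfl)
  · exact key a ha ha1
  · exact key b hb hb1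

/-- A tetrahedral part forces a prime field. -/
theorem cap_alt_four (hp2 : p ≠ 2) (h5 : 5 ≤ Fintype.card F) {M : Subgroup PGL2} (hM : IsCoatom M)
    (hML : ¬ imSL F ≤ M) (he : Nonempty (cap M ≃* alternatingGroup (Fin 4)))
    (hpN : ¬ p ∣ Nat.card (cap M)) :
    Fintype.card F = p ∧ (p % 8 = 3 ∨ p % 8 = 5) ∧ Nonempty (M ≃* Equiv.Perm (Fin 4)) := by
  have h4 : 4 ≤ Fintype.card F := by omega
  have h2 : (2 : F) ≠ 0 := two_ne_zero_of_char (p := p) hp2
  haveI hn : (imSL F).Normal := Subgroup.normal_of_index_eq_two (index_imSL (p := p) hp2)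
  have hcard := card_of_equiv_alt_four he
  have hp5 : 5 ≤ p := five_le_prime (by rw [hcard]; norm_num : 6 ∣ Nat.card (cap M)) hpN
  have hMc : Nat.card M = 24 := by rw [card_cap (p := p) hp2 hM hML, hcard]
  have hS : Nonempty (M ≃* Equiv.Perm (Fin 4)) := by
    rcases pgl_coprime_cases hp2 M (by
        rw [hMc]; exact fun h => hpN (by
          rw [hcard]
          exact ((Nat.coprime_primes hp.out Nat.prime_two).mpr hp2).dvd_of_dvd_mul_left
            (show p ∣ 2 * 12 by norm_num; exact h))) with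
      h | ⟨j, ⟨y, hy, hyj⟩, ⟨d⟩⟩ | ⟨⟨d⟩⟩ | h | ⟨⟨d⟩⟩
    · exfalso
      obtain ⟨e⟩ := he
      have hnc : ∃ a b : alternatingGroup (Fin 4), a * b ≠ b * a := by decide +kernel
      obtain ⟨a, b, hab⟩ := hnc
      refine hab (e.symm.injective (Subtype.ext ?_))
      rw [map_mul, map_mul, Subgroup.coe_mul, Subgroup.coe_mul]
      exact commute_of_isCyclic h (e.symm a).2 (e.symm b).2
    · exfalso
      rw [Nat.card_congr d.toEquiv, DihedralGroup.nat_card] at hMc
      obtain ⟨u, hu, huo⟩ := exists_orderOf_half (p := p) hp2 hy (m := 6) (by omega)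
      obtain ⟨e⟩ := he
      have hall : ∀ a : alternatingGroup (Fin 4), a ^ 2 = 1 ∨ a ^ 3 = 1 := by decide +kernel
      rcases dvd_of_equiv e hall hu with h | h <;> rw [huo] at h <;>
        have := Nat.le_of_dvd (by norm_num) h <;> omega
    · rw [Nat.card_congr d.toEquiv, nat_card_alternatingGroup, Nat.card_fin] at hMc
      norm_num [Nat.factorial] at hMc
    · exact h
    · rw [Nat.card_congr d.toEquiv, nat_card_alternatingGroup, Nat.card_fin] at hMc
      norm_num [Nat.factorial] at hMc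
  have h8 : ¬ (Fintype.card F % 8 = 1 ∨ Fintype.card F % 8 = 7) := by
    intro h
    obtain ⟨φ, hφ⟩ := exists_octa (F := F) h2 h
    obtain ⟨A, hA, hA'⟩ := exists_tetra_of_perm φ hφ
    obtain ⟨g, hg⟩ := hA'.exists_conj h2 (τ := 1)
      (fun h => h2 (by linear_combination (-1) * h)) (hasPair_alt_four he)
    set X := conjG g φ.range
    have hle : cap M ≤ X := hg ▸ conjG_mono g hA
    have hXc : Nat.card X = 24 := by
      rw [card_conjG, card_of_equiv_perm_four ⟨(MonoidHom.ofInjective hφ).symm⟩]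
    have hidx : ((cap M).subgroupOf X).index = 2 := by
      have h1 := Subgroup.card_mul_index ((cap M).subgroupOf X)
      rw [Nat.card_congr (Subgroup.subgroupOfEquivOfLe hle).toEquiv, hcard, hXc] at h1
      omega
    haveI := Subgroup.normal_of_index_eq_two hidx
    have hnorm := (Subgroup.normal_subgroupOf_iff_le_normalizer hle).mp inferInstance
    have : X ≤ cap M := fun x hx => by
      refine mem_cap_of_normalizes h4 hM hML le_rfl (fun h => ?_) (fun g hg u hu => conj_mem_cap hg hu)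
        fun u hu => (Subgroup.mem_normalizer_iff.mp (hnorm hx) u).mp hu
      rw [h, Subgroup.card_bot] at hcard; omega
    have := Subgroup.card_le_of_le this
    omega
  obtain ⟨f, hf, hq⟩ := exists_card_eq_pow (F := F) p
  have hp8 : (Odd f) ∧ (p % 8 = 3 ∨ p % 8 = 5) := by
    have h := pow_mod_eight (p := p) (f := f) hp2
    rw [← hq] at h
    have hodd : p % 2 = 1 := Nat.odd_iff.mp (hp.out.odd_of_ne_two hp2)
    rcases Nat.even_or_odd f with hev | hod
    · rw [if_pos hev] at h; omega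
    · rw [if_neg (Nat.not_even_iff_odd.mpr hod)] at h
      exact ⟨hod, by omega⟩
  suffices hf1 : f = 1 by exact ⟨by rw [hq, hf1, pow_one], hp8.2, hS⟩
  by_contra hne
  -- everything lives over the prime field
  letI : Fintype (GaloisField p 1) := Fintype.ofFinite _
  have hK : Fintype.card (GaloisField p 1) = p := by rw [card_galois one_pos, pow_one]
  obtain ⟨φ⟩ := exists_emb (p := p) one_pos hq (one_dvd f)
  have hpair : HasPair (cap M) (φ 1) := by rw [map_one]; exact hasPair_alt_four he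
  obtain ⟨g, hg⟩ := hpair.exists_conj_le h2 φ (by
    rw [map_one]; exact fun h => h2 (by linear_combination (-1) * h))
  obtain ⟨hM', hML', hcap⟩ := conj_setup hM hML hn g
  set M' := M.map (MulAut.conj (mk g)).toMonoidHom
  have he' : Nonempty (cap M' ≃* alternatingGroup (Fin 4)) := by
    obtain ⟨e⟩ := he
    exact ⟨((MulEquiv.subgroupCongr hcap).trans (conjGEquiv g (cap M)).symm).trans e⟩
  rw [← hcap] at hg
  obtain ⟨x, y, hxN, hyN, hx, hy, hxy, hne', hinv⟩ := exists_four_group he'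
  obtain ⟨X, Y, hX, hY, hXX, hYY, hYX⟩ := exists_lifts_four h2 hx hy hxy hne'
  have hXt : Matrix.trace (X : M2) = 0 := trace_of_orderOf_two (hX.symm ▸ hx)
  obtain ⟨z, hz⟩ := hg hxN
  obtain ⟨X₀, rfl⟩ := QuotientGroup.mk_surjective z
  rw [DicksonFull.pslExt_mk, ← hX] at hz
  obtain ⟨c, hc⟩ := (AutPSL.mk_eq_mk_iff _ _).mp hz
  obtain ⟨c₀, rfl⟩ : ∃ c₀, φ c₀ = c := by
    have hd := congrArg Matrix.det hc
    rw [Matrix.det_smul, X.2, (slExt φ X₀).2, Fintype.card_fin, mul_one] at hd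
    rcases sq_eq_one_iff.mp hd.symm with rfl | rfl
    · exact ⟨1, map_one φ⟩
    · exact ⟨-1, by rw [map_neg, map_one]⟩
  have hdet : ((1 : M2) + (X : M2)).det = 2 := by
    have hd := sl2_det X
    rw [Matrix.trace_fin_two] at hXt
    rw [Matrix.det_fin_two]
    simp
    linear_combination hd + hXt
  let G₁ : GL (Fin 2) F := GeneralLinearGroup.mkOfDetNeZero ((1 : M2) + (X : M2)) (by rw [hdet]; exact h2)
  have hGX : AutPSL.conjSL G₁ X = X := conjSL_eq_of_mul (by
    show ((1 : M2) + X) * (X : M2) = (X : M2) * ((1 : M2) + X)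
    rw [add_mul, mul_add, one_mul, mul_one])
  have hGY : AutPSL.conjSL G₁ Y = X * Y := conjSL_eq_of_mul (by
    show ((1 : M2) + X) * (Y : M2) = (X : M2) * (Y : M2) * ((1 : M2) + X)
    rw [add_mul, mul_add, one_mul, mul_one, mul_assoc (X : M2) (Y : M2) (X : M2), hYX, mul_neg, ← mul_assoc,
      hXX, neg_one_mul, neg_neg, add_comm])
  have hG1 : mk G₁ ∈ M' := by
    refine mem_of_normalizes h4 hM' hML' (U := Subgroup.closure {x, y}) ((Subgroup.closure_le _).mpr ?_)
      (fun h => ?_) hinv fun u hu => conj_mem_closure _ ?_ hu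
    · rintro _ (rfl | rfl) <;> assumption
    · have : x ∈ Subgroup.closure {x, y} := Subgroup.subset_closure (Or.inl rfl)
      rw [h, Subgroup.mem_bot] at this; rw [this, orderOf_one] at hx; omega
    · rintro _ (rfl | rfl)
      · rw [← hX, AutPSL.conjAut_mk, hGX]; exact Subgroup.subset_closure (Or.inl rfl)
      · rw [← hY, AutPSL.conjAut_mk, hGY, QuotientGroup.mk_mul, hX, hY]
        exact mul_mem (Subgroup.subset_closure (Or.inl rfl)) (Subgroup.subset_closure (Or.inr rfl))
  set R := (Matrix.ProjGenLinGroup.map (n := Fin 2) φ).range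
  have hG1R : mk G₁ ∈ R := by
    have hmat : (1 : M2) + (X : M2) =
        ((1 : Matrix (Fin 2) (Fin 2) (GaloisField p 1)) + c₀ • (X₀ : Matrix (Fin 2) (Fin 2) _)).map φ := by
      rw [hc]
      ext i j
      simp [Matrix.map_apply, DicksonFull.slExt_apply, Matrix.one_apply, apply_ite φ]
    have hd0 : ((1 : Matrix (Fin 2) (Fin 2) (GaloisField p 1)) + c₀ • (X₀ : Matrix (Fin 2) (Fin 2) _)).det ≠ 0 := by
      intro h
      apply h2
      rw [← hdet, hmat, ← RingHom.mapMatrix_apply, ← RingHom.map_det, h, map_zero]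
    refine ⟨mk (GeneralLinearGroup.mkOfDetNeZero _ hd0), ?_⟩
    rw [Matrix.ProjGenLinGroup.map_mk]
    exact congrArg mk (Units.ext hmat.symm)
  have hG1L : mk G₁ ∉ imSL F := by
    rw [mem_imSL_iff, show (G₁ : M2).det = 2 from hdet, FiniteField.isSquare_two_iff]
    have h := pow_mod_eight (p := p) (f := f) hp2
    rw [← hq, if_neg (Nat.not_even_iff_odd.mpr hp8.1)] at h
    have := hp8.2
    omega
  have hMR : M' ≤ R := by
    intro m hm
    have key : ∀ m ∈ M', m ∈ imSL F → m ∈ R := by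
      intro m hm hmL
      rw [imSL_eq] at hmL
      obtain ⟨u, rfl⟩ := hmL
      exact toPGL_mem_map_range φ (hg hm)
    by_cases hmL : m ∈ imSL F
    · exact key m hm hmL
    · have h1 := key _ (mul_mem hm hG1) ((Subgroup.mul_mem_iff_of_index_two (index_imSL (p := p) hp2)).mpr
        ⟨fun h => absurd h hmL, fun h => absurd h hG1L⟩)
      rw [← mul_inv_cancel_right m (mk G₁)]
      exact mul_mem h1 (inv_mem hG1R)
  have hRtop : R ≠ ⊤ := by
    intro htop
    haveI : Finite (Matrix.ProjGenLinGroup (Fin 2) (GaloisField p 1)) :=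
      Finite.of_surjective _ Matrix.ProjGenLinGroup.mk_surjective
    have h1 : Nat.card R ≤ Nat.card (Matrix.ProjGenLinGroup (Fin 2) (GaloisField p 1)) :=
      Nat.card_le_card_of_surjective _ (MonoidHom.rangeRestrict_surjective _)
    rw [htop, Subgroup.card_top, Linear.card_PGL_eq_card_SL, Linear.card_PGL_eq_card_SL, card_SL_two,
      card_SL_two, hK, mul_assoc, mul_assoc] at h1
    have := form_strictMono (Nat.one_le_of_lt hp5) (show p < Fintype.card F by
      rw [hq]; exact lt_self_pow₀ hp.out.one_lt (by omega))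
    omega
  rcases hMR.eq_or_lt with e | e
  · have hle : (pslExt φ).range ≤ cap M' := fun u hu => by
      rw [Subgroup.mem_comap, e]; exact toPGL_mem_map_range φ hu
    have h1 := Subgroup.card_le_of_le hle
    have h2' := two_mul_card_range hp2 one_pos φ
    rw [pow_one] at h2'
    rw [card_of_equiv_alt_four he'] at h1
    have := Nat.mul_le_mul hp5 (Nat.mul_le_mul (show 4 ≤ p - 1 by omega) (show 6 ≤ p + 1 by omega))
    omega
  · exact hRtop (hM'.2 R e)

/-- No octahedral part. -/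
theorem cap_not_perm_four (hp2 : p ≠ 2) {M : Subgroup PGL2} (hM : IsCoatom M)
    (hML : ¬ imSL F ≤ M) (he : Nonempty (cap M ≃* Equiv.Perm (Fin 4)))
    (hpN : ¬ p ∣ Nat.card (cap M)) : False := by
  have hMc : Nat.card M = 48 := by rw [card_cap (p := p) hp2 hM hML, card_of_equiv_perm_four he]
  rcases pgl_coprime_cases hp2 M (by
      rw [hMc]; exact fun h => hpN (by
        rw [card_of_equiv_perm_four he]
        exact ((Nat.coprime_primes hp.out Nat.prime_two).mpr hp2).dvd_of_dvd_mul_left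
          (show p ∣ 2 * 24 by norm_num; exact h))) with
    h | ⟨j, ⟨y, hy, hyj⟩, ⟨d⟩⟩ | ⟨⟨d⟩⟩ | ⟨⟨d⟩⟩ | ⟨⟨d⟩⟩
  · obtain ⟨e⟩ := he
    have hnc : ∃ a b : Equiv.Perm (Fin 4), a * b ≠ b * a := by decide +kernel
    obtain ⟨a, b, hab⟩ := hnc
    refine hab (e.symm.injective (Subtype.ext ?_))
    rw [map_mul, map_mul, Subgroup.coe_mul, Subgroup.coe_mul]
    exact commute_of_isCyclic h (e.symm a).2 (e.symm b).2
  · rw [Nat.card_congr d.toEquiv, DihedralGroup.nat_card] at hMc
    obtain ⟨u, hu, huo⟩ := exists_orderOf_half (p := p) hp2 hy (m := 12) (by omega)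
    obtain ⟨e⟩ := he
    rcases dvd_of_equiv e perm_four_orders hu with h | h <;> rw [huo] at h <;>
      have := Nat.le_of_dvd (by norm_num) h <;> omega
  · rw [Nat.card_congr d.toEquiv, nat_card_alternatingGroup, Nat.card_fin] at hMc
    norm_num [Nat.factorial] at hMc
  · rw [Nat.card_congr d.toEquiv, Nat.card_eq_fintype_card, Fintype.card_perm, Fintype.card_fin] at hMc
    norm_num [Nat.factorial] at hMc
  · rw [Nat.card_congr d.toEquiv, nat_card_alternatingGroup, Nat.card_fin] at hMc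
    norm_num [Nat.factorial] at hMc

/-- No icosahedral part. -/
theorem cap_not_alt_five (hp2 : p ≠ 2) {M : Subgroup PGL2} (hM : IsCoatom M)
    (hML : ¬ imSL F ≤ M) (he : Nonempty (cap M ≃* alternatingGroup (Fin 5)))
    (hpN : ¬ p ∣ Nat.card (cap M) ∨ p = 3) : False := by
  have hc := card_of_equiv_alt_five he
  have hMc : Nat.card M = 120 := by rw [card_cap (p := p) hp2 hM hML, hc]
  obtain ⟨e⟩ := he
  by_cases hp3 : p = 3
  · subst hp3
    have hnc : ∃ a b : alternatingGroup (Fin 5), a ^ 3 = 1 ∧ b ^ 3 = 1 ∧ a * b ≠ b * a := by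
      refine ⟨⟨Equiv.swap 0 1 * Equiv.swap 1 2, Equiv.Perm.mem_alternatingGroup.mpr (by decide +kernel)⟩,
        ⟨Equiv.swap 2 3 * Equiv.swap 3 4, Equiv.Perm.mem_alternatingGroup.mpr (by decide +kernel)⟩, ?_, ?_, ?_⟩ <;>
        decide +kernel
    obtain ⟨a, b, ha, hb, hab⟩ := hnc
    let ψ : cap M →* M := (ι2).subgroupComap M
    have hψ : Function.Injective ψ := fun u v h =>
      Subtype.ext (Matrix.ProjectiveSpecialLinearGroup.toPGL_injective (congrArg Subtype.val h))
    rcases pgl_dvd_cases hp2 M (ψ (e.symm a)).2 (ψ (e.symm b)).2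
        (by rw [← SubmonoidClass.coe_pow, ← map_pow, ← map_pow, ha, map_one, map_one]; rfl)
        (by rw [← SubmonoidClass.coe_pow, ← map_pow, ← map_pow, hb, map_one, map_one]; rfl)
        (fun h => hab (e.symm.injective (hψ (Subtype.ext (by
          rw [map_mul, map_mul, map_mul, map_mul, Subgroup.coe_mul, Subgroup.coe_mul]; exact h.eq))))) with
      h | ⟨j, c, hj, hc1, hc2, h⟩
    · omega
    · rw [hMc] at h
      rcases (show j = 1 ∨ 2 ≤ j by omega) with rfl | hj2
      · omega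
      · have h9 : 9 ≤ 3 ^ j := le_trans (by norm_num) (Nat.pow_le_pow_right (by norm_num) hj2)
        have := Nat.mul_le_mul h9 (Nat.mul_le_mul (show 8 ≤ 3 ^ j - 1 by omega) (show 10 ≤ 3 ^ j + 1 by omega))
        omega
  have hpM : ¬ p ∣ Nat.card M := by
    rw [hMc]
    exact fun h => hpN.resolve_right hp3 (by
      rw [hc]
      exact ((Nat.coprime_primes hp.out Nat.prime_two).mpr hp2).dvd_of_dvd_mul_left
        (show p ∣ 2 * 60 by norm_num; exact h))
  rcases pgl_coprime_cases hp2 M hpM with h | ⟨j, ⟨y, hy, hyj⟩, ⟨d⟩⟩ | ⟨⟨d⟩⟩ | ⟨⟨d⟩⟩ | ⟨⟨d⟩⟩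
  · have hnc : ∃ a b : alternatingGroup (Fin 5), a * b ≠ b * a := by
      refine ⟨⟨Equiv.swap 0 1 * Equiv.swap 1 2, Equiv.Perm.mem_alternatingGroup.mpr (by decide +kernel)⟩,
        ⟨Equiv.swap 2 3 * Equiv.swap 3 4, Equiv.Perm.mem_alternatingGroup.mpr (by decide +kernel)⟩, ?_⟩
      decide +kernel
    obtain ⟨a, b, hab⟩ := hnc
    refine hab (e.symm.injective (Subtype.ext ?_))
    rw [map_mul, map_mul, Subgroup.coe_mul, Subgroup.coe_mul]
    exact commute_of_isCyclic h (e.symm a).2 (e.symm b).2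
  · rw [Nat.card_congr d.toEquiv, DihedralGroup.nat_card] at hMc
    obtain ⟨u, hu, huo⟩ := exists_orderOf_half (p := p) hp2 hy (m := 30) (by omega)
    rcases dvd_of_equiv e alt_five_orders hu with h | h <;> rw [huo] at h <;>
      have := Nat.le_of_dvd (by norm_num) h <;> omega
  · rw [Nat.card_congr d.toEquiv, nat_card_alternatingGroup, Nat.card_fin] at hMc
    norm_num [Nat.factorial] at hMc
  · rw [Nat.card_congr d.toEquiv, Nat.card_eq_fintype_card, Fintype.card_perm, Fintype.card_fin] at hMc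
    norm_num [Nat.factorial] at hMc
  · rw [Nat.card_congr d.toEquiv, nat_card_alternatingGroup, Nat.card_fin] at hMc
    norm_num [Nat.factorial] at hMc

end Cfsg.Agent.Lib.DicksonId
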