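import Cfsg.Agent.Lib.DicksonId.MaxPSLMain
import Cfsg.Agent.Lib.DicksonId.PGLClass
import Cfsg.Agent.Lib.DicksonId.PGLBasic

/-!
Subgroups of `SL(2, F)` generated by two transvections.
-/

set_option autoImplicit false

namespace Cfsg.Agent.Lib.DicksonId

open Matrix Cfsg.Agent.Lib.Linear
open Cfsg.Agent.Lib.DicksonFull (pslExt slExt)

variable {F : Type*} [Field F] [Fintype F]

local notation "SL2" => Matrix.SpecialLinearGroup (Fin 2) F
local notation "M2" => Matrix (Fin 2) (Fin 2) F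
local notation "PSL2" => Matrix.ProjectiveSpecialLinearGroup (Fin 2) F

/-- `(1 0; 1 1)`. -/
abbrev trLow : Matrix.SpecialLinearGroup (Fin 2) F := ⟨!![1, 0; 1, 1], by simp [Matrix.det_fin_two_of]⟩

/-- `(1 lam; 0 1)`. -/
abbrev trUp (lam : F) : Matrix.SpecialLinearGroup (Fin 2) F :=
  ⟨!![1, lam; 0, 1], by simp [Matrix.det_fin_two_of]⟩

/-- The image in `PSL(2, F)` of the group they generate. -/
abbrev trGen (lam : F) : Subgroup (Matrix.ProjectiveSpecialLinearGroup (Fin 2) F) :=
  Subgroup.closure {((trLow : Matrix.SpecialLinearGroup (Fin 2) F) : Matrix.ProjectiveSpecialLinearGroup (Fin 2) F),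
    ((trUp lam : Matrix.SpecialLinearGroup (Fin 2) F) : Matrix.ProjectiveSpecialLinearGroup (Fin 2) F)}

omit [Fintype F] in
theorem closure_set_eq (lam : F) :
    {g : SL2 | (g : M2) = !![1, 0; 1, 1] ∨ (g : M2) = !![1, lam; 0, 1]} = {trLow, trUp lam} := by
  ext g
  exact ⟨fun h => h.imp (fun e => Subtype.ext e) (fun e => Subtype.ext e),
    fun h => h.imp (congrArg Subtype.val) (congrArg Subtype.val)⟩

omit [Fintype F] in
theorem map_closure_tr (lam : F) :
    (Subgroup.closure ({trLow, trUp lam} : Set SL2)).map (QuotientGroup.mk' _) = trGen lam := by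
  rw [MonoidHom.map_closure, Set.image_pair]
  rfl

/-- A subgroup of `SL(2, F)` with even image is the whole preimage. -/
theorem eq_pre_of_map (h2 : (2 : F) ≠ 0) {G : Subgroup SL2}
    (heven : 2 ∣ Nat.card (G.map (QuotientGroup.mk' (Subgroup.center SL2)))) :
    G = pre (G.map (QuotientGroup.mk' (Subgroup.center SL2))) := by
  haveI : Fact (Nat.Prime 2) := ⟨Nat.prime_two⟩
  obtain ⟨⟨_, X, hX, rfl⟩, hord⟩ := exists_prime_orderOf_dvd_card' 2 heven
  replace hord : orderOf ((X : SL2) : PSL2) = 2 := (Subgroup.orderOf_coe _).trans hord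
  have hsq : X * X = Dickson.negI := Subtype.ext (by
    rw [Matrix.SpecialLinearGroup.coe_mul, mul_self_of_trace (trace_of_orderOf_two hord), Dickson.coe_negI])
  have hneg : (Dickson.negI : SL2) ∈ G := hsq ▸ mul_mem hX hX
  refine le_antisymm (Subgroup.le_comap_map _ _) fun y hy => ?_
  obtain ⟨z, hz, hzy⟩ := hy
  obtain ⟨c, hc, rfl⟩ : ∃ c ∈ Subgroup.center SL2, z * c = y :=
    ⟨z⁻¹ * y, (QuotientGroup.eq (a := z) (b := y)).mp hzy, mul_inv_cancel_left z y⟩
  rcases center_cases hc with rfl | rfl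
  · rwa [mul_one]
  · exact mul_mem hz hneg
where
  mul_self_of_trace {X : SL2} (h : Matrix.trace (X : M2) = 0) : (X : M2) * (X : M2) = -1 := by
    rw [sl2_mul_self, h, zero_smul, zero_sub]

omit [Fintype F] in
theorem not_commute_tr (h2 : (2 : F) ≠ 0) {lam : F} (hlam : lam ≠ 0) :
    ¬ Commute ((trLow : SL2) : PSL2) ((trUp lam : SL2) : PSL2) := by
  intro h
  have h' : ((trLow * trUp lam : SL2) : PSL2) = ((trUp lam * trLow : SL2) : PSL2) := by
    rw [QuotientGroup.mk_mul, QuotientGroup.mk_mul]; exact h.eq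
  obtain ⟨c, hc⟩ := (AutPSL.mk_eq_mk_iff _ _).mp h'
  rw [Matrix.SpecialLinearGroup.coe_mul, Matrix.SpecialLinearGroup.coe_mul] at hc
  have e00 := congrFun (congrFun hc 0) 0
  have e10 := congrFun (congrFun hc 1) 0
  simp [Matrix.mul_apply, Fin.sum_univ_two] at e00 e10
  exact hlam (by linear_combination e00 - e10)

variable {p : ℕ} [hp : Fact p.Prime] [CharP F p]

omit [Fintype F] hp in
theorem tr_pow_p (lam : F) : ((trUp lam : SL2) : PSL2) ^ p = 1 := by
  have hpow : ∀ n : ℕ, ((trUp lam ^ n : SL2) : M2) = !![1, (n : F) * lam; 0, 1] := by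
    intro n
    induction n with
    | zero => simp [Matrix.one_fin_two]
    | succ n ih =>
      rw [pow_succ, Matrix.SpecialLinearGroup.coe_mul, ih]
      ext i j
      fin_cases i <;> fin_cases j <;> simp [Matrix.mul_apply, Fin.sum_univ_two]
      ring
  rw [← QuotientGroup.mk_pow]
  exact DicksonFull.mk_eq_one_of_smul (a := 1) (by
    rw [hpow, CharP.cast_eq_zero, zero_mul, one_smul, Matrix.one_fin_two])

omit [Fintype F] hp in
theorem trLow_pow_p : ((trLow : SL2) : PSL2) ^ p = 1 := by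
  have hpow : ∀ n : ℕ, ((trLow ^ n : SL2) : M2) = !![1, 0; (n : F), 1] := by
    intro n
    induction n with
    | zero => simp [Matrix.one_fin_two]
    | succ n ih =>
      rw [pow_succ, Matrix.SpecialLinearGroup.coe_mul, ih]
      ext i j
      fin_cases i <;> fin_cases j <;> simp [Matrix.mul_apply, Fin.sum_univ_two]
  rw [← QuotientGroup.mk_pow]
  exact DicksonFull.mk_eq_one_of_smul (a := 1) (by
    rw [hpow, CharP.cast_eq_zero, one_smul, Matrix.one_fin_two])

omit [Fintype F] in
/-- An element of odd order of a `PGL` range lies in the `PSL` range. -/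
theorem mem_pslExt_of_pow (hp2 : p ≠ 2) {k : ℕ} {φ : GaloisField p k →+* F}
    {ψ : Matrix.ProjGenLinGroup (Fin 2) (GaloisField p k) →* PSL2} (hψ : IsPglHom φ ψ)
    {u : PSL2} (hu : u ∈ ψ.range) (hup : u ^ p = 1)
    (hidx : ((Matrix.ProjGenLinGroup.mk.comp Matrix.SpecialLinearGroup.toGL).range :
      Subgroup (Matrix.ProjGenLinGroup (Fin 2) (GaloisField p k))).index = 2) :
    u ∈ (pslExt φ).range := by
  obtain ⟨z, rfl⟩ := hu
  have hz : z ^ p = 1 := hψ.injective (by rw [map_pow, hup, map_one])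
  obtain ⟨t, ht⟩ := hp.out.odd_of_ne_two hp2
  set L := ((Matrix.ProjGenLinGroup.mk.comp Matrix.SpecialLinearGroup.toGL).range :
      Subgroup (Matrix.ProjGenLinGroup (Fin 2) (GaloisField p k)))
  have hzL : z ∈ L := by
    have h1 : (z ^ (t + 1)) * (z ^ (t + 1)) ∈ L := Subgroup.mul_self_mem_of_index_two hidx _
    rwa [← pow_add, show t + 1 + (t + 1) = p + 1 by omega, pow_succ, hz, one_mul] at h1
  obtain ⟨w, hw⟩ := hzL
  exact ⟨_, ((congrArg ψ hw.symm).trans (hψ.comp_toGL w)).symm⟩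

/-- The image is everything, or `p = 3` and it is icosahedral. -/
theorem trGen_cases (hp2 : p ≠ 2) {lam : F} (hlam : lam ≠ 0) (hgen : Subfield.closure ({lam} : Set F) = ⊤) :
    trGen lam = ⊤ ∨ (p = 3 ∧ Nonempty (trGen lam ≃* alternatingGroup (Fin 5))) := by
  have h2 : (2 : F) ≠ 0 := two_ne_zero_of_char (p := p) hp2
  have hl : ((trLow : SL2) : PSL2) ∈ trGen lam := Subgroup.subset_closure (Or.inl rfl)
  have hu : ((trUp lam : SL2) : PSL2) ∈ trGen lam := Subgroup.subset_closure (Or.inr rfl)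
  have hnc := not_commute_tr h2 hlam
  have hu1 : ((trUp lam : SL2) : PSL2) ≠ 1 := fun h => hnc (h ▸ Commute.one_right _)
  have hpG : p ∣ Nat.card (trGen lam) := by
    have h1 := Subgroup.orderOf_dvd_natCard _ hu
    rwa [orderOf_eq_prime (tr_pow_p lam) hu1] at h1
  obtain ⟨f, hf, hq⟩ := exists_card_eq_pow (F := F) p
  rcases classify (p := p) (trGen lam) with ⟨-, h⟩ | ⟨j, hj, -, ⟨d⟩⟩ | ⟨P, hP⟩ | ⟨h, -⟩ | ⟨h, -⟩ |
      ⟨h, hd⟩ | ⟨k, hk, hk3, -, g, φ, hφ⟩
  · exact absurd hpG h
  · rw [Nat.card_congr d.toEquiv, DihedralGroup.nat_card] at hpG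
    exact absurd (((Nat.coprime_primes hp.out Nat.prime_two).mpr hp2).dvd_of_dvd_mul_left hpG) hj
  · exfalso
    have hodd : Fintype.card F % 2 = 1 := hq ▸ Nat.odd_iff.mp (hp.out.odd_of_ne_two hp2).pow
    have h1 := Fintype.one_lt_card (α := F)
    rcases (show Fintype.card F = 3 ∨ 5 ≤ Fintype.card F by omega) with e | e
    · haveI : Fact (Nat.Prime 3) := ⟨Nat.prime_three⟩
      have hc := card_normalizer_sylow (p := p) P
      rw [gcd_two_eq (p := p), if_neg hp2, e] at hc
      haveI := isCyclic_of_prime_card (p := 3)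
        (α := Subgroup.normalizer ((P : Subgroup PSL2) : Set PSL2)) (by omega)
      letI := IsCyclic.commGroup (α := Subgroup.normalizer ((P : Subgroup PSL2) : Set PSL2))
      exact hnc (congrArg Subtype.val (mul_comm
        (⟨_, hP hl⟩ : Subgroup.normalizer ((P : Subgroup PSL2) : Set PSL2)) ⟨_, hP hu⟩))
    · exact hnc ((borel_props hp2 e P).1 _ _ (hP hl) (hP hu) trLow_pow_p (tr_pow_p lam))
  · exact absurd hpG h
  · exact absurd hpG h
  · exact Or.inr ⟨h.resolve_left (fun h => h hpG), hd⟩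
  left
  letI : Fintype (GaloisField p k) := Fintype.ofFinite _
  have hle : conjG g (trGen lam) ≤ (pslExt φ).range := by
    rcases hφ with e | ⟨-, -, ψ, hψ, e⟩
    · exact e.le
    · rw [conjG, MonoidHom.map_closure, Set.image_pair, Subgroup.closure_le]
      rintro _ (rfl | rfl)
      · refine mem_pslExt_of_pow hp2 hψ (e ▸ Subgroup.mem_map_of_mem _ hl) ?_ (index_range hp2)
        rw [← map_pow, trLow_pow_p, map_one]
      · refine mem_pslExt_of_pow hp2 hψ (e ▸ Subgroup.mem_map_of_mem _ hu) ?_ (index_range hp2)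
        rw [← map_pow, tr_pow_p, map_one]
  have hm : ((AutPSL.conjSL g (trLow * trUp lam) : SL2) : PSL2) ∈ (pslExt φ).range := by
    refine hle ⟨((trLow * trUp lam : SL2) : PSL2), ?_, AutPSL.conjAut_mk g _⟩
    rw [QuotientGroup.mk_mul]
    exact mul_mem hl hu
  obtain ⟨w, hw⟩ := hm
  obtain ⟨W, rfl⟩ := QuotientGroup.mk_surjective w
  rw [DicksonFull.pslExt_mk] at hw
  obtain ⟨s, hs⟩ := (AutPSL.mk_eq_mk_iff _ _).mp hw
  have htr : Matrix.trace ((AutPSL.conjSL g (trLow * trUp lam) : SL2) : M2) = 2 + lam := by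
    rw [AutPSL.coe_conjSL, Matrix.trace_mul_comm, ← Matrix.mul_assoc, Units.inv_mul, Matrix.one_mul,
      Matrix.SpecialLinearGroup.coe_mul, Matrix.trace_fin_two]
    simp [Matrix.mul_apply, Fin.sum_univ_two]
    ring
  have hd := congrArg Matrix.det hs
  rw [Matrix.det_smul, (AutPSL.conjSL g (trLow * trUp lam)).2, (slExt φ W).2, Fintype.card_fin, mul_one] at hd
  have hT : Matrix.trace ((slExt φ W : SL2) : M2) ∈ φ.fieldRange := by
    rw [Matrix.trace_fin_two, DicksonFull.slExt_apply, DicksonFull.slExt_apply, ← map_add]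
    exact ⟨_, rfl⟩
  have hlr : lam ∈ φ.fieldRange := by
    rw [hs, Matrix.trace_smul, smul_eq_mul] at htr
    have : lam = s * Matrix.trace ((slExt φ W : SL2) : M2) - 2 := by linear_combination (-1) * htr
    rw [this]
    refine sub_mem (mul_mem ?_ hT) (ofNat_mem _ 2)
    rcases sq_eq_one_iff.mp hd.symm with rfl | rfl
    · exact one_mem _
    · exact neg_mem (one_mem _)
  have hsurj : Function.Surjective φ := fun x => by
    have h1 : x ∈ φ.fieldRange := (show (⊤ : Subfield F) ≤ φ.fieldRange by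
      rw [← hgen, Subfield.closure_le]; simpa using hlr) (Subfield.mem_top x)
    exact h1
  have hcardF : Fintype.card F = p ^ k := by
    rw [← card_galois (p := p) hk]
    exact (Fintype.card_of_bijective ⟨φ.injective, hsurj⟩).symm
  apply Subgroup.eq_top_of_card_eq
  have h1 := two_mul_card_PSL (F := F) hp2
  rw [hcardF] at h1
  rcases hφ with e | ⟨-, hs', -⟩
  · have h3 := two_mul_card_range hp2 hk φ
    rw [← e, card_conjG] at h3
    omega
  · exfalso
    have h3 := even_of_isSquare_emb hp2 hk hcardF dvd_rfl φ hs'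
    have := Nat.le_of_dvd hk h3
    omega
where
  index_range {k : ℕ} [Fintype (GaloisField p k)] (hp2 : p ≠ 2) :
      ((Matrix.ProjGenLinGroup.mk.comp Matrix.SpecialLinearGroup.toGL).range :
        Subgroup (Matrix.ProjGenLinGroup (Fin 2) (GaloisField p k))).index = 2 := index_imSL (p := p) hp2

end Cfsg.Agent.Lib.DicksonId
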