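import Cfsg.Agent.Lib.DicksonId.Transvections

/-!
The exceptional pair of transvections over the field with nine elements.
-/

set_option autoImplicit false

namespace Cfsg.Agent.Lib.DicksonId

open Matrix Cfsg.Agent.Lib.Linear
open Cfsg.Agent.Lib.DicksonFull (mk_pow_two mk_pow_three mk_pow_five)

variable {F : Type*} [Field F] [Fintype F]

local notation "SL2" => Matrix.SpecialLinearGroup (Fin 2) F
local notation "M2" => Matrix (Fin 2) (Fin 2) F
local notation "PSL2" => Matrix.ProjectiveSpecialLinearGroup (Fin 2) F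

/-- A field generated by a root of `x ^ pⁿ = x` has at most `pⁿ` elements. -/
theorem card_le_of_gen_fix {p : ℕ} [Fact p.Prime] [CharP F p] {lam : F}
    (hgen : Subfield.closure ({lam} : Set F) = ⊤) {n : ℕ} (hn : 0 < n) (h : lam ^ p ^ n = lam) :
    Fintype.card F ≤ p ^ n := by
  classical
  have hall : ∀ x : F, x ^ p ^ n = x := fun x => by
    have hle : Subfield.closure ({lam} : Set F) ≤ (iterateFrobenius F p n).eqLocusField (RingHom.id F) := by
      rw [Subfield.closure_le, Set.singleton_subset_iff]
      show iterateFrobenius F p n lam = lam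
      rw [iterateFrobenius_def, h]
    have h1 : iterateFrobenius F p n x = x := (hgen ▸ hle) (Subfield.mem_top x)
    rwa [iterateFrobenius_def] at h1
  obtain ⟨g, hg⟩ := IsCyclic.exists_ofOrder_eq_natCard (α := Fˣ)
  have h2 : 2 ≤ p ^ n := (Fact.out : p.Prime).two_le.trans (Nat.le_self_pow hn.ne' p)
  have hd : orderOf g ∣ p ^ n - 1 := orderOf_dvd_of_pow_eq_one (by
    apply Units.ext
    rw [Units.val_pow_eq_pow_val, Units.val_one]
    apply mul_left_cancel₀ g.ne_zero
    rw [← pow_succ', mul_one, Nat.sub_add_cancel (by omega : 1 ≤ p ^ n), hall])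
  rw [hg, Nat.card_eq_fintype_card, Fintype.card_units] at hd
  have := Nat.le_of_dvd (by omega) hd
  omega

variable [CharP F 3]

theorem three_eq_zero : (3 : F) = 0 := by exact_mod_cast CharP.cast_eq_zero F 3

/-- For `λ² = -1` in characteristic three the group is small. -/
theorem trGen_small {lam : F} (h : lam ^ 2 = -1) : Nat.card (trGen lam) ≤ 60 := by
  have h3 := three_eq_zero (F := F)
  let Y : SL2 := ⟨!![lam - 1, 2 * lam + 1; lam - 2, 0], by
    rw [Matrix.det_fin_two_of]
    linear_combination (-2) * h + (lam + 1) * h3⟩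
  have hrel : ∀ w ∈ Spectrum.TinyEnum.triRels,
      FreeGroup.lift ![((trLow : SL2) : PSL2), (Y : PSL2)] w = 1 := by
    rintro w (rfl | rfl | rfl)
    · simpa using mk_pow_three (x := (trLow : SL2)) (by
        rw [Matrix.trace_fin_two]; simp; linear_combination h3)
    · simpa using mk_pow_five (x := Y) (by
        rw [Matrix.trace_fin_two]; simp [Y]; linear_combination h - lam * h3)
    · simp only [map_pow, map_mul, FreeGroup.lift_apply_of]
      show (((trLow : SL2) : PSL2) * (Y : PSL2)) ^ 2 = 1
      rw [← QuotientGroup.mk_mul]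
      refine mk_pow_two ?_
      rw [Matrix.SpecialLinearGroup.coe_mul, Matrix.trace_fin_two]
      simp [Y, Matrix.mul_apply, Fin.sum_univ_two]
      linear_combination lam * h3
  obtain ⟨e⟩ := Spectrum.TinyEnum.presentation_a5
  let φ := (PresentedGroup.toGroup hrel).comp e.symm.toMonoidHom
  have hl : ((trLow : SL2) : PSL2) ∈ φ.range := ⟨e (PresentedGroup.of 0), by simp [φ]⟩
  have hY : (Y : PSL2) ∈ φ.range := ⟨e (PresentedGroup.of 1), by simp [φ]⟩
  have hle : trGen lam ≤ φ.range := by
    rw [Subgroup.closure_le]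
    rintro _ (rfl | rfl)
    · exact hl
    · have hU : ((trUp lam : SL2) : PSL2) = ((Y * Y * trLow : SL2) : PSL2) := by
        rw [AutPSL.mk_eq_mk_iff]
        refine ⟨-1, ?_⟩
        rw [Matrix.SpecialLinearGroup.coe_mul, Matrix.SpecialLinearGroup.coe_mul]
        ext i j
        fin_cases i <;> fin_cases j <;> simp [Y, Matrix.mul_apply, Fin.sum_univ_two]
        · linear_combination (5 : F) * h - (2 * lam + 2) * h3
        · linear_combination (2 : F) * h - h3
        · linear_combination (lam ^ 2 - 2 * lam) * h3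
        · linear_combination (2 : F) * h - (lam + 1) * h3
      rw [hU, QuotientGroup.mk_mul, QuotientGroup.mk_mul]
      exact mul_mem (mul_mem hY hY) hl
  have h60 : Nat.card (alternatingGroup (Fin 5)) = 60 := by
    rw [nat_card_alternatingGroup, Nat.card_fin]; rfl
  exact h60 ▸ (Subgroup.card_le_of_le hle).trans
    (Nat.card_le_card_of_surjective _ φ.rangeRestrict_surjective)

/-- The icosahedral case happens only over nine elements. -/
theorem exc_of_alt_five {lam : F} (hlam : lam ≠ 0) (hgen : Subfield.closure ({lam} : Set F) = ⊤)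
    (he : Nonempty (trGen lam ≃* alternatingGroup (Fin 5))) : Fintype.card F = 9 ∧ lam ^ 2 = -1 := by
  haveI : Fact (Nat.Prime 2) := ⟨Nat.prime_two⟩
  haveI : Fact (Nat.Prime 3) := ⟨Nat.prime_three⟩
  haveI : Fact (Nat.Prime 5) := ⟨by norm_num⟩
  have h3 := three_eq_zero (F := F)
  have h2 : (2 : F) ≠ 0 := two_ne_zero_of_char (p := 3) (by norm_num)
  obtain ⟨f, hf, hq⟩ := exists_card_eq_pow (F := F) 3
  have hsmall : ¬ lam ^ 3 = lam := fun h => by
    have hc := card_le_of_gen_fix (p := 3) hgen one_pos (by rwa [pow_one])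
    have hq3 : Fintype.card F = 3 := by
      have : 3 ^ 1 ≤ 3 ^ f := Nat.pow_le_pow_right (by norm_num) hf
      omega
    have h1 := Subgroup.card_le_card_group (trGen lam)
    have h12 := two_mul_card_PSL (F := F) (p := 3) (by norm_num)
    rw [hq3] at h12
    rw [card_of_equiv_alt_five he] at h1
    omega
  obtain ⟨e⟩ := he
  have hall : ∀ a : alternatingGroup (Fin 5), a ^ 2 = 1 ∨ a ^ 3 = 1 ∨ a ^ 5 = 1 := by decide +kernel
  have key : ∀ X : SL2, (X : PSL2) ∈ trGen lam → (X : PSL2) ≠ 1 → Matrix.trace (X : M2) = 0 ∨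
      Matrix.trace (X : M2) ^ 2 = 1 ∨ Matrix.trace (X : M2) ^ 2 = Matrix.trace (X : M2) + 1 ∨
      Matrix.trace (X : M2) ^ 2 = -Matrix.trace (X : M2) + 1 := by
    intro X hX hX1
    have hpow : ∀ n : ℕ, (e ⟨_, hX⟩) ^ n = 1 → (X : PSL2) ^ n = 1 := fun n hn => by
      rw [← map_pow] at hn
      exact congrArg Subtype.val (e.injective (hn.trans (map_one e).symm))
    rcases hall (e ⟨_, hX⟩) with h | h | h
    · exact Or.inl (trace_of_orderOf_two (orderOf_eq_prime (hpow 2 h) hX1))
    · exact Or.inr (Or.inl (trace_of_orderOf_three (orderOf_eq_prime (hpow 3 h) hX1)))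
    · rcases trace_of_orderOf_five (orderOf_eq_prime (hpow 5 h) hX1) with h' | h'
      · exact Or.inr (Or.inr (Or.inl h'))
      · exact Or.inr (Or.inr (Or.inr (by rw [neg_sq] at h'; exact h')))
  have hneg : ((trUp (-lam) : SL2) : PSL2) = ((trUp lam : SL2) : PSL2)⁻¹ := by
    rw [← QuotientGroup.mk_inv]
    congr 1
    apply Subtype.ext
    ext i j
    fin_cases i <;> fin_cases j <;> simp [Matrix.adjugate_fin_two]
  have hl : ((trLow : SL2) : PSL2) ∈ trGen lam := Subgroup.subset_closure (Or.inl rfl)
  have hu : ((trUp lam : SL2) : PSL2) ∈ trGen lam := Subgroup.subset_closure (Or.inr rfl)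
  have hnc := not_commute_tr h2 hlam
  have htr : ∀ m : F, Matrix.trace ((trLow * trUp m : SL2) : M2) = 2 + m := fun m => by
    rw [Matrix.SpecialLinearGroup.coe_mul, Matrix.trace_fin_two]
    simp [Matrix.mul_apply, Fin.sum_univ_two]
    ring
  have k1 := key (trLow * trUp lam) (by rw [QuotientGroup.mk_mul]; exact mul_mem hl hu) (fun h => hnc (by
    rw [QuotientGroup.mk_mul, mul_eq_one_iff_eq_inv] at h
    rw [h]; exact (Commute.refl _).inv_left))
  have k2 := key (trLow * trUp (-lam)) (by rw [QuotientGroup.mk_mul, hneg]; exact mul_mem hl (inv_mem hu))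
    (fun h => hnc (by
      rw [QuotientGroup.mk_mul, hneg, mul_inv_eq_one] at h
      rw [h]))
  rw [htr] at k1 k2
  have hzero : ∀ a b : F, a * b = 0 → a = 0 ∨ b = 0 := fun a b h => mul_eq_zero.mp h
  have hsq : lam ^ 2 = -1 := by
    rcases k1 with h | h | h | h
    · exact absurd (show lam ^ 3 = lam by
        rw [show lam = -2 by linear_combination h]; linear_combination (-2 : F) * h3) hsmall
    · rcases hzero lam (lam - 2) (by linear_combination h - (2 * lam + 1) * h3) with h' | h'
      · exact absurd h' hlam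
      · exact absurd (show lam ^ 3 = lam by
          rw [sub_eq_zero.mp h']; linear_combination (2 : F) * h3) hsmall
    · linear_combination h - lam * h3
    rcases k2 with h' | h' | h' | h'
    · exact absurd (show lam ^ 3 = lam by
        rw [show lam = 2 by linear_combination (-1) * h']; linear_combination (2 : F) * h3) hsmall
    · rcases hzero lam (lam + 2) (by linear_combination h' + (2 * lam - 1) * h3) with e' | e'
      · exact absurd e' hlam
      · exact absurd (show lam ^ 3 = lam by
          rw [eq_neg_of_add_eq_zero_left e']; linear_combination (-2 : F) * h3) hsmall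
    · linear_combination h' + lam * h3
    · exfalso
      rcases hzero 2 lam (by linear_combination h' - h + 4 * lam * h3) with e' | e'
      · exact h2 e'
      · exact hlam e'
  refine ⟨?_, hsq⟩
  have hle := card_le_of_gen_fix (p := 3) hgen (n := 2) two_pos (by
    norm_num
    rw [show lam ^ 9 = lam * ((lam ^ 2) * (lam ^ 2)) ^ 2 by ring, hsq]
    ring)
  have hne : Fintype.card F ≠ 3 := fun e3 => hsmall (by
    have := FiniteField.pow_card lam
    rwa [e3] at this)
  have hf2 : f ≤ 2 := (Nat.pow_le_pow_iff_right (by norm_num : 1 < 3)).mp (by rw [← hq]; exact hle)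
  interval_cases f
  · exact absurd (by rw [hq]; norm_num) hne
  · rw [hq]; norm_num

end Cfsg.Agent.Lib.DicksonId
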